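import Cfsg.Agent.Lib.DCE.Check

/-!
Facts of the closed double coset enumeration at index 8835156 (generated data).
-/

namespace CfsgLib.KnownB.LyMult

open CfsgLib.PresCert CfsgLib.DCE

/-- facts -/
def cf0 : List Fact :=
  [⟨0, 0, 0, 0, [0], [0], [], .base⟩,
   ⟨0, 0, 0, 0, [2], [2], [], .base⟩,
   ⟨0, 0, 0, 0, [4], [4], [], .base⟩,
   ⟨0, 0, 0, 0, [6], [6], [], .base⟩,
   ⟨0, 0, 0, 0, [], [], [], .base⟩,
   ⟨0, 0, 0, 0, [], [], [], .base⟩,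
   ⟨0, 0, 0, 0, [], [], [], .base⟩,
   ⟨0, 0, 0, 0, [], [], [], .base⟩,
   ⟨0, 0, 0, 0, [], [], [], .base⟩,
   ⟨1, 0, 1, 0, [], [], [], .defEdge⟩,
   ⟨0, 1, 1, 0, [0,0,0], [2,2,0,3,3,0,2,2,0,3,3], [], .loop 0 [] 140 0 1 false [.stab 0 true, .edge 9 [7,5,7]] [.edge 9 []] []⟩,
   ⟨0, 1, 1, 0, [0,0,0,0,0,2,0,2,0,3,3], [0,2,0,2,0,3,3], [], .loop 0 [2] 140 0 1 false [.stab 1 true, .edge 9 []] [.stab 0 false, .stab 1 false, .stab 1 false, .stab 1 false, .edge 9 [5,5,7,6,5]] []⟩,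
   ⟨1, 0, 1, 1, [], [0,0,0,0,0,0], [], .loop 0 [0,0,6,5,2,0,3,4,0] 78 1 1 false [.lett 0, .stab 3 false] [.lett 1, .stab 3 false, .edge 9 [0,5,5,0,6,0]] [6,7,6,3,2,6,7]⟩,
   ⟨1, 1, 1, 0, [4,4,4,1,4,0,3,4,4,4,4,2,5,1,5,0,4,1,4,0,5,1,5,0,4,1,4,0,2,0,2,0,3,3,0,2,2,0,3,3,1,4,4,0,3,4,4,4,2,0,0,0,0,2,0,2,0,3,0,3,3,6,4,1,2,4,0,7], [4,4,4,1,4,0,3,4,4,4,4,2,5,1,5,0,4,1,4,0,5,1,5,0,4,1,4,0,2,0,2,0,3,3,0,2,2,0,3,3,4,4,4,3,4,4,4,4,2,2,4,4,3,0,0,0,2,0,2,0,3,3,6,4,3,0,4,2,1,6], [6,4,3,0,4,6], .loop 0 [4,4,4,3,4,4,2,2,4,4,3,5,1,5,0,4,1,4,0,0,0,0,0,0,0,2,0,3,4,4,3,4,2,2,4,4,4,3,0,0,0,0,0,2,0,2,0,3,6,4,2,6,4,1,6] 10 4 24 false [.lett 1, .lett 2, .lett 5, .lett 7, .stab 2 false, .stab 2 false, .stab 1 false, .stab 1 false, .stab 1 false, .stab 0 false, .stab 3 false, .stab 2 false, .stab 3 false, .stab 1 false, .edge 9 [1,1,7,5,0,6,5], .lett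 1, .lett 6, .lett 3, .lett 5, .lett 1, .lett 2, .lett 5, .lett 7, .lett 2, .lett 5, .lett 3, .lett 1, .lett 5, .lett 0, .lett 3, .lett 0, .lett 2, .lett 0, .lett 3, .stab 11 false, .stab 10 false, .stab 11 false, .stab 11 false, .stab 10 false, .stab 10 false, .stab 10 false] [.lett 4, .lett 0, .lett 6, .lett 4, .stab 2 false, .stab 2 false, .stab 2 false, .stab 0 false, .stab 3 false, .stab 2 false, .stab 3 false, .stab 2 false, .stab 3 false, .edge 12 [1,2,6,3,5,0,7,6], .lett 2, .lett 2, .lett 0, .lett 2, .lett 4, .lett 2, .lett 2, .lett 5, .lett 1, .lett 4, .lett 0, .lett 6, .lett 4, .lett 1, .lett 2, .lett 4, .lett 1, .lett 6, .lett 4, .lett 0] [1,3,5,7,2,1]⟩,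
   ⟨1, 1, 1, 0, [4,4,4,1,4,4,0,3,4,4,4,4,2,2,4,3,5,1,5,0,4,1,4,0,5,1,5,0,4,1,4,0,0,0,4,4,4,1,4,4,0,2,4,4,4,3,5,1,5,0,4,1,4,0,0,0,0,2,2,0,3,0,2], [4,1,4,4,4,4,0,3,4,4,4,2,2,4,4,3,5,1,5,0,4,1,4,0,5,1,5,0,4,1,4,0,5,1,5,0,4,1,4,0,0,0,0,0,0,0,4,1,4,0,3,4,4,2,0,0,2,2,0,3,0,3,3], [3], .loop 0 [4,4,4,4,3,4,2,2,4,4,3,5,1,5,0,4,1,4,0,5,1,5,0,4,1,4,0,5,1,5,0,4,1,4,0,0,2,0,3,4,1,4,0,2,4,4,4,2,0,3,0,3,0,2,6,4,0,4,4,2,6] 54 0 53 false [.stab 3 false, .stab 2 false, .stab 1 false, .stab 2 false, .stab 1 false, .stab 2 false, .stab 0 false, .stab 1 false, .stab 2 false, .stab 3 false, .edge 9 [1,5,6,2,3,5,5,5,6], .lett 2, .lett 4, .lett 4, .lett 5, .lett 7, .lett 1, .lett 5, .lett 1, .lett 2, .lett 5, .lett 7, .stab 10 false, .stab 11 false, .stab 11 false, .stab 10 false, .stab 11 false, .stab 11 false, .stab 10 false, .edge 13 [5,5,6,0,7,6,5,0,6,7],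 .lett 1, .lett 6, .lett 3, .lett 5, .lett 1, .lett 2, .lett 5, .lett 7, .lett 2, .lett 5, .lett 3, .lett 1, .lett 5, .lett 0, .lett 3, .lett 0, .lett 2, .lett 0, .lett 3, .stab 10 false, .stab 11 false, .stab 11 false, .edge 13 [5,0,6,7,5,6,2,7], .lett 1, .lett 5, .lett 7, .lett 0, .lett 5, .lett 3, .lett 0, .lett 5, .lett 7, .lett 1, .lett 5, .lett 0, .lett 4, .lett 3, .lett 3, .lett 5, .lett 3, .lett 1, .lett 3, .lett 3, .stab 11 false] [.stab 3 false, .stab 2 false, .stab 1 false, .stab 2 false, .stab 1 false, .stab 2 false, .stab 0 false, .stab 1 false, .stab 2 false, .stab 3 false, .edge 9 [1,5,6,2,3,5,5,5,6], .lett 2, .lett 4, .lett 4] [3,7,1,5,3,6,7]⟩,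
   ⟨0, 1, 1, 0, [4,4,4,3,4,4,2,2,4,4,3,5,1,5,0,4,1,4,0,0,0,0,0,0,0,2,0,3,4,4,3,4,2,2,4,4,4,0,2,0,3,3,0], [4,1,4,4,4,4,0,3,4,4,4,2,2,4,4,3,5,1,5,0,4,1,4,0,5,1,5,0,4,1,4,0,5,1,5,0,4,1,4,0,0,0,0,0,0,0,4,1,5,0,4,1,4,0,0,0,2,2,0,3,3,0], [], .loop 0 [4,4,4,1,4,4,4,4,0,3,4,4,4,4,2,2,4,4,3,5,1,5,0,4,1,4,0,5,1,5,0,4,1,4,0,5,1,5,0,4,1,4,0,5,1,5,0,4,1,4,0,0,0,0,0,0,4,2,4,4,3,0,2,0,3,3,6,4,2,5,5,1,7] 79 12 10 false [.lett 2, .lett 2, .stab 3 false, .stab 2 false, .stab 2 false, .stab 0 false, .stab 3 false, .stab 2 false, .stab 2 false, .stab 0 false, .stab 2 false, .stab 3 false, .edge 12 [5,3,3,6,7,0,5,7], .lett 3, .lett 3, .lett 1, .lett 2, .lett 2, .lett 1, .lett 1] [.lett 0, .lett 2, .lett 2, .stab 3 false, .stab 2 false, .stab 2 false, .stab 0 false, .stab 3 false, .stab 2 false, .stab 2 false, .stab 0 false, .stab 2 false, .stab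 3 false, .stab 1 false, .edge 9 [3,6,4,5,7,0,6,7,5], .lett 3, .lett 3, .lett 0, .lett 2, .lett 2, .stab 10 false, .stab 11 false, .stab 11 false, .edge 14 [5,6,5,7,1,3,0]] []⟩]

/-- facts -/
def cf1 : List Fact :=
  [⟨1, 1, 2, 0, [], [], [0,0,0,0,3,6], .defEdge⟩,
   ⟨0, 2, 2, 0, [0,0,2,0,3], [0], [], .loop 1 [0,0,2,2,0,3,0,3,0,2,6] 140 0 1 false [.stab 10 true, .edge 16 [5,5,5,6,7,5]] [.edge 16 [5,6,7]] []⟩,
   ⟨0, 2, 2, 0, [0,0,2,0,2,0,3,3], [0,0,0,2,0,3], [], .loop 1 [0,0,0,0,0,0,6,4,0,2,5,2,4] 140 0 1 false [.stab 11 true, .edge 16 [3,5,6,7,1,5,6,1,7]] [.stab 10 false, .stab 11 false, .stab 11 false, .edge 16 [3,5,2,6,0,4]] []⟩,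
   ⟨1, 1, 2, 1, [], [0,0,0,0,0,0], [0,0,0,0,3,6], .loop 1 [4,4,4,1,4,4,0,3,4,4,4,4,2,2,4,3,5,1,5,0,4,1,4,0,5,1,5,0,4,1,4,0,0,0,4,4,1,4,4,4,0,3,4,4,2,2,0,3,6,5,2,2,1,3] 78 0 2 false [.lett 0, .lett 0, .stab 15 false, .stab 15 false, .stab 15 false, .stab 15 false, .stab 10 false, .stab 15 false, .stab 15 false, .stab 11 false, .stab 10 false, .stab 15 false] [.stab 15 false, .stab 15 false, .stab 15 false, .stab 15 false, .stab 10 false, .stab 15 false, .stab 15 false, .stab 11 false, .stab 10 false, .stab 15 false, .edge 16 [3,5,6,7,6,5]] [3,5,5,5,6,7,6,5]⟩,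
   ⟨0, 2, 2, 0, [1,4,4,4,0,3,4,4,2,2,4,4,4,4,3,5,1,5,0,4,1,4,0,5,1,5,0,4,1,4,0,0,2,0,2,0,3,3,0,2,2,0,3,3,4,4,4,1,4,4,4,4,0,2,4,4,4,2,0,3,0,3,0,6,5,2,2,0,5,2,0], [4,4,4,4,3,4,2,2,4,4,3,5,1,5,0,4,1,4,0,5,1,5,0,4,1,4,0,5,1,5,0,4,1,4,0,0,2,0,3,3,4,2,5,1,5,0,4,1,4,0,0,2,6,4,0,3,1,4,6], [], .loop 0 [4,3,4,4,4,2,2,4,4,4,3,0,0,2,0,3,0,4,4,4,3,4,4,2,2,4,3,0,0,2,2,6,4,1,5,0,4,7] 13 4 39 false [.lett 2, .lett 2, .lett 1, .lett 3, .lett 1, .lett 2, .lett 2, .lett 5, .lett 0, .lett 4, .lett 1, .lett 5, .lett 6, .lett 5, .lett 2, .lett 2, .lett 1, .lett 4, .lett 2, .stab 2 false, .stab 3 false, .stab 2 false, .stab 3 false, .stab 2 false, .stab 1 false, .stab 2 false, .stab 3 false, .edge 12 [5,3,4,7,3,6], .lett 7, .lett 3, .stab 11 false, .stab 15 false, .stab 10 false, .stab 15 false, .stab 11 false, .stab 10 false, .stab 10 false, .stab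 15 false, .stab 11 false, .stab 11 false, .edge 19 [], .lett 5, .lett 1, .lett 4, .lett 2, .lett 5, .lett 7, .lett 4, .lett 1, .lett 4, .lett 0, .lett 4, .lett 3, .lett 1, .lett 3, .lett 1, .lett 2] [.stab 2 false, .stab 1 false, .stab 1 false, .stab 2 false, .stab 1 false, .stab 1 false, .stab 1 false, .stab 1 false, .stab 2 false, .stab 3 false, .edge 12 [5,5,6,7,2,7,2,6], .lett 7, .lett 3, .stab 11 false, .stab 15 false, .stab 10 false, .stab 15 false, .stab 11 false, .stab 11 false, .stab 11 false, .stab 15 false, .stab 11 false, .stab 11 false, .edge 19 [5,5,5,5,7]] []⟩,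
   ⟨1, 2, 2, 1, [4,3,4,4,4,2,2,4,4,4,3,0,0,2,0,3,0,4,1,4,4,4,4,0,2,4,4,3,0,2,0,3,0,2,6,4,3,1,4,4], [4,4,4,4,3,4,2,2,4,4,3,5,1,5,0,4,1,4,0,5,1,5,0,4,1,4,0,5,1,5,0,4,1,4,0,0,2,0,3,4,4,1,4,0,5,1,5,0,4,1,4,0,0,6,4,3,0,4,0,6,4,3], [4,4,4,4,0,0,0,0,6], .loop 1 [4,4,4,4,3,4,2,2,4,4,3,5,1,5,0,4,1,4,0,5,1,5,0,4,1,4,0,5,1,5,0,4,1,4,0,0,2,0,3,4,1,4,4,4,0,2,4,3,0,0,0,0,2,0,2,0,3,0,3,6,4,0,5,3,7,4,1] 80 11 30 false [.lett 0, .lett 6, .lett 4, .lett 1, .lett 2, .lett 4, .lett 1, .lett 6, .lett 4, .lett 0, .stab 11 false, .stab 15 false, .stab 11 false, .stab 11 false, .stab 15 false, .stab 15 false, .stab 11 false, .stab 15 false, .stab 15 false, .stab 11 false, .stab 11 false, .edge 19 [2,6,2,7,3,7,5,7], .lett 2, .lett 1, .lett 3, .lett 1, .lett 2, .lett 1, .lett 4, .lett 0, .lett 2, .lett 4, .lett 3, .lett 6, .lett 4, .lett 3, .lett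 0, .lett 4, .lett 2, .lett 7, .lett 0, .stab 20 false, .stab 20 false, .stab 18 false, .stab 17 false] [.lett 5, .lett 0, .lett 4, .lett 3, .lett 3, .lett 5, .lett 3, .lett 1, .lett 3, .lett 3, .stab 11 false, .stab 15 false, .stab 11 false, .stab 15 false, .stab 11 false, .stab 10 false, .stab 10 false, .stab 15 false, .stab 15 false, .edge 16 [0,2,2,2,5,2,6], .lett 5, .lett 7, .lett 1, .lett 5, .lett 1, .lett 2, .lett 5, .lett 7] [1,1,2,7,5,6,5,3]⟩,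
   ⟨1, 2, 2, 0, [0,0,2,2,0,3,3,0,2,0,3], [2,2,0,3,0,3,3], [3], .loop 1 [4,1,4,0,2,4,3,5,1,5,0,4,1,4,0,5,1,5,0,4,1,4,0,0,0,2,0,3,1,4,0,3,4,2,2,4,4,4,4,3,0,0,0,0,0,0,3,6,5,3,1,2,5] 9 15 10 false [.lett 2, .lett 2, .stab 15 false, .stab 15 false, .stab 15 false, .stab 15 false, .stab 10 false, .stab 10 false, .stab 15 false, .stab 11 false, .stab 15 false, .edge 16 [3,7,0,7,5,6,1,5], .lett 0, .lett 0, .lett 3, .lett 3, .lett 0, .lett 2, .lett 2] [.lett 1, .lett 2, .lett 2, .stab 11 false, .stab 15 false, .stab 10 false, .stab 11 false, .stab 15 false, .stab 11 false, .stab 11 false, .stab 10 false, .stab 15 false, .edge 19 [5,2,3,5,7,5,2,6], .lett 3, .lett 3, .lett 1, .lett 2, .lett 2] [5,6,5,7,3,6,1,5,5,5]⟩,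
   ⟨1, 2, 2, 0, [4,1,4,4,4,0,3,4,4,4,4,2,2,4,4,4,4,3,0,0,0,0,0,2,0,3,4,0,3,4,4,4,2,2,4,4,3,0,2,0,3,0,2,2,0,3,3,3,6,5,0,5,3,1,5], [4,4,4,1,4,4,4,0,3,4,4,4,2,2,4,4,4,4,3,5,1,5,0,4,1,4,0,5,1,5,0,4,1,4,0,5,1,5,0,4,1,4,0,0,2,0,3,0,4,4,4,4,1,4,0,2,4,4,3,0,2,0,2,0,3,3,6,4,3,0,4,2,6], [4,4,4,3,4,4,2,2,4,4,3,5,1,5,0,4,1,4,0,0,0,0,0,0,0,2,0,3,4,4,4,3,4,4,2,2,4,4,3,0,0,2,0,3,3,0,6], .loop 1 [4,1,4,4,4,4,0,3,4,4,4,2,2,4,4,3,5,1,5,0,4,1,4,0,5,1,5,0,4,1,4,0,5,1,5,0,4,1,4,0,0,0,0,0,0,0,4,4,3,4,4,2,2,4,4,4,4,3,0,2,2,0,3,6,4,3,4,2,0] 10 47 11 false [.lett 3, .lett 3, .stab 15 false, .stab 10 false, .stab 15 false, .stab 15 false, .stab 15 false, .stab 15 false, .stab 11 false, .stab 10 false, .stab 15 false, .stab 10 false, .stab 11 false, .stab 11 false, .edge 16 [7,2,3,7,6], .lett 5, .lett 7, .lett 1, .lett 5, .lett 1, .lett 2, .lett 5,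 .lett 7, .stab 20 false, .stab 17 false, .stab 20 false, .stab 17 false, .stab 20 false, .stab 20 false, .stab 17 false] [.lett 0, .lett 2, .lett 4, .lett 2, .lett 2, .lett 5, .lett 1, .lett 4, .lett 0, .lett 6, .lett 4, .lett 1, .lett 2, .lett 4, .lett 1, .lett 6, .lett 4, .lett 0, .stab 15 false, .stab 15 false, .stab 11 false, .stab 10 false, .stab 15 false, .stab 11 false, .stab 15 false, .stab 11 false, .stab 10 false, .stab 15 false, .edge 19 [0,5,3,7,5,3,4,7], .lett 2, .lett 1, .lett 3, .lett 1, .lett 2, .lett 1, .lett 4, .lett 0, .lett 2, .lett 4, .lett 3, .lett 6, .lett 4, .lett 3, .lett 0, .lett 4, .lett 2, .lett 7, .lett 0] [1,5,7,1,7,1,5,5]⟩,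
   ⟨1, 2, 2, 0, [4,1,4,4,4,4,0,3,4,4,4,2,2,4,4,3,5,1,5,0,4,1,4,0,5,1,5,0,4,1,4,0,5,1,5,0,4,1,4,0,0,0,0,0,0,4,4,0,2,4,4,2,0,3,0,3,0,2,2,0,3,6,4,3,7,4,2,2], [4,4,4,4,1,4,0,3,4,4,2,2,4,4,4,3,5,1,5,0,4,1,4,0,5,1,5,0,4,1,4,0,5,1,5,0,4,1,4,0,0,0,0,0,3,4,4,4,4,2,2,4,4,4,4,3,0,0,2,0,2,0,3,6,5,2,4,0,5,5], [1,4,0,2,4,4,4,3,5,1,5,0,4,1,4,0,0,0,0,4,4,3,4,4,2,2,4,3,0,6], .loop 2 [1,4,0,2,4,4,4,3,5,1,5,0,4,1,4,0,0,0,0,4,4,4,4,3,4,4,2,2,4,0,2,0,3,6,4,3,5,1,5,7,4] 8 3 2 false [.lett 1, .stab 18 false, .stab 17 false, .stab 20 false, .stab 17 false, .stab 17 false, .stab 17 false, .edge 23 [7,1,7,0,7,6,3], .stab 20 false, .stab 18 false, .stab 17 false, .stab 20 false, .stab 20 false, .stab 18 false] [.lett 0] [3,5,5,7,0,6,7,3]⟩,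
   ⟨1, 2, 2, 0, [4,1,4,4,4,0,3,4,4,4,4,2,2,4,4,4,4,3,0,0,0,0,0,2,0,3,0,4,1,4,4,4,4,0,2,2,0,3,3,0,2,0,2,6,4,2,4,3,5,5], [4,1,4,0,2,4,3,5,1,5,0,4,1,4,0,5,1,5,0,4,1,4,0,0,0,2,0,3,4,4,1,4,0,3,4,4,4,4,2,2,2,0,3,0,3,0,6,4,1,3,5,6,5,5,7], [1,4,0,2,4,4,4,3,5,1,5,0,4,1,4,0,0,0,0,4,4,3,4,4,2,2,4,3,0,2,6], .loop 1 [4,4,4,1,4,0,3,4,4,4,4,2,5,1,5,0,4,1,4,0,5,1,5,0,4,1,4,0,2,0,2,0,3,3,0,2,2,0,3,3,4,1,4,4,4,0,3,4,2,2,0,2,0,3,6,5,0,2,4,2] 10 24 25 false [.lett 0, .lett 2, .lett 0, .lett 3, .stab 11 false, .stab 10 false, .stab 15 false, .stab 15 false, .stab 10 false, .stab 15 false, .stab 11 false, .stab 15 false, .stab 11 false, .stab 15 false, .edge 16 [5,7,2,2,5,6,0], .lett 1, .lett 5, .lett 7, .lett 0, .lett 5, .lett 3, .lett 0, .lett 5, .lett 7, .lett 1, .lett 5, .lett 0, .lett 4, .lett 3, .lett 3, .lett 5, .lett 3, .lett 1, .lett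 3, .lett 3, .stab 17 false, .stab 20 false, .stab 18 false, .stab 18 false, .stab 18 false, .stab 20 false] [.lett 2, .lett 1, .lett 4, .lett 0, .lett 2, .lett 4, .lett 3, .lett 6, .lett 4, .lett 3, .lett 0, .lett 4, .lett 2, .lett 7, .lett 0, .stab 10 false, .stab 15 false, .stab 11 false, .stab 11 false, .stab 11 false, .stab 10 false, .stab 11 false, .stab 10 false, .stab 15 false, .stab 15 false, .edge 19 [4,5,0,6,5,7], .lett 6, .lett 4, .lett 3, .lett 0, .lett 4, .lett 0, .lett 6, .lett 4] [0,1,7,6,1,0]⟩,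
   ⟨1, 2, 2, 0, [1,4,4,4,4,0,3,4,4,4,4,2,2,4,4,4,3,5,1,5,0,4,1,4,0,0,0,0,0,2,0,3,4,4,2,4,4,4,4,3,0,0,0,2,2,0,3,0,3,0,6,4,1,5,3,1,4], [4,1,4,4,0,3,4,4,4,2,2,4,3,5,1,5,0,4,1,4,0,0,4,4,4,3,4,4,4,4,2,2,4,4,3,0,2,0,2,0,3,3,0,6,4,0,5,1,3,5,3], [4,1,4,4,0,3,4,4,4,2,2,4,3,5,1,5,0,4,1,4,0,0,4,1,4,0,3,4,4,2,0,0,2,6], .loop 1 [4,4,4,1,4,0,3,4,4,4,4,2,5,1,5,0,4,1,4,0,5,1,5,0,4,1,4,0,2,0,2,0,3,3,0,2,2,0,3,3,4,4,4,4,3,4,2,0,0,2,0,3,0,2,2,0,3,3,6,4,1,5,2,5,3] 13 35 11 false [.lett 4, .lett 0, .lett 4, .lett 3, .lett 1, .lett 3, .lett 1, .lett 2, .stab 10 false, .stab 15 false, .stab 10 false, .stab 11 false, .stab 11 false, .stab 10 false, .stab 11 false, .stab 15 false, .stab 15 false, .edge 16 [2,2,2,2,3,5], .lett 2, .lett 6, .stab 20 false, .stab 17 false, .stab 20 false, .stab 20 false] [.lett 0, .lett 5, .lett 6, .lett 4, .lett 3,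 .lett 5, .lett 0, .lett 4, .stab 10 false, .stab 11 false, .stab 10 false, .stab 10 false, .stab 15 false, .stab 15 false, .stab 11 false, .stab 10 false, .stab 11 false, .stab 15 false, .stab 11 false, .edge 16 [1,1,6,0,1,5], .lett 2, .lett 6, .stab 18 false, .stab 20 false, .stab 18 false, .stab 20 false, .stab 17 false, .stab 18 false, .edge 24 [5,4,5,5,0,5,5,6], .lett 3, .lett 5, .lett 0, .lett 3, .lett 3, .lett 4, .lett 7, .lett 4, .lett 0, .lett 5, .lett 1, .lett 4, .lett 3, .lett 3, .lett 0, .lett 2, .lett 0, .lett 3, .lett 3] [0,5,7,1,7,2,3,7]⟩,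
   ⟨1, 2, 2, 1, [4,4,4,4,1,4,4,0,3,4,4,4,2,5,1,5,0,4,1,4,0,5,1,5,0,4,1,4,0,5,1,5,0,4,1,4,0,5,1,5,0,4,1,4,0,2,0,3,4,4,4,3,4,4,4,4,2,0,2,0,2,0,3,3,0,2,0,3,0,6,5,2,4,4,2,1], [1,4,4,0,2,4,4,3,5,1,5,0,4,1,4,0,0,0,0,0,2,0,3,0,4,4,3,4,2,2,4,4,4,4,3,0,0,2,0,2,0,3,0,3,0,6,4,2,0,4,7,4,3], [4,1,4,4,0,3,4,4,4,2,2,4,3,5,1,5,0,4,1,4,0,0,4,1,4,0,3,4,4,2,0,0,2,6], .loop 1 [4,4,4,4,3,4,4,2,5,1,5,0,4,1,4,0,5,1,5,0,4,1,4,0,2,2,0,3,3,0,2,2,0,3,3,1,4,4,4,0,2,4,4,4,4,3,0,2,0,2,0,3,0,3,6,4,0,5,2,5,6,4] 83 8 31 false [.lett 0, .lett 5, .lett 6, .lett 4, .lett 3, .lett 5, .lett 0, .lett 4, .stab 11 false, .stab 10 false, .stab 10 false, .stab 10 false, .stab 15 false, .stab 15 false, .stab 15 false, .stab 11 false, .edge 16 [6,0,5,7,3,6,7,5], .lett 2, .lett 6, .stab 17 false, .stab 17 false, .stab 20 false, .stab 17 false, .edge 24 [2,7,1,5,5,5,3],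 .lett 3, .lett 5, .lett 0, .lett 3, .lett 3, .lett 4, .lett 7, .lett 4, .lett 0, .lett 5, .lett 1, .lett 4, .lett 3, .lett 3, .lett 0, .lett 2, .lett 0, .lett 3, .lett 3, .stab 17 false, .stab 18 false, .stab 20 false, .stab 20 false, .stab 18 false] [.lett 4, .lett 0, .lett 4, .lett 3, .lett 1, .lett 3, .lett 1, .lett 2, .stab 11 false, .stab 11 false, .stab 15 false, .stab 11 false, .stab 15 false, .stab 15 false, .stab 11 false, .stab 11 false, .stab 15 false, .stab 11 false, .edge 16 [7,5,0,7,6,5,0], .lett 2, .lett 6] [3,6,5,3,6,5,3,7,5]⟩,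
   ⟨1, 2, 2, 0, [4,4,4,3,4,4,2,2,4,4,3,5,1,5,0,4,1,4,0,0,0,0,0,0,0,2,0,3,4,4,3,4,4,4,4,2,2,2,0,3,3,0,2,0,3,0,3,6,5,1,2,2,5], [3,4,4,4,4,2,2,4,3,0,2,0,2,0,3,3,6,4,3,5,1,5,6,5], [4,1,4,4,0,3,4,4,4,2,2,4,3,5,1,5,0,4,1,4,0,0,4,1,4,0,3,4,4,2,0,0,6], .loop 2 [4,4,4,3,4,4,2,2,4,4,3,5,1,5,0,4,1,4,0,0,0,0,0,0,0,2,0,3,1,4,0,0,0,0,2,0,2,0,3,0,6,5,3,0,3,5,5] 83 25 37 false [.lett 4, .lett 7, .lett 4, .lett 0, .lett 5, .lett 1, .lett 4, .lett 3, .lett 3, .lett 0, .lett 2, .lett 0, .lett 3, .lett 3, .stab 18 false, .stab 17 false, .stab 17 false, .stab 17 false, .edge 27 [1,2,5,5,5,4,6], .lett 7, .lett 3, .stab 17 false, .stab 17 false, .stab 20 false, .stab 20 false, .stab 17 false, .stab 20 false, .stab 18 false, .edge 27 [1,4,5,5,3], .lett 3, .lett 0, .lett 2, .lett 0, .lett 2, .lett 5, .lett 1, .lett 5, .lett 0, .lett 5, .lett 6, .lett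 4, .lett 3, .lett 5, .lett 0, .lett 4, .stab 18 false, .stab 17 false, .stab 20 false, .stab 20 false, .edge 25 [5,3,7,2,6,7,6,2], .lett 2, .lett 6, .stab 20 false, .stab 20 false, .stab 17 false, .stab 18 false, .stab 20 false, .stab 20 false, .stab 20 false] [.lett 2, .lett 2, .lett 1, .lett 4, .lett 2] [5,3,5,7,5,6,3,5,7,6]⟩,
   ⟨1, 2, 2, 0, [4,4,4,4,1,4,4,0,3,4,4,4,2,5,1,5,0,4,1,4,0,5,1,5,0,4,1,4,0,5,1,5,0,4,1,4,0,5,1,5,0,4,1,4,0,2,0,3,4,1,4,4,4,4,0,2,4,4,4,0,3,0,6,5,0,2,5,3,5], [4,1,4,4,4,0,3,4,4,4,4,2,2,4,4,4,4,3,0,0,0,0,0,2,0,3,0,4,1,4,4,4,0,0,0,2,0,3,0,2,6,4,3,4,7,5,3,0], [2,4,4,4,4,3,0,0,0,0,6], .loop 1 [1,4,0,3,4,2,2,4,3,0,0,0,0,0,2,0,3,4,0,0,2,0,3,0,2,2,0,3,0,6,5,1,3,5,2,2,1] 83 6 13 false [.lett 1, .lett 5, .lett 0, .lett 5, .lett 6, .lett 4, .lett 3, .lett 5, .lett 0, .lett 4, .stab 11 false, .stab 11 false,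 .stab 15 false, .stab 10 false, .stab 11 false, .stab 11 false, .stab 15 false, .edge 16 [0,6,5,0,2,7], .lett 2, .lett 6, .stab 17 false, .stab 18 false, .stab 20 false, .stab 18 false, .stab 17 false, .stab 17 false] [.lett 4, .lett 3, .lett 1, .lett 3, .lett 1, .lett 2, .stab 10 false, .stab 15 false, .stab 10 false, .stab 11 false, .stab 10 false, .stab 15 false, .stab 11 false, .stab 15 false, .stab 10 false, .stab 11 false, .stab 11 false, .edge 16 [2,5,7,2,6,7,2,5,6], .lett 2, .lett 6, .stab 17 false, .stab 18 false, .stab 20 false, .stab 18 false, .stab 17 false, .stab 20 false, .stab 20 false, .edge 23 [5,0,7,3,6,7,5], .lett 2, .lett 2, .lett 1, .lett 3, .lett 1, .lett 2, .lett 2, .lett 5, .lett 0, .lett 4, .lett 1, .lett 5, .lett 6, .lett 5, .lett 2, .lett 2, .lett 1, .lett 4, .lett 2] [0,7,0,5,3,7,4]⟩,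
   ⟨1, 2, 2, 1, [4,4,4,1,4,4,4,4,0,3,4,2,2,4,4,4,3,5,1,5,0,4,1,4,0,5,1,5,0,4,1,4,0,2,2,0,3,3,0,2,2,0,3,0,3,1,4,0,3,4,4,4,4,2,2,2,0,3,3,6,4,6,5,3,4,7,5], [4,3,4,4,4,2,2,4,4,4,3,0,0,2,0,3,0,4,4,2,4,4,2,0,3,3,0,2,0,3,3,6,5,2,4,3,5,0], [4,6,4,6], .loop 1 [1,4,4,4,0,3,4,4,2,2,4,4,4,4,3,5,1,5,0,4,1,4,0,5,1,5,0,4,1,4,0,0,2,0,2,0,3,3,0,2,2,0,3,3,4,2,4,4,3,0,0,2,0,3,0,3,6,4,0,3,4,1] 13 29 37 false [.lett 4, .lett 2, .lett 5, .lett 7, .lett 4, .lett 1, .lett 4, .lett 0, .lett 4, .lett 3, .lett 1, .lett 3, .lett 1, .lett 2, .stab 11 false, .stab 15 false, .stab 15 false, .stab 15 false, .stab 15 false, .stab 15 false, .stab 11 false, .stab 15 false, .stab 10 false, .stab 11 false, .stab 11 false, .edge 16 [7,6,5,7,0,6,1,5,5], .lett 2, .lett 6, .stab 20 false, .stab 18 false, .stab 20 false, .stab 20 false, .stab 20 false, .stab 20 false,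 .edge 24 [5,5,2,5,2,5,6,5], .lett 2, .lett 2, .lett 1, .lett 3, .lett 1, .lett 2, .lett 2, .lett 5, .lett 0, .lett 4, .lett 1, .lett 5, .lett 6, .lett 5, .lett 2, .lett 2, .lett 1, .lett 4, .lett 2, .stab 20 false, .stab 20 false, .stab 18 false, .stab 20 false, .stab 18 false, .stab 18 false, .stab 18 false, .stab 17 false] [.lett 0, .lett 4, .stab 10 false, .stab 15 false, .stab 10 false, .stab 11 false, .stab 11 false, .stab 10 false, .stab 11 false, .stab 15 false, .stab 11 false, .edge 16 [0,7,5,2,4,6], .lett 2, .lett 6] [1,1,6,5,2,2,7]⟩,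
   ⟨1, 2, 2, 1, [4,1,4,4,0,3,4,4,4,2,2,4,3,5,1,5,0,4,1,4,0,0,3,4,4,4,4,2,2,4,4,4,4,0,3,0,2,2,0,3,0,3,6,4,2,4,3,1,6,4], [4,1,4,0,2,4,3,5,1,5,0,4,1,4,0,5,1,5,0,4,1,4,0,0,0,2,0,3,3,4,4,4,4,2,2,4,4,4,4,2,0,3,0,3,0,2,6,4,0,6,5,2,1,7], [4,4,4,4,1,4,4,4,0,0,0,0,0,0,6], .loop 2 [4,1,4,4,0,3,4,2,5,1,5,0,4,1,4,0,5,1,5,0,4,1,4,0,5,1,5,0,4,1,4,0,0,0,0,2,0,3,1,5,0,4,1,4,0,2,0,3,0,6,4,3,5,3,5,1,6] 79 8 0 false [.stab 20 false, .stab 20 false, .stab 20 false, .stab 20 false, .stab 17 false, .stab 17 false] [.lett 3, .lett 3, .lett 0, .lett 2, .lett 2, .stab 20 false, .stab 17 false, .stab 17 false, .stab 20 false, .stab 20 false, .edge 28 [2,6,1,5,3,3], .lett 0, .lett 0, .lett 3, .lett 3, .lett 0, .lett 2, .lett 2, .stab 17 false, .stab 20 false, .stab 18 false, .stab 20 false, .stab 18 false, .stab 20 false, .edge 26 [2,3,5,5,5,0,6,7,5],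 .lett 3, .lett 3, .lett 0, .lett 2, .lett 2] [5,6,3,4,7,5,7]⟩]

/-- facts -/
def cf2 : List Fact :=
  [⟨1, 2, 2, 1, [4,4,4,1,4,0,3,4,4,4,4,2,5,1,5,0,4,1,4,0,5,1,5,0,4,1,4,0,2,0,2,0,3,3,0,2,2,0,3,3,4,4,1,4,4,0,2,4,4,4,3,0,6,5,1,5,0,2,2,1], [1,4,4,4,4,0,3,4,4,4,4,2,2,4,4,4,3,5,1,5,0,4,1,4,0,0,0,0,0,2,0,3,3,4,4,4,4,2,2,4,3,0,0,0,0,0,2,0,3,6,5,3,4,2,5,0,3], [3,4,4,4,4,2,0,0,0,0,6], .loop 1 [4,4,4,1,4,0,3,4,4,4,4,2,5,1,5,0,4,1,4,0,5,1,5,0,4,1,4,0,2,0,2,0,3,3,0,2,2,0,3,3,4,4,4,1,5,0,4,1,4,0,0,0,2,0,3,0,3,6,5,3,4,3,5,1] 83 5 34 false [.lett 5, .lett 1, .lett 5, .lett 0, .lett 5, .lett 6, .lett 4, .lett 3, .lett 5, .lett 0, .lett 4, .stab 10 false, .stab 11 false, .stab 15 false, .stab 11 false, .stab 11 false, .stab 15 false, .stab 11 false, .stab 10 false, .stab 15 false, .stab 11 false, .edge 16 [1,2,5,2,7,5,2,1], .lett 2, .lett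 6, .stab 20 false, .stab 17 false, .stab 17 false, .stab 20 false, .stab 18 false, .edge 28 [5,7,3,6,7,5,3,5,5,6], .lett 3, .lett 5, .lett 0, .lett 3, .lett 3, .lett 4, .lett 7, .lett 4, .lett 0, .lett 5, .lett 1, .lett 4, .lett 3, .lett 3, .lett 0, .lett 2, .lett 0, .lett 3, .lett 3, .stab 20 false, .stab 17 false, .stab 18 false, .stab 20 false, .stab 18 false, .stab 17 false] [.lett 3, .lett 1, .lett 3, .lett 1, .lett 2, .stab 10 false, .stab 15 false, .stab 15 false, .stab 11 false, .stab 11 false, .stab 15 false, .stab 11 false, .stab 15 false, .stab 15 false, .stab 11 false, .stab 11 false, .edge 16 [5,7,1,6,7,2,0,5], .lett 2, .lett 6] [1,5,5,5,6,7,2,0]⟩,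
   ⟨1, 1, 3, 0, [], [], [6,4,6], .defEdge⟩,
   ⟨0, 3, 3, 0, [0,2,0,2,0,3,3,0,2,0,3,0], [0,2,0,2,0,3,3,0,2,0,3,0], [], .loop 1 [4,4,4,1,4,4,4,0,3,4,4,4,2,2,4,4,4,4,3,5,1,5,0,4,1,4,0,5,1,5,0,4,1,4,0,5,1,5,0,4,1,4,0,0,2,0,3,0,4,4,4,3,4,2,2,4,0,2,0,3,0,3,6,4,3,6] 140 0 1 false [.stab 15 true, .edge 33 [7,5,7,2,0]] [.stab 10 false, .stab 11 false, .stab 11 false, .stab 10 false, .stab 15 false, .stab 10 false, .stab 10 false, .edge 33 [5,6,7,5,6,2,0]] []⟩,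
   ⟨0, 3, 3, 0, [2,0,2,0,3,3,0], [2,0,2,0,3,3,0], [], .loop 1 [4,3,4,4,4,2,2,4,4,4,3,0,0,2,0,3,0,2,4,4,4,0,3,0,3,6,4,6] 140 0 1 false [.stab 11 true, .edge 33 [5,7,5,0,3,5,7,5]] [.stab 10 false, .stab 11 false, .edge 33 [7,0,3,5,2,6,4]] []⟩,
   ⟨0, 3, 3, 0, [1,4,0,2,4,4,4,3,5,1,5,0,4,1,4,0,0,0,0,4,4,4,4,1,4,4,0,0,2,0,2,0,3,0,3,0,2,6,5,0,4,3,4,0], [4,4,4,4,1,4,4,4,0,2,4,4,4,4,3,5,1,5,0,4,1,4,0,5,1,5,0,4,1,4,0,5,1,5,0,4,1,4,0,0,0,0,2,0,3,4,4,0,3,4,2,2,4,4,4,4,0,2,0,3,3,0,6,4,0,2,0,4,4,3], [], .loop 0 [4,4,4,4,1,4,4,0,3,4,4,4,2,5,1,5,0,4,1,4,0,5,1,5,0,4,1,4,0,5,1,5,0,4,1,4,0,5,1,5,0,4,1,4,0,2,0,3,4,4,4,4,1,4,4,0,3,4,4,2,2,4,0,2,0,3,3,6,4,4,2,7,4,3] 12 77 48 false [.lett 1, .lett 3, .lett 3, .lett 1, .lett 2, .lett 1, .stab 3 false, .stab 2 false, .stab 0 false, .stab 2 false, .stab 2 false, .stab 3 false, .stab 2 false, .stab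 0 false, .stab 1 false, .stab 2 false, .stab 3 false, .edge 9 [5,5,5,6,1,7,1], .lett 2, .lett 0, .lett 3, .lett 1, .lett 3, .lett 3, .lett 1, .lett 3, .lett 4, .lett 2, .lett 2, .lett 4, .lett 2, .lett 6, .lett 4, .lett 3, .lett 3, .lett 6, .lett 4, .lett 2, .lett 4, .stab 11 false, .stab 11 false, .stab 11 false, .stab 15 false, .stab 10 false, .stab 10 false, .edge 33 [4,6,3,2,7], .lett 0, .lett 3, .lett 3, .lett 1, .lett 4, .lett 2, .lett 5, .lett 2, .lett 1, .lett 5, .lett 5, .lett 6, .lett 4, .lett 0, .lett 4, .lett 1, .lett 4, .lett 3, .lett 7] [.lett 5, .lett 0, .lett 2, .lett 1, .lett 6, .lett 4, .lett 0, .lett 5, .lett 3, .lett 5, .lett 1, .lett 6, .stab 3 false, .stab 2 false, .stab 3 false, .stab 0 false, .stab 2 false, .stab 1 false, .stab 2 false, .stab 2 false, .stab 3 false, .stab 1 false, .edge 9 [0,5,5,5,5,6,3,7,6,3],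 .lett 2, .lett 0, .lett 3, .lett 1, .lett 3, .lett 3, .lett 1, .lett 3, .lett 4, .lett 2, .lett 2, .lett 4, .lett 2, .lett 6, .lett 4, .lett 3, .lett 3, .lett 6, .lett 4, .lett 2, .lett 4, .stab 11 false, .stab 10 false, .stab 10 false, .stab 10 false, .stab 10 false, .stab 15 false, .stab 10 false, .stab 15 false, .stab 10 false, .edge 33 [5,5,6,0,7,5,6,7]] []⟩,
   ⟨0, 3, 3, 0, [4,4,4,1,4,4,4,0,3,4,4,4,2,2,4,4,4,4,3,5,1,5,0,4,1,4,0,5,1,5,0,4,1,4,0,5,1,5,0,4,1,4,0,0,2,0,3,0,4,4,2,4,4,4,2,0,3,3,0,2,0,2,0,3,3,6,5,2,0,3], [4,1,4,4,0,3,4,4,4,2,2,4,3,5,1,5,0,4,1,4,0,0,3,4,4,4,2,2,4,4,4,4,3,0,0,0,2,2,0,3,0,3,3,6,4,1,4,2,2,5], [], .loop 0 [4,4,4,4,1,4,4,4,4,0,3,4,4,2,2,4,0,3,4,4,0,3,4,4,2,0,0,0,0,2,2,0,3,3,6,4,0,3,1,4,3,1] 12 73 52 false [.lett 0, .lett 3, .lett 1, .lett 4, .lett 1, .lett 3, .lett 3, .lett 1, .lett 2, .lett 1, .stab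 3 false, .stab 2 false, .stab 2 false, .stab 1 false, .stab 1 false, .stab 0 false, .stab 2 false, .stab 0 false, .stab 2 false, .stab 3 false, .stab 1 false, .edge 9 [1,1,2,5,3,0], .lett 2, .lett 0, .lett 3, .lett 1, .lett 3, .lett 3, .lett 1, .lett 3, .lett 4, .lett 2, .lett 2, .lett 4, .lett 2, .lett 6, .lett 4, .lett 3, .lett 3, .lett 6, .lett 4, .lett 2, .lett 4, .stab 10 false, .stab 15 false, .stab 15 false, .stab 11 false, .stab 10 false, .stab 11 false, .stab 15 false, .edge 33 [1,7,2,6,1,7,6], .lett 0, .lett 3, .lett 3, .lett 1, .lett 4, .lett 2, .lett 5, .lett 2, .lett 1, .lett 5, .lett 5, .lett 6, .lett 4, .lett 0, .lett 4, .lett 1, .lett 4, .lett 3, .lett 7] [.lett 6, .lett 4, .lett 0, .lett 5, .lett 3, .lett 5, .lett 1, .lett 6, .stab 3 false, .stab 1 false, .stab 0 false, .stab 1 false, .stab 0 false, .stab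 2 false, .stab 2 false, .stab 3 false, .edge 9 [0,5,6,3,6,7,6,2,7,5], .lett 2, .lett 0, .lett 3, .lett 1, .lett 3, .lett 3, .lett 1, .lett 3, .lett 4, .lett 2, .lett 2, .lett 4, .lett 2, .lett 6, .lett 4, .lett 3, .lett 3, .lett 6, .lett 4, .lett 2, .lett 4, .stab 10 false, .stab 11 false, .stab 15 false, .stab 10 false, .stab 11 false, .stab 10 false, .stab 15 false, .stab 10 false, .stab 11 false, .edge 33 [5,5,5,7,0,7]] []⟩,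
   ⟨1, 1, 3, 1, [], [0,0,0,0,0,0], [6,4,6], .loop 1 [4,1,4,4,4,4,0,3,4,4,4,2,2,4,4,3,5,1,5,0,4,1,4,0,5,1,5,0,4,1,4,0,5,1,5,0,4,1,4,0,0,0,0,0,0,0,4,1,4,4,4,0,3,4,4,4,4,2,2,4,3,0,2,6,4,3,3,1,7,5] 78 1 1 false [.lett 0, .stab 15 false, .stab 11 false, .stab 10 false, .stab 11 false, .stab 11 false, .stab 15 false, .stab 11 false, .stab 10 false, .stab 10 false] [.lett 1, .stab 15 false, .stab 11 false, .stab 10 false, .stab 11 false, .stab 11 false, .stab 15 false, .stab 11 false, .stab 10 false, .stab 10 false, .edge 33 [5,5,5,4,6,7,3,7]] [7,5,0,7,3,0,6,0]⟩,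
   ⟨1, 2, 2, 1, [4,4,4,3,4,4,2,2,4,4,3,5,1,5,0,4,1,4,0,0,0,0,0,0,0,2,0,3,4,4,4,3,4,2,0,0,0,2,0,3,6,4,3,7,5,5,2], [4,4,4,4,3,4,2,2,4,4,3,5,1,5,0,4,1,4,0,5,1,5,0,4,1,4,0,5,1,5,0,4,1,4,0,0,2,0,3,4,4,4,1,4,0,3,4,4,4,4,2,2,4,4,4,4,0,3,6,4,1,7,5,2,2,1], [1,4,0,2,4,4,4,3,5,1,5,0,4,1,4,0,0,0,0,4,4,4,1,4,0,2,4,4,3,0,2,2,6], .loop 2 [1,4,0,2,4,4,4,3,5,1,5,0,4,1,4,0,0,0,0,4,1,4,0,3,4,2,2,4,4,4,3,0,0,2,0,2,0,3,3,6,5,3,4,1,3,5] 80 3 18 false [.lett 0, .lett 2, .lett 4, .lett 2, .lett 2, .lett 5, .lett 1, .lett 4, .lett 0, .lett 6, .lett 4, .lett 1, .lett 2, .lett 4, .lett 1, .lett 6, .lett 4, .lett 0, .stab 20 false, .stab 18 false, .stab 18 false, .stab 18 false, .stab 20 false, .stab 17 false, .stab 17 false, .stab 17 false] [.lett 3, .lett 3, .stab 17 false, .stab 18 false, .stab 18 false, .edge 24 [6,3,7,4,5,6,5], .lett 5, .lett 7,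 .lett 1, .lett 5, .lett 1, .lett 2, .lett 5, .lett 7, .stab 18 false, .stab 17 false, .stab 20 false, .stab 20 false, .stab 20 false, .stab 20 false, .stab 17 false, .stab 17 false, .edge 25 [5,6,2,1,5,7,6], .lett 1, .lett 6, .lett 3, .lett 5, .lett 1, .lett 2, .lett 5, .lett 7, .lett 2, .lett 5, .lett 3, .lett 1, .lett 5, .lett 0, .lett 3, .lett 0, .lett 2, .lett 0, .lett 3] [5,7,1,7,3,5,5,5]⟩,
   ⟨1, 2, 3, 0, [4,4,4,1,4,0,3,4,4,4,4,2,5,1,5,0,4,1,4,0,5,1,5,0,4,1,4,0,2,0,2,0,3,3,0,2,2,0,3,3,1,4,0,3,4,4,2,2,0,3,0,2,2,0,3,3,0,6,4,2,5,3,5,5], [4,1,4,4,4,0,3,4,4,4,4,2,2,4,4,4,4,3,0,0,0,0,0,2,0,3,4,4,4,4,0,2,4,0,2,0,3,3,0,2,0,3,0,3,6,5,3,5,5,1,2], [2,4,4,4,4,3,0,0,0,0,2,6], .loop 0 [4,4,4,1,4,4,4,4,0,3,4,4,4,4,2,2,4,4,3,5,1,5,0,4,1,4,0,5,1,5,0,4,1,4,0,5,1,5,0,4,1,4,0,5,1,5,0,4,1,4,0,0,0,0,0,0,4,1,4,4,0,0,2,0,2,6,4,3,4,1,5] 132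 0 44 false [.stab 2 false, .stab 2 false, .stab 2 false, .stab 2 false, .stab 3 false, .stab 0 false, .stab 2 false, .stab 1 false, .stab 2 false, .stab 3 false, .stab 1 false, .edge 9 [1,5,4,6,5,7,6,3,5], .lett 3, .lett 1, .lett 2, .lett 0, .lett 3, .lett 0, .lett 2, .lett 2, .lett 0, .lett 5, .lett 0, .lett 2, .lett 1, .lett 6, .lett 4, .lett 0, .lett 5, .lett 3, .lett 5, .lett 1, .lett 6, .stab 10 false, .stab 15 false, .stab 15 false, .stab 15 false, .stab 11 false, .stab 15 false, .stab 15 false, .stab 10 false, .stab 15 false, .stab 11 false, .edge 16 [0,2,5,0,3,7,6], .lett 2, .lett 0, .lett 3, .lett 1, .lett 3, .lett 3, .lett 1, .lett 3, .lett 4, .lett 2, .lett 2, .lett 4, .lett 2, .lett 6, .lett 4, .lett 3, .lett 3, .lett 6, .lett 4, .lett 2, .lett 4, .stab 18 false, .stab 20 false, .stab 18 false, .stab 20 false,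 .stab 17 false, .stab 17 false, .stab 17 false] [.stab 2 false, .stab 2 false, .stab 2 false, .stab 2 false, .stab 3 false, .stab 0 false, .stab 2 false, .stab 1 false, .stab 2 false, .stab 3 false, .stab 1 false, .edge 9 [1,5,4,6,5,7,6,3,5], .lett 3, .lett 1, .lett 2, .edge 14 [5,7,5,3,6,1,7,0], .lett 2, .lett 0, .lett 3, .lett 1, .lett 3, .lett 3, .lett 1, .lett 3, .lett 4, .lett 2, .lett 2, .lett 4, .lett 2, .lett 6, .lett 4, .lett 3, .lett 3, .lett 6, .lett 4, .lett 2, .lett 4, .stab 10 false, .stab 11 false, .stab 15 false, .stab 10 false, .stab 15 false, .stab 11 false, .stab 15 false, .stab 11 false, .stab 10 false, .stab 10 false, .edge 33 [0,4,7,1,5,6,5], .lett 0, .lett 3, .lett 3, .lett 1, .lett 4, .lett 2, .lett 5, .lett 2, .lett 1, .lett 5, .lett 5, .lett 6, .lett 4, .lett 0, .lett 4, .lett 1, .lett 4, .lett 3,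 .lett 7] [0,0,7,5,6,3,7]⟩,
   ⟨1, 3, 3, 0, [4,4,4,1,4,4,4,4,0,3,4,4,4,4,2,2,4,4,3,5,1,5,0,4,1,4,0,5,1,5,0,4,1,4,0,5,1,5,0,4,1,4,0,5,1,5,0,4,1,4,0,0,0,0,0,0,3,4,2,0,0,2,0,3,0,2,2,0,3,0,3,0], [1,4,4,4,4,0,3,4,4,4,4,2,2,4,4,4,3,5,1,5,0,4,1,4,0,0,0,0,0,2,0,3,4,1,4,4,4,4,0,2,4,4,0,2,0,3,3,0,2,0,3,0,3], [3], .loop 1 [1,4,4,4,0,3,4,4,2,2,4,4,4,4,3,5,1,5,0,4,1,4,0,5,1,5,0,4,1,4,0,0,2,0,2,0,3,3,0,2,2,0,3,3,3,4,4,4,4,2,2,2,0,3,6,4,1,4,3,1,2,6] 9 4 7 false [.lett 2, .stab 10 false, .stab 15 false, .stab 11 false, .stab 11 false, .stab 10 false, .stab 11 false, .stab 15 false, .stab 11 false, .edge 33 [7,0,2,5,6,3,6], .lett 3, .lett 3, .lett 0, .lett 2, .lett 2, .stab 35 false] [.lett 3, .lett 1, .lett 2, .lett 2, .lett 1, .lett 1, .stab 11 false, .stab 10 false, .stab 15 false, .stab 11 false, .stab 10 false, .stab 10 false, .edge 38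 [7,6,5,7,0,1,7,1], .lett 3, .lett 3, .lett 1, .lett 2, .lett 2] [3,5,7,6,1,1,7]⟩,
   ⟨1, 2, 2, 0, [1,4,0,2,4,4,4,3,5,1,5,0,4,1,4,0,0,0,0,4,2,4,3,0,0,0,2,0,2,0,3,3,0,2,0,3,3,6,4,1,4,2,5], [4,4,4,4,1,4,0,3,4,4,2,2,4,4,4,3,5,1,5,0,4,1,4,0,5,1,5,0,4,1,4,0,5,1,5,0,4,1,4,0,0,0,0,0,4,4,4,1,4,0,3,4,4,4,2,0,2,0,3,0,2,2,0,3,6,4,1,4,4,3,4], [4,4,4,1,4,4,4,4,0,3,4,4,4,4,2,2,4,4,3,5,1,5,0,4,1,4,0,5,1,5,0,4,1,4,0,5,1,5,0,4,1,4,0,5,1,5,0,4,1,4,0,0,0,0,0,0,4,2,4,4,4,3,3,6], .loop 1 [4,3,4,4,4,2,2,4,4,4,3,0,0,2,0,3,0,4,1,4,0,3,4,4,2,2,4,4,4,0,3,0,2,2,0,3,0,3,0,6,5,1,3,4,0,5] 11 35 32 false [.lett 2, .lett 4, .lett 3, .lett 6, .lett 4, .lett 3, .lett 3, .lett 6, .lett 4, .lett 2, .lett 4, .stab 11 false, .stab 15 false, .stab 11 false, .stab 15 false, .stab 11 false, .stab 15 false, .stab 15 false, .stab 15 false, .edge 19 [2,4,7,3,5,5], .lett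 7, .stab 17 false, .stab 18 false, .stab 17 false, .stab 17 false, .stab 20 false, .stab 18 false, .edge 27 [1,7,6,1,6,7,3,6,7], .lett 1, .lett 5, .lett 7, .lett 2, .lett 1, .lett 3, .lett 5, .lett 7, .lett 2, .lett 1, .lett 3, .lett 5, .lett 3, .lett 0, .lett 3, .lett 3, .lett 0, .lett 3, .stab 18 false, .stab 20 false, .stab 17 false] [.lett 5, .lett 1, .lett 4, .lett 3, .lett 3, .lett 0, .lett 3, .lett 3, .lett 0, .lett 3, .lett 1, .stab 11 false, .stab 10 false, .stab 11 false, .stab 11 false, .stab 10 false, .stab 15 false, .stab 11 false, .stab 15 false, .edge 19 [5,5,7,0,6,3,5], .lett 7] [5,6,7,2,7,2,7,6]⟩,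
   ⟨1, 1, 4, 0, [], [], [0,0,0,0,6], .defEdge⟩,
   ⟨0, 4, 4, 0, [0,0,0,2,0,3,0,2,2,0,3,0,3,0], [0,0,0,2,0,3,0,2,2,0,3,0,3,0], [], .loop 1 [1,4,4,0,2,4,4,3,5,1,5,0,4,1,4,0,0,0,0,0,2,0,3,0,3,4,4,4,2,5,1,5,0,4,1,4,0,2,2,0,3,0,3,0,6] 140 0 1 false [.stab 15 true, .edge 43 [5,6,7,5,6]] [.stab 10 false, .stab 11 false, .stab 11 false, .stab 10 false, .stab 15 false, .edge 43 [5]] []⟩,
   ⟨0, 4, 4, 0, [0,0,0,0,2,2,0,3,0,3,0], [0,0,2,2,0,3,0,3,0], [], .loop 1 [4,1,4,0,2,4,3,5,1,5,0,4,1,4,0,5,1,5,0,4,1,4,0,0,0,2,0,3,4,4,4,1,4,4,4,0,2,2,0,3,3,6,4,2,0,4,6] 140 0 1 false [.stab 11 true, .edge 43 [6,7,6,3,6,2,1]] [.edge 43 [5,5,7,5,3,6,2,1]] []⟩,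
   ⟨0, 4, 4, 0, [0,0,0], [0], [], .loop 1 [4,4,4,1,4,4,4,4,0,3,4,2,2,4,4,4,3,5,1,5,0,4,1,4,0,5,1,5,0,4,1,4,0,2,2,0,3,3,0,2,2,0,3,0,3,4,4,1,4,4,4,0,2,2,0,3,6,4,3,4,2,6] 140 0 1 false [.stab 10 true, .edge 43 [0,0,7,5,7,3,6,7,2]] [.edge 43 [0,3,2,6,1,2,7]] []⟩,
   ⟨1, 4, 1, 0, [4,4,2,4,4,4,4,3,0,0,2,0,3,6,4,7,4,2,4,4], [4,1,4,0,3,4,4,2,2,4,4,4,3,0,0,0,0,2,6,5,3,0,5], [6,4,6], .loop 0 [4,1,4,4,0,3,4,2,5,1,5,0,4,1,4,0,5,1,5,0,4,1,4,0,5,1,5,0,4,1,4,0,0,0,0,2,0,3,4,4,4,3,4,4,2,2,4,4,3,0,0,2,0,3,3,6,4,1,5,0,6,5] 12 46 59 false [.lett 7, .lett 2, .lett 2, .lett 5, .lett 7, .lett 3, .lett 5, .lett 3, .lett 3, .lett 5, .lett 2, .lett 0, .lett 2, .lett 2, .lett 0, .lett 2, .lett 1, .lett 3, .stab 1 false, .stab 1 false, .stab 0 false, .stab 1 false, .stab 2 false, .stab 3 false, .stab 0 false, .stab 2 false, .stab 3 false, .edge 12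 [7,3,4,5,6,1,7], .lett 7, .lett 0, .lett 4, .lett 2, .lett 4, .lett 1, .lett 5, .lett 7, .lett 0, .lett 3, .lett 1, .lett 4, .lett 1, .lett 3, .lett 3, .lett 1, .lett 2, .lett 1, .stab 15 false, .stab 15 false, .stab 10 false, .stab 15 false, .stab 11 false, .stab 10 false, .stab 10 false, .stab 15 false, .stab 10 false, .stab 15 false, .edge 43 [2,4,5,0,3,3], .lett 2, .lett 0, .lett 3, .lett 1, .lett 3, .lett 3, .lett 1, .lett 3, .lett 4, .lett 2, .lett 2, .lett 4, .lett 2, .lett 6, .lett 4, .lett 3, .lett 3, .lett 6, .lett 4, .lett 2, .lett 4, .stab 45 false, .stab 44 false, .stab 46 false] [.lett 4, .lett 2, .lett 4, .stab 0 false, .stab 3 false, .stab 0 false, .stab 2 false, .stab 0 false, .stab 2 false, .stab 1 false, .stab 1 false, .stab 2 false, .stab 3 false, .stab 1 false, .edge 9 [6,2,7,5,7,6], .lett 6, .lett 2,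 .lett 5, .lett 0, .lett 5, .lett 1, .lett 5, .lett 7, .lett 4, .lett 4, .lett 0, .lett 3, .lett 4, .lett 3, .lett 5, .lett 0, .lett 2, .lett 2, .lett 1] [5,0,6,1,7,5,2,6]⟩]

/-- facts -/
def cf3 : List Fact :=
  [⟨1, 4, 2, 0, [0,2,0,3,0], [0,0,0,2,0,2,0,3,3,0,2,0,3,0,3], [3], .loop 1 [1,4,4,4,0,3,4,4,2,2,4,4,4,4,3,5,1,5,0,4,1,4,0,5,1,5,0,4,1,4,0,0,2,0,2,0,3,3,0,2,2,0,3,3,4,4,1,4,4,0,2,4,2,0,3,3,0,2,0,3,6,4,2,0,3,5,0,7] 9 6 11 false [.lett 3, .lett 3, .lett 0, .lett 2, .lett 2, .stab 11 false, .stab 10 false, .stab 11 false, .stab 15 false, .stab 11 false, .stab 11 false, .stab 10 false, .stab 11 false, .stab 15 false, .edge 43 [0,6,7,6,1,6,1,5], .lett 3, .lett 3, .lett 0, .lett 2, .lett 2, .stab 45 false, .stab 44 false] [.stab 11 false, .stab 10 false, .stab 11 false, .stab 15 false, .stab 11 false, .stab 11 false, .stab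 10 false, .stab 11 false, .stab 15 false, .stab 11 false, .stab 11 false, .edge 19 [0,2,7,5,3,5,5,6,7], .lett 3, .lett 3, .lett 1, .lett 2, .lett 2, .lett 1, .lett 1] [0,5,7,0,6,2,7,5]⟩,
   ⟨1, 2, 3, 0, [1,4,4,4,0,3,4,2,2,4,4,4,3,0,0,2,0,2,0,3,0,3,0,2,6,5,1,5,3], [1,4,4,0,2,4,4,3,5,1,5,0,4,1,4,0,0,0,0,0,2,0,3,0,4,4,4,1,4,4,4,4,0,3,4,4,2,2,4,3,0,0,3,6,4,1,2,4,2,2,7], [4,4,4,4,0,0,0,0,2,6], .loop 1 [1,4,4,0,2,4,4,3,5,1,5,0,4,1,4,0,0,0,0,0,2,0,3,0,3,4,4,2,0,0,0,6,4,0,2,2,5,5,7] 10 7 21 false [.lett 7, .stab 15 false, .stab 11 false, .stab 15 false, .stab 10 false, .stab 10 false, .stab 15 false, .stab 11 false, .stab 15 false, .stab 15 false, .edge 16 [2,5,7,5,2,1,5,6,5], .lett 1, .lett 6, .lett 3, .lett 5, .lett 1, .lett 2, .lett 5, .lett 7, .lett 2, .lett 5, .lett 3, .lett 1, .lett 5, .lett 0, .lett 3, .lett 0, .lett 2, .lett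 0, .lett 3, .stab 17 false, .stab 20 false, .stab 20 false, .stab 17 false, .stab 18 false] [.lett 4, .lett 3, .lett 0, .lett 4, .lett 0, .lett 6, .lett 4, .stab 11 false, .stab 10 false, .stab 15 false, .stab 15 false, .stab 11 false, .stab 10 false, .stab 11 false, .stab 15 false, .edge 38 [0,3,7,5,6,3,3,7], .lett 2, .lett 2, .lett 0, .lett 2, .lett 4, .lett 2, .lett 2, .lett 5, .lett 1, .lett 4, .lett 0, .lett 6, .lett 4, .lett 1, .lett 2, .lett 4, .lett 1, .lett 6, .lett 4, .lett 0] [0,5,7,2,3,5,6,5]⟩,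
   ⟨0, 4, 4, 0, [1,4,4,4,4,0,3,4,4,4,4,2,2,4,4,4,3,5,1,5,0,4,1,4,0,0,0,0,0,2,0,3,4,1,4,0,3,4,2,2,4,2,0,3,6,4,3,3,6,4,2,4], [4,4,4,4,0,0,0,2,0,2,0,3,0,3,0,6,4,2,0,3,6,4,0], [], .loop 0 [4,4,4,1,4,0,3,4,4,4,4,2,5,1,5,0,4,1,4,0,5,1,5,0,4,1,4,0,2,0,2,0,3,3,0,2,2,0,3,3,4,4,4,4,2,4,4,3,0,2,0,3,0,2,6,5,3,4,2,2] 11 21 25 false [.stab 1 false, .stab 0 false, .stab 2 false, .stab 0 false, .stab 2 false, .stab 3 false, .stab 1 false, .stab 1 false, .stab 1 false, .edge 9 [5,5,5,4,6,3,5,5,7], .lett 6, .stab 10 false, .stab 15 false, .stab 11 false, .stab 10 false, .stab 15 false, .stab 10 false, .stab 11 false, .stab 10 false, .stab 10 false, .stab 15 false, .edge 43 [5,5,5,6,7,6], .lett 0, .lett 2, .lett 1, .lett 2, .lett 2, .lett 1, .lett 2, .lett 2, .lett 5, .lett 0, .lett 4, .lett 2, .lett 4, .lett 3, .lett 6, .lett 4, .lett 3, .lett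 3, .lett 6, .lett 4, .lett 2, .lett 4] [.lett 2, .lett 1, .lett 2, .lett 2, .lett 1, .lett 2, .lett 4, .lett 2, .lett 0, .lett 3, .lett 6, .lett 4, .lett 2, .lett 0, .lett 3, .lett 6, .lett 4, .lett 0, .stab 1 false, .stab 1 false, .stab 1 false, .stab 2 false, .stab 2 false, .stab 0 false, .stab 1 false, .stab 2 false, .stab 2 false, .stab 3 false, .edge 9 [7,5,3,0,6,5,7], .lett 6, .stab 15 false, .stab 10 false, .stab 15 false, .stab 11 false, .stab 15 false, .stab 10 false, .stab 15 false, .stab 15 false, .edge 43 []] []⟩,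
   ⟨1, 2, 2, 1, [4,4,4,4,1,4,4,0,3,4,4,4,2,5,1,5,0,4,1,4,0,5,1,5,0,4,1,4,0,5,1,5,0,4,1,4,0,5,1,5,0,4,1,4,0,2,0,3,4,1,4,4,4,0,2,4,3,0,0,2,2,0,3,0,3,0,2,2,0,3,3,3,6,5,2,4,1,4], [4,4,4,1,4,4,4,4,0,3,4,4,4,4,2,2,4,4,3,5,1,5,0,4,1,4,0,5,1,5,0,4,1,4,0,5,1,5,0,4,1,4,0,5,1,5,0,4,1,4,0,0,0,0,0,0,2,0,3,0,2,2,0,3,0,3,6,5,2,1,4,0], [6,4,1,4,6], .loop 1 [1,4,4,4,0,3,4,4,2,2,4,4,4,4,3,5,1,5,0,4,1,4,0,5,1,5,0,4,1,4,0,0,2,0,2,0,3,3,0,2,2,0,3,3,3,4,4,4,2,0,0,0,2,0,2,0,3,0,3,0,3,6,4,2,7,5,2,4] 12 16 26 false [.lett 3, .lett 3, .lett 6, .lett 4, .lett 2, .lett 4, .stab 11 false, .stab 11 false, .stab 15 false, .stab 10 false, .stab 15 false, .stab 15 false, .stab 15 false, .stab 11 false, .stab 10 false, .stab 15 false, .stab 11 false, .edge 16 [7,4,5,2,6,5], .lett 0, .lett 3, .lett 3, .lett 1, .lett 4, .lett 2, .lett 5, .lett 2, .lett 1, .lett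 5, .lett 5, .lett 6, .lett 4, .lett 0, .lett 4, .lett 1, .lett 4, .lett 3, .lett 7, .stab 18 false, .stab 20 false, .stab 17 false, .stab 20 false, .stab 20 false, .stab 20 false, .stab 17 false, .stab 18 false] [.lett 5, .lett 7, .lett 3, .lett 5, .lett 3, .lett 3, .lett 5, .lett 2, .lett 0, .lett 2, .lett 2, .lett 0, .lett 2, .lett 1, .lett 3, .stab 11 false, .stab 11 false, .stab 10 false, .stab 15 false, .stab 11 false, .stab 10 false, .stab 11 false, .stab 15 false, .stab 11 false, .edge 19 [7,6,2,7,5,2,6,5], .lett 0, .lett 3, .lett 0, .lett 2, .lett 2, .lett 0, .lett 5, .lett 0, .lett 2, .lett 1, .lett 6, .lett 4, .lett 0, .lett 5, .lett 3, .lett 5, .lett 1, .lett 6, .stab 17 false, .stab 17 false, .stab 17 false, .stab 20 false, .stab 18 false, .edge 25 [1,2,7,1,5,6], .lett 2, .lett 0, .lett 3, .lett 1, .lett 3, .lett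 3, .lett 1, .lett 3, .lett 4, .lett 2, .lett 2, .lett 4, .lett 2, .lett 6, .lett 4, .lett 3, .lett 3, .lett 6, .lett 4, .lett 2, .lett 4] [1,4,6,5,2,2]⟩,
   ⟨1, 2, 2, 1, [4,1,4,4,4,4,0,3,4,4,4,2,2,4,4,3,5,1,5,0,4,1,4,0,5,1,5,0,4,1,4,0,5,1,5,0,4,1,4,0,0,0,0,0,0,0,4,1,4,4,0,0,2,0,3,0,2,2,0,3,0,6,4,2,0,5,0,5], [4,2,4,3,0,0,2,2,0,3,3,0,3,0,6,4,0,5,0,3], [3,4,4,4,4,2,0,0,0,2,0,2,0,3,3,3,6], .loop 1 [4,4,4,1,4,0,3,4,4,4,4,2,5,1,5,0,4,1,4,0,5,1,5,0,4,1,4,0,2,0,2,0,3,3,0,2,2,0,3,3,4,4,4,4,2,4,4,3,0,2,0,2,0,3,3,3,6,5,0,4,1,3] 13 27 39 false [.lett 5, .lett 1, .lett 4, .lett 2, .lett 5, .lett 7, .lett 4, .lett 1, .lett 4, .lett 0, .lett 4, .lett 3, .lett 1, .lett 3, .lett 1, .lett 2, .stab 11 false, .stab 11 false, .stab 15 false, .stab 11 false, .stab 11 false, .stab 11 false, .stab 10 false, .stab 15 false, .stab 11 false, .stab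 11 false, .edge 16 [4,6,5,0,7,6,5,2], .lett 2, .lett 6, .stab 20 false, .stab 18 false, .stab 18 false, .stab 20 false, .stab 18 false, .edge 23 [5,2,5,5,5,0], .lett 2, .lett 2, .lett 1, .lett 3, .lett 1, .lett 2, .lett 2, .lett 5, .lett 0, .lett 4, .lett 1, .lett 5, .lett 6, .lett 5, .lett 2, .lett 2, .lett 1, .lett 4, .lett 2, .stab 20 false, .stab 17 false, .stab 17 false, .stab 17 false] [.stab 11 false, .stab 15 false, .stab 11 false, .stab 11 false, .stab 15 false, .stab 11 false, .stab 10 false, .stab 10 false, .stab 15 false, .stab 15 false, .edge 16 [0,5,4,7,5,6,2,7,5,7], .lett 2, .lett 6] [1,3,7,5,6,5,0]⟩,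
   ⟨1, 3, 2, 0, [4,4,4,4,3,4,2,2,4,4,3,5,1,5,0,4,1,4,0,5,1,5,0,4,1,4,0,5,1,5,0,4,1,4,0,0,2,0,3,4,1,4,4,4,0,5,1,5,0,4,1,4,0,0,0,2,0,3,0,6,4,3,3,7,5,5,1], [4,1,4,4,4,4,0,3,4,4,4,2,2,4,4,3,5,1,5,0,4,1,4,0,5,1,5,0,4,1,4,0,5,1,5,0,4,1,4,0,0,0,0,0,0,0,4,4,2,4,4,3,0,2,0,3,0,3,6,4,1,2,4,2,0,6], [4,4,4,4,0,0,0,0,6], .loop 1 [4,4,4,1,4,4,4,0,3,4,4,4,2,2,4,4,4,4,3,5,1,5,0,4,1,4,0,5,1,5,0,4,1,4,0,5,1,5,0,4,1,4,0,0,2,0,3,0,5,1,5,0,4,1,4,0,2,2,0,3,3,0,2,0,3,0,2,6,4,0,7,5,3] 10 39 19 false [.lett 5, .lett 0, .lett 4, .lett 3, .lett 3, .lett 5, .lett 3, .lett 1, .lett 3, .lett 3, .stab 15 false, .stab 11 false, .stab 10 false, .stab 15 false, .stab 15 false, .stab 10 false, .stab 10 false, .stab 10 false, .edge 33 [3,7,5,2,7,6], .lett 5, .lett 7, .lett 1, .lett 5, .lett 1, .lett 2, .lett 5, .lett 7, .stab 37 false, .stab 36 false, .stab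 35 false, .stab 37 false, .stab 36 false, .stab 34 false] [.lett 0, .lett 6, .lett 4, .lett 1, .lett 2, .lett 4, .lett 1, .lett 6, .lett 4, .lett 0, .stab 10 false, .stab 15 false, .stab 15 false, .stab 11 false, .stab 15 false, .stab 15 false, .stab 11 false, .stab 15 false, .stab 15 false, .edge 19 [6,1,6,0,7], .lett 2, .lett 1, .lett 3, .lett 1, .lett 2, .lett 1, .lett 4, .lett 0, .lett 2, .lett 4, .lett 3, .lett 6, .lett 4, .lett 3, .lett 0, .lett 4, .lett 2, .lett 7, .lett 0] [0,7,3,6,0,7,6,5]⟩,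
   ⟨1, 2, 3, 0, [1,4,4,4,4,0,3,4,4,4,4,2,2,4,4,4,3,5,1,5,0,4,1,4,0,0,0,0,0,2,0,3,4,4,4,1,4,4,0,3,4,2,2,0,6,4,1,4,3,0,7,5], [4,4,4,4,1,4,4,4,0,2,4,4,4,3,0,0,6,4,0,5,3,6,5,1], [1,4,0,2,4,4,4,3,5,1,5,0,4,1,4,0,0,0,0,4,4,3,4,4,2,2,4,3,0,2,2,6], .loop 1 [4,4,4,3,4,4,2,2,4,4,3,5,1,5,0,4,1,4,0,0,0,0,0,0,0,2,0,3,3,4,2,2,2,0,3,3,0,2,0,3,6,4,1,3,4,2,4] 83 27 32 false [.lett 4, .lett 0, .lett 5, .lett 1, .lett 4, .lett 3, .lett 3, .lett 0, .lett 2, .lett 0, .lett 3, .lett 3, .stab 15 false, .stab 15 false, .stab 15 false, .stab 10 false, .stab 15 false, .stab 11 false, .stab 10 false, .stab 15 false, .stab 15 false, .edge 19 [0,6,1,7,2,5,5,6,5], .lett 7, .lett 3, .stab 18 false, .stab 20 false, .stab 20 false, .stab 20 false, .stab 20 false, .stab 17 false, .stab 17 false, .stab 17 false, .edge 30 [7,6,3,7,1,5,6,7,6], .lett 3, .lett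 0, .lett 2, .lett 0, .lett 2, .lett 5, .lett 1, .lett 5, .lett 0, .lett 5, .lett 6, .lett 4, .lett 3, .lett 5, .lett 0, .lett 4, .stab 20 false, .stab 18 false, .stab 18 false] [.lett 6, .lett 5, .lett 2, .lett 2, .lett 1, .lett 4, .lett 2, .stab 10 false, .stab 15 false, .stab 11 false, .stab 10 false, .stab 15 false, .stab 15 false, .stab 10 false, .stab 11 false, .edge 38 [5,2,6,5], .lett 7, .lett 3] [1,2,5,7,0,5,6,7,5,7]⟩,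
   ⟨1, 2, 3, 1, [4,1,4,4,0,3,4,4,4,2,2,4,3,5,1,5,0,4,1,4,0,0,4,4,2,4,4,3,0,0,0,0,2,0,2,0,3,3,3,6,4,7,4,1], [4,4,4,1,4,0,3,4,4,4,4,2,5,1,5,0,4,1,4,0,5,1,5,0,4,1,4,0,2,0,2,0,3,3,0,2,2,0,3,3,4,4,1,4,0,3,4,2,2,4,3,3,6,4,2,6,4,0,4,3], [2,4,4,4,4,3,0,0,0,0,2,6], .loop 1 [4,1,4,4,0,3,4,2,5,1,5,0,4,1,4,0,5,1,5,0,4,1,4,0,5,1,5,0,4,1,4,0,0,0,0,2,0,3,4,4,3,4,4,4,4,2,0,0,2,6,4,3,5,5,1,2] 12 0 42 false [.stab 15 false, .stab 11 false, .stab 10 false, .stab 11 false, .stab 15 false, .stab 10 false, .stab 15 false, .stab 15 false, .stab 15 false, .stab 11 false, .edge 16 [2,5,6,7,3,2,5], .lett 2, .lett 0, .lett 3, .lett 1, .lett 3, .lett 3, .lett 1, .lett 3, .lett 4, .lett 2, .lett 2, .lett 4, .lett 2, .lett 6, .lett 4, .lett 3, .lett 3, .lett 6, .lett 4, .lett 2, .lett 4, .stab 20 false, .stab 20 false, .stab 18 false, .stab 18 false,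 .stab 18 false, .stab 17 false, .edge 29 [1,0,7,6,2,5,7,6,5], .lett 0, .lett 3, .lett 3, .lett 1, .lett 4, .lett 2, .lett 5, .lett 2, .lett 1, .lett 5, .lett 5, .lett 6, .lett 4, .lett 0, .lett 4, .lett 1, .lett 4, .lett 3, .lett 7, .stab 20 false, .stab 17 false, .stab 18 false, .stab 17 false] [.lett 0, .lett 3, .lett 0, .lett 2, .lett 2, .lett 0, .lett 5, .lett 0, .lett 2, .lett 1, .lett 6, .lett 4, .lett 0, .lett 5, .lett 3, .lett 5, .lett 1, .lett 6, .stab 11 false, .stab 15 false, .stab 10 false, .stab 15 false, .stab 15 false, .stab 15 false, .stab 15 false, .edge 33 [5,2,6,1,5,5,7,6,5], .lett 2, .lett 0, .lett 3, .lett 1, .lett 3, .lett 3, .lett 1, .lett 3, .lett 4, .lett 2, .lett 2, .lett 4, .lett 2, .lett 6, .lett 4, .lett 3, .lett 3, .lett 6, .lett 4, .lett 2, .lett 4] [0,6,2,0,2,5,2]⟩,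
   ⟨1, 2, 3, 0, [4,4,4,1,4,4,4,0,3,4,4,4,2,2,4,4,4,4,3,5,1,5,0,4,1,4,0,5,1,5,0,4,1,4,0,5,1,5,0,4,1,4,0,0,2,0,3,0,4,4,4,1,4,4,4,0,0,0,0,0,2,6,4,0,3,3,7,4], [4,4,4,4,1,4,4,0,3,4,4,4,2,5,1,5,0,4,1,4,0,5,1,5,0,4,1,4,0,5,1,5,0,4,1,4,0,5,1,5,0,4,1,4,0,2,0,3,4,4,4,1,4,4,4,4,0,3,4,2,0,0,0,6,4,1,6,5,1,2,1], [6,4,3,6], .loop 1 [4,4,4,4,3,4,2,2,4,4,3,5,1,5,0,4,1,4,0,5,1,5,0,4,1,4,0,5,1,5,0,4,1,4,0,0,2,0,3,4,4,4,3,4,4,4,4,2,2,4,4,4,4,2,0,3,0,3,0,6,4,1,2,1,4,2] 62 0 26 false [.stab 10 false, .stab 15 false, .stab 15 false, .stab 10 false, .stab 15 false, .stab 11 false, .stab 15 false, .stab 11 false, .stab 15 false, .edge 16 [5,3,6,7,5,6,5,2,7], .lett 3, .lett 1, .lett 2, .edge 22 [6,2,5,5,6,7,6,2], .lett 2, .lett 0, .lett 3, .lett 1, .lett 3, .lett 3, .lett 1, .lett 3, .lett 4, .lett 2, .lett 2, .lett 4, .lett 2, .lett 6, .lett 4, .lett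 3, .lett 3, .lett 6, .lett 4, .lett 2, .lett 4, .stab 20 false, .stab 20 false, .stab 18 false, .stab 20 false, .stab 17 false] [.stab 10 false, .stab 15 false, .stab 15 false, .stab 10 false, .stab 15 false, .stab 11 false, .stab 15 false, .stab 11 false, .stab 15 false, .edge 16 [5,3,6,7,5,6,5,2,7], .lett 3, .lett 1, .lett 2, .lett 0, .lett 3, .lett 0, .lett 2, .lett 2, .lett 0, .lett 5, .lett 0, .lett 2, .lett 1, .lett 6, .lett 4, .lett 0, .lett 5, .lett 3, .lett 5, .lett 1, .lett 6, .stab 18 false, .stab 17 false, .stab 20 false, .stab 17 false, .stab 17 false, .edge 24 [1,6,2,5,7,3,6], .lett 2, .lett 0, .lett 3, .lett 1, .lett 3, .lett 3, .lett 1, .lett 3, .lett 4, .lett 2, .lett 2, .lett 4, .lett 2, .lett 6, .lett 4, .lett 3, .lett 3, .lett 6, .lett 4, .lett 2, .lett 4, .stab 20 false, .stab 20 false, .stab 18 false,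 .stab 20 false, .stab 17 false, .edge 54 [1,6,7,3,5,0,7], .lett 6, .lett 2, .lett 5, .lett 0, .lett 5, .lett 1, .lett 5, .lett 7, .lett 4, .lett 4, .lett 0, .lett 3, .lett 4, .lett 3, .lett 5, .lett 0, .lett 2, .lett 2, .lett 1] [0,7,0,6,1,5,6,5]⟩,
   ⟨1, 3, 3, 1, [1,4,0,2,4,4,4,3,0,0,6,4,0,3,1,5,1,5], [4,4,4,1,4,4,4,0,3,4,4,4,2,2,4,4,4,4,3,5,1,5,0,4,1,4,0,5,1,5,0,4,1,4,0,5,1,5,0,4,1,4,0,0,2,0,3,0,3,4,4,2,0,0,0,2,0,3,0,2,2,0,3,0,3,0,3,0,6,4,3,4,7], [1,4,0,3,4,2,2,4,3,0,0,0,0,0,2,0,3,4,4,1,5,0,4,1,4,0,0,0,0,2,0,3,0,2,6], .loop 1 [4,4,4,1,4,4,4,0,3,4,4,4,2,2,4,4,4,4,3,5,1,5,0,4,1,4,0,5,1,5,0,4,1,4,0,5,1,5,0,4,1,4,0,0,2,0,3,0,4,4,3,4,4,4,2,2,4,4,4,4,3,0,0,0,3,6,4,3,0,4] 13 0 23 false [.stab 15 false, .stab 10 false, .stab 11 false, .stab 15 false, .stab 15 false, .stab 15 false, .stab 10 false, .stab 11 false, .stab 15 false,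 .edge 16 [6,7,6,5,3,5,0], .lett 2, .lett 6, .stab 18 false, .stab 18 false, .stab 18 false, .stab 18 false, .stab 18 false, .edge 49 [5,5,5], .lett 2, .lett 2, .lett 1, .lett 3, .lett 1, .lett 2, .lett 2, .lett 5, .lett 0, .lett 4, .lett 1, .lett 5, .lett 6, .lett 5, .lett 2, .lett 2, .lett 1, .lett 4, .lett 2, .stab 36 false, .stab 37 false, .stab 36 false, .stab 35 false, .stab 36 false, .stab 36 false] [.lett 3, .lett 0, .lett 2, .lett 0, .lett 2, .lett 5, .lett 1, .lett 5, .lett 0, .lett 5, .lett 6, .lett 4, .lett 3, .lett 5, .lett 0, .lett 4, .stab 11 false, .stab 11 false, .stab 15 false, .stab 10 false, .stab 11 false, .stab 15 false, .stab 10 false, .stab 15 false, .edge 33 [4,6,0,7,6,3,6,5], .lett 2, .lett 6] [3,7,0,5,7,6,1,2]⟩,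
   ⟨1, 3, 2, 0, [4,1,4,4,4,4,0,3,4,4,4,2,2,4,4,3,5,1,5,0,4,1,4,0,5,1,5,0,4,1,4,0,5,1,5,0,4,1,4,0,0,0,0,0,0,0,4,4,2,4,4,3,0,0,0,0,3,6,4,3,5,2,0,3], [4,4,4,4,1,4,0,3,4,4,2,2,4,4,4,3,5,1,5,0,4,1,4,0,5,1,5,0,4,1,4,0,5,1,5,0,4,1,4,0,0,0,0,4,0,2,4,4,4,4,3,0,0,0,0,0,0,3,6,4,2,1,5], [4,3,4,4,4,4,2,0,0,0,0,3,6], .loop 2 [4,4,4,4,1,4,0,3,4,4,2,2,4,4,4,3,5,1,5,0,4,1,4,0,5,1,5,0,4,1,4,0,5,1,5,0,4,1,4,0,0,0,0,4,0,2,4,4,4,4,3,0,2,2,0,3,6,4,3,5,0,4,0] 8 2 3 false [.lett 1, .lett 1, .stab 18 false, .stab 20 false, .stab 20 false, .stab 20 false, .stab 17 false, .stab 18 false, .edge 56 [6,0,5,7,0,3,6], .stab 37 false, .stab 36 false, .stab 36 false, .stab 36 false, .stab 37 false, .stab 37 false, .stab 35 false, .stab 36 false, .stab 36 false] [] [0,5,5,7,1,3,3]⟩,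
   ⟨1, 2, 4, 1, [4,4,4,1,4,4,0,3,4,4,4,4,2,2,4,3,5,1,5,0,4,1,4,0,5,1,5,0,4,1,4,0,0,0,4,2,4,4,4,3,0,0,2,0,2,0,3,3,0,6,5,2,5,3,5,1,4], [4,1,4,4,4,0,3,4,4,4,4,2,2,4,4,4,4,3,0,0,0,0,0,2,0,3,0,2,4,3,0,0,0,0,2,0,6,4,3,0,4,2,7], [4,1,4,0,2,4,3,5,1,5,0,4,1,4,0,5,1,5,0,4,1,4,0,0,0,2,0,3,1,4,4,4,4,0,3,4,2,2,4,4,6], .loop 1 [4,4,4,4,1,4,4,4,0,2,4,4,4,4,3,5,1,5,0,4,1,4,0,5,1,5,0,4,1,4,0,5,1,5,0,4,1,4,0,0,0,0,2,0,3,0,4,4,4,4,1,4,0,3,4,2,0,2,0,2,0,3,0,3,0,6,4,0,4,3,4,0] 80 6 35 false [.lett 2, .lett 2, .lett 5, .lett 1, .lett 4, .lett 0, .lett 6, .lett 4, .lett 1, .lett 2, .lett 4, .lett 1, .lett 6, .lett 4, .lett 0, .stab 15 false, .stab 11 false, .stab 10 false, .stab 11 false, .stab 15 false, .stab 11 false, .stab 15 false, .stab 10 false, .stab 15 false, .edge 19 [7,0,5,7,1,7,1,6], .lett 2, .lett 1, .lett 3, .lett 1, .lett 2, .lett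 1, .lett 4, .lett 0, .lett 2, .lett 4, .lett 3, .lett 6, .lett 4, .lett 3, .lett 0, .lett 4, .lett 2, .lett 7, .lett 0, .stab 17 false, .stab 17 false, .stab 20 false, .stab 20 false, .stab 17 false] [.lett 5, .lett 3, .lett 1, .lett 3, .lett 3, .stab 10 false, .stab 15 false, .stab 11 false, .stab 15 false, .stab 11 false, .stab 11 false, .stab 10 false, .stab 11 false, .stab 15 false, .edge 43 [1,5,7,2,6,5,7,2,6,7], .lett 5, .lett 7, .lett 1, .lett 5, .lett 1, .lett 2, .lett 5, .lett 7] [5,5,5,3,5,3,7]⟩,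
   ⟨1, 3, 2, 0, [4,1,4,4,0,3,4,2,5,1,5,0,4,1,4,0,5,1,5,0,4,1,4,0,5,1,5,0,4,1,4,0,0,0,0,2,0,3,4,1,4,0,3,4,4,2,2,0,3,3,6,4,1,5,1,4,2,6], [4,3,4,4,4,2,2,4,4,4,3,0,0,2,0,3,0,4,4,4,1,4,0,3,4,4,2,2,0,3,3,0,6,4,0,4,2,5,7], [2,4,4,4,4,3,0,0,0,0,2,6], .loop 2 [4,4,4,1,4,4,4,4,0,3,4,2,2,4,4,4,3,5,1,5,0,4,1,4,0,5,1,5,0,4,1,4,0,2,2,0,3,3,0,2,2,0,3,0,3,4,4,4,4,1,4,0,2,4,4,4,4,2,0,3,3,0,2,6,4,3,3,5,6,5] 10 1 48 false [.lett 7, .lett 1, .lett 5, .lett 1, .lett 2, .lett 5, .lett 7, .stab 20 false, .stab 20 false, .stab 18 false, .edge 42 [1,6,4,5,7,3,3,6], .lett 1, .lett 6, .lett 3, .lett 5, .lett 1, .lett 2, .lett 5, .lett 7, .lett 2, .lett 5, .lett 3, .lett 1, .lett 5, .lett 0, .lett 3, .lett 0, .lett 2, .lett 0, .lett 3, .stab 17 false, .stab 20 false, .stab 17 false, .stab 20 false, .stab 18 false, .stab 18 false, .edge 40 [0,6,5,7,1,0,5,5,7],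 .lett 1, .lett 5, .lett 7, .lett 0, .lett 5, .lett 3, .lett 0, .lett 5, .lett 7, .lett 1, .lett 5, .lett 0, .lett 4, .lett 3, .lett 3, .lett 5, .lett 3, .lett 1, .lett 3, .lett 3, .stab 35 false, .stab 37 false, .stab 36 false, .stab 36 false, .stab 37 false, .stab 37 false, .stab 37 false] [.lett 4] [0,3,5,6,5,7,1,6,7]⟩,
   ⟨1, 2, 3, 1, [1,4,4,4,0,3,4,2,2,4,4,4,3,0,2,6,5,0,4,0,4,3], [4,4,4,4,1,4,0,3,4,4,2,2,4,4,4,3,5,1,5,0,4,1,4,0,5,1,5,0,4,1,4,0,5,1,5,0,4,1,4,0,0,0,0,0,4,4,4,1,4,4,4,0,2,4,4,4,2,0,3,3,3,6,4,3,0,4,2,2,6], [4,4,4,4,0,0,0,0,2,6], .loop 1 [4,1,4,4,0,3,4,4,4,2,2,4,3,5,1,5,0,4,1,4,0,0,4,4,1,4,0,3,4,4,2,0,6,4,0,2,1,6,4,4] 80 44 27 false [.lett 3, .lett 0, .lett 4, .lett 0, .lett 6, .lett 4, .stab 11 false, .stab 10 false, .stab 11 false, .stab 15 false, .stab 15 false, .stab 10 false, .stab 10 false, .stab 15 false,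 .stab 11 false, .stab 15 false, .stab 11 false, .edge 19 [0,3,0,6,5,3,4], .lett 2, .lett 2, .lett 0, .lett 2, .lett 4, .lett 2, .lett 2, .lett 5, .lett 1, .lett 4, .lett 0, .lett 6, .lett 4, .lett 1, .lett 2, .lett 4, .lett 1, .lett 6, .lett 4, .lett 0, .stab 17 false, .stab 20 false, .stab 20 false, .stab 18 false, .stab 17 false] [.lett 5, .lett 7, .stab 11 false, .stab 11 false, .stab 10 false, .stab 15 false, .stab 15 false, .stab 10 false, .edge 33 [0,6,3,5,0,7,6,2], .lett 1, .lett 6, .lett 3, .lett 5, .lett 1, .lett 2, .lett 5, .lett 7, .lett 2, .lett 5, .lett 3, .lett 1, .lett 5, .lett 0, .lett 3, .lett 0, .lett 2, .lett 0, .lett 3] [7,5,6,1,2,7,6]⟩,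
   ⟨1, 2, 4, 0, [1,4,4,4,4,0,3,4,4,4,4,2,2,4,4,4,3,5,1,5,0,4,1,4,0,0,0,0,0,2,0,3,4,3,4,4,4,2,0,0,0,2,0,3,0,2,2,0,3,6,4,2,0,4,0,4,2], [4,4,4,1,4,4,4,0,3,4,4,4,2,2,4,4,4,4,3,5,1,5,0,4,1,4,0,5,1,5,0,4,1,4,0,5,1,5,0,4,1,4,0,0,2,0,3,0,4,4,4,1,4,4,4,0,0,0,2,0,2,0,3,3,0,2,0,3,0,6,4,1,6,5,6,4,0], [2], .loop 4 [4,1,4,0,2,4,3,5,1,5,0,4,1,4,0,5,1,5,0,4,1,4,0,0,0,2,0,3,4,4,1,4,4,4,0,2,4,4,2,0,3,0,3,6,4,0,6,5,3,4,7] 8 0 1 false [.stab 50 false, .stab 45 false, .stab 44 false, .stab 50 false, .stab 50 false, .stab 44 false, .edge 48 [6,0,7,0,2,5,7]] [.lett 0, .lett 0] [0,2,7,5,6,3,2,7]⟩,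
   ⟨1, 4, 2, 1, [4,3,4,4,4,2,2,4,4,4,3,0,0,2,0,3,0,4,4,1,4,0,5,1,5,0,4,1,4,0,0,2,2,0,3,0,3,3,6,5,0,5,1,5,0], [4,4,4,1,4,4,4,4,0,3,4,2,2,4,4,4,3,5,1,5,0,4,1,4,0,5,1,5,0,4,1,4,0,2,2,0,3,3,0,2,2,0,3,0,3,1,4,4,4,0,0,0,2,2,0,3,3,0,2,0,3,0,3,6,4,3,3,5,3,3], [3,4,4,4,4,2,0,0,0,0,3,6], .loop 2 [4,4,4,4,3,4,2,2,4,4,3,5,1,5,0,4,1,4,0,5,1,5,0,4,1,4,0,5,1,5,0,4,1,4,0,0,2,0,3,4,3,4,2,2,4,4,4,3,0,2,0,2,0,3,3,0,2,0,3,6,4,3,4,4,7,5] 129 0 30 false [.stab 17 false, .stab 20 false, .stab 20 false, .stab 20 false, .stab 20 false, .stab 17 false, .edge 24 [3,2,7,5,3,0], .lett 6, .lett 7, .lett 6, .lett 1, .lett 3, .lett 5, .lett 3, .lett 5, .lett 7, .lett 2, .lett 2, .lett 5, .lett 7, .lett 2, .lett 5, .lett 3, .lett 5, .lett 1, .lett 4, .lett 3, .lett 3, .lett 0, .lett 3, .lett 3, .lett 0, .lett 3, .lett 1, .stab 17 false, .stab 20 false, .stab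 17 false, .stab 20 false, .stab 20 false, .stab 17 false, .edge 59 [1,5,5,6,4,5,7,1], .lett 7, .stab 46 false, .stab 46 false, .stab 45 false, .stab 50 false, .stab 50 false, .stab 44 false, .stab 50 false, .stab 45 false, .stab 44 false] [.stab 17 false, .stab 20 false, .stab 20 false, .stab 20 false, .stab 20 false, .stab 17 false, .edge 24 [3,2,7,5,3,0], .lett 6, .lett 7, .lett 6, .lett 1, .lett 3, .stab 17 false, .stab 18 false, .stab 20 false, .stab 18 false, .stab 20 false, .stab 17 false, .stab 17 false, .edge 21 [5,5,6,3,7,6,3,6,7], .lett 7, .stab 17 false, .edge 27 [7,1,5,6,7,3], .lett 1, .lett 5, .lett 7, .lett 2, .lett 1, .lett 3, .lett 5, .lett 7, .lett 2, .lett 1, .lett 3, .lett 5, .lett 3, .lett 0, .lett 3, .lett 3, .lett 0, .lett 3] [7,5,7,6,2,7,5,6,3]⟩]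

/-- facts -/
def cf4 : List Fact :=
  [⟨1, 4, 2, 1, [1,4,4,4,4,0,3,4,4,4,4,2,2,4,4,4,3,5,1,5,0,4,1,4,0,0,0,0,0,2,0,3,4,4,4,4,3,4,4,2,0,0,0,0,2,2,6,4,3,4,0,5,1], [1,4,4,4,0,3,4,4,2,2,4,4,4,4,3,5,1,5,0,4,1,4,0,5,1,5,0,4,1,4,0,0,2,0,2,0,3,3,0,2,2,0,3,3,4,4,4,4,3,4,2,2,4,4,3,0,0,0,0,6,4,3,4,4,0,5,7], [4,1,4,4,0,3,4,4,4,2,2,4,3,5,1,5,0,4,1,4,0,0,4,1,4,0,3,4,4,2,0,0,6], .loop 1 [1,4,0,2,4,4,4,3,5,1,5,0,4,1,4,0,0,0,0,4,4,4,1,4,4,0,3,4,4,2,2,4,4,4,4,0,2,0,3,0,6,4,0,5,3,5,1,7] 82 40 20 false [.stab 11 false, .stab 15 false, .stab 15 false, .stab 15 false, .stab 11 false, .stab 10 false, .stab 11 false, .stab 15 false, .edge 43 [1,7,0,4,5,6,7,6], .lett 6, .lett 2, .lett 5, .lett 0, .lett 5, .lett 1, .lett 5, .lett 7, .lett 4, .lett 4, .lett 0, .lett 3, .lett 4, .lett 3, .lett 5, .lett 0, .lett 2, .lett 2, .lett 1, .stab 50 false,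 .stab 46 false, .stab 44 false, .stab 50 false, .stab 44 false, .stab 50 false, .stab 45 false, .stab 44 false] [.lett 5, .lett 3, .lett 5, .lett 7, .lett 2, .lett 2, .lett 5, .lett 7, .lett 3, .lett 5, .lett 3, .lett 3, .lett 5, .lett 2, .lett 0, .lett 2, .lett 2, .lett 0, .lett 2, .lett 1, .lett 3, .stab 11 false, .stab 15 false, .stab 11 false, .stab 15 false, .stab 10 false, .stab 11 false, .stab 15 false, .stab 10 false, .stab 15 false, .stab 11 false, .edge 19 [2,2,1,1,6,3,5], .lett 7, .lett 0, .lett 4, .lett 2, .lett 4, .lett 1, .lett 5, .lett 7, .lett 0, .lett 3, .lett 1, .lett 4, .lett 1, .lett 3, .lett 3, .lett 1, .lett 2, .lett 1, .stab 17 false, .stab 20 false, .stab 20 false, .stab 18 false, .stab 20 false, .stab 18 false, .edge 26 [6,5,2,2,4,6,7], .lett 2, .lett 0, .lett 3, .lett 1, .lett 3, .lett 3, .lett 1,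 .lett 3, .lett 4, .lett 2, .lett 2, .lett 4, .lett 2, .lett 6, .lett 4, .lett 3, .lett 3, .lett 6, .lett 4, .lett 2, .lett 4] [7,0,7,5,7,6,3]⟩,
   ⟨1, 2, 4, 1, [4,4,4,4,1,4,4,4,4,0,3,4,4,2,2,4,0,3,0,4,4,4,1,4,4,4,0,2,4,4,4,4,3,0,0,2,0,2,0,3,0,6,4,4,7,4,2,5,5], [4,4,4,3,4,4,2,2,4,4,3,5,1,5,0,4,1,4,0,0,0,0,0,0,0,2,0,3,4,1,4,4,4,0,3,4,4,4,4,2,0,0,2,0,2,0,3,0,3,6,4,1,4,4,3,4], [4,4,4,1,4,4,4,4,0,3,4,2,2,4,4,4,3,5,1,5,0,4,1,4,0,5,1,5,0,4,1,4,0,2,2,0,3,3,0,2,2,0,3,0,3,4,3,4,4,4,4,2,2,4,4,4,0,3,0,6], .loop 4 [4,4,4,3,4,4,2,2,4,4,3,5,1,5,0,4,1,4,0,0,0,0,0,0,0,2,0,3,4,1,4,4,4,0,3,4,4,4,4,2,0,0,2,0,2,0,3,0,3,3,6,4,2,0,5,0,3] 78 3 3 false [.stab 46 false, .stab 50 false, .stab 50 false, .stab 46 false, .stab 45 false, .stab 46 false, .stab 45 false, .edge 64 [0,1,1,0,6,3], .lett 0, .lett 0, .stab 18 false, .stab 20 false, .stab 20 false,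 .stab 20 false, .stab 18 false, .stab 17 false] [] [5,5,5,0,5,6,0,5,5]⟩,
   ⟨1, 2, 2, 1, [4,4,4,4,1,4,4,4,0,2,4,4,4,4,3,5,1,5,0,4,1,4,0,5,1,5,0,4,1,4,0,5,1,5,0,4,1,4,0,0,0,0,2,0,3,5,0,4,1,4,0,2,0,3,6,4,0,5,3,4,2,6], [4,3,4,4,4,2,2,4,4,4,3,0,0,2,0,3,0,3,4,2,2,0,2,0,3,3,0,2,0,6,5,0,4,3,4], [4,4,4,4,1,4,0,3,4,4,2,2,4,4,4,3,5,1,5,0,4,1,4,0,5,1,5,0,4,1,4,0,5,1,5,0,4,1,4,0,0,0,0,4,0,3,4,4,2,2,4,4,4,4,2,6], .loop 3 [4,4,4,3,4,4,2,2,4,4,3,5,1,5,0,4,1,4,0,0,0,0,0,0,0,2,0,3,4,3,4,4,2,2,4,4,4,3,0,2,0,2,0,3,0,3,6,4,0,6,5,2,7,5] 117 0 9 false [.stab 37 false, .stab 35 false, .stab 37 false, .stab 37 false, .stab 35 false, .stab 36 false, .stab 37 false, .stab 37 false, .edge 53 [1,7,1,7], .lett 7, .lett 5, .lett 2, .lett 2, .lett 2, .lett 0, .lett 0, .stab 18 false, .stab 18 false, .stab 20 false, .edge 52 [5,7,6,2,6,2,6,7,5], .stab 18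 false] [.stab 37 false, .stab 35 false, .stab 37 false, .stab 37 false, .stab 35 false, .stab 36 false, .stab 37 false, .stab 37 false, .edge 53 [1,7,1,7], .lett 7, .lett 5, .lett 2, .lett 2, .lett 2] [3,7,6,2,5,2,7,3]⟩,
   ⟨1, 2, 2, 0, [4,4,4,1,4,4,4,4,0,3,4,2,2,4,4,4,3,5,1,5,0,4,1,4,0,5,1,5,0,4,1,4,0,2,2,0,3,3,0,2,2,0,3,0,3,1,4,4,0,2,4,4,4,2,0,3,3,0,2,0,3,6,4,7,4,3,3,0,5], [4,1,4,4,4,4,0,3,4,4,4,2,2,4,4,3,5,1,5,0,4,1,4,0,5,1,5,0,4,1,4,0,5,1,5,0,4,1,4,0,0,0,0,0,0,0,4,2,0,3,0,2,2,0,3,3,0,3,6,4,0,2,0,4,0], [4,4,4,1,4,4,4,4,0,3,4,4,4,4,2,2,4,4,3,5,1,5,0,4,1,4,0,5,1,5,0,4,1,4,0,5,1,5,0,4,1,4,0,5,1,5,0,4,1,4,0,0,0,0,0,0,4,2,4,4,4,3,6], .loop 2 [4,1,4,4,4,4,0,3,4,4,4,2,2,4,4,3,5,1,5,0,4,1,4,0,5,1,5,0,4,1,4,0,5,1,5,0,4,1,4,0,0,0,0,0,0,0,4,2,2,0,3,0,3,0,2,2,0,3,3,3,6,4,3,3,4] 10 9 49 false [.lett 1, .lett 6, .lett 3, .lett 5, .lett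 1, .lett 2, .lett 5, .lett 7, .lett 2, .lett 5, .lett 3, .lett 1, .lett 5, .lett 0, .lett 3, .lett 0, .lett 2, .lett 0, .lett 3, .stab 18 false, .stab 20 false, .stab 20 false, .stab 20 false, .edge 49 [0,5,7,6,1,0,7,5,7], .lett 1, .lett 5, .lett 7, .lett 0, .lett 5, .lett 3, .lett 0, .lett 5, .lett 7, .lett 1, .lett 5, .lett 0, .lett 4, .lett 3, .lett 3, .lett 5, .lett 3, .lett 1, .lett 3, .lett 3, .stab 37 false, .stab 36 false, .stab 35 false, .stab 37 false, .stab 37 false, .stab 37 false, .edge 58 [6,3,5,2,7,6,2,7], .lett 5, .lett 7, .lett 1, .lett 5, .lett 1, .lett 2, .lett 5, .lett 7, .stab 17 false, .stab 18 false, .stab 20 false, .stab 20 false, .stab 20 false, .stab 17 false, .stab 18 false] [] [0,3,7,5,6,5,2,5]⟩,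
   ⟨1, 3, 2, 1, [4,4,1,4,4,4,4,0,3,4,2,0,0,0,2,2,0,3,0,3,0,6,5,3,4,0,2,4], [4,4,4,1,4,0,3,4,4,4,4,2,5,1,5,0,4,1,4,0,5,1,5,0,4,1,4,0,2,0,2,0,3,3,0,2,2,0,3,3,4,1,4,0,2,4,4,3,0,2,2,0,3,3,0,2,0,3,6,4,2,7,4,4,0,4], [3,4,4,4,4,2,0,0,0,0,3,6], .loop 1 [4,3,4,4,4,2,2,4,4,4,3,0,0,2,0,3,0,4,1,4,4,4,4,0,2,4,4,4,4,0,2,0,3,0,3,0,6,5,3,3,4,3,1] 12 9 33 false [.lett 4, .lett 2, .lett 2, .lett 4, .lett 2, .lett 6, .lett 4, .lett 3, .lett 3, .lett 6, .lett 4, .lett 2, .lett 4, .stab 15 false, .stab 10 false, .stab 10 false, .stab 10 false, .stab 15 false, .edge 33 [5,4,5,2,7,5,6,5], .lett 0, .lett 3, .lett 3, .lett 1, .lett 4, .lett 2, .lett 5, .lett 2, .lett 1, .lett 5, .lett 5, .lett 6, .lett 4, .lett 0, .lett 4, .lett 1, .lett 4, .lett 3, .lett 7, .stab 36 false, .stab 35 false, .stab 37 false, .stab 36 false, .stab 36 false, .stab 37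 false, .stab 37 false, .stab 36 false, .stab 35 false] [.lett 2, .lett 0, .lett 2, .lett 2, .lett 0, .lett 2, .lett 1, .lett 3, .stab 10 false, .stab 15 false, .stab 11 false, .stab 15 false, .stab 15 false, .stab 10 false, .stab 10 false, .stab 15 false, .edge 19 [1,5,6,5,3,7], .lett 0, .lett 3, .lett 0, .lett 2, .lett 2, .lett 0, .lett 5, .lett 0, .lett 2, .lett 1, .lett 6, .lett 4, .lett 0, .lett 5, .lett 3, .lett 5, .lett 1, .lett 6, .stab 18 false, .stab 17 false, .stab 20 false, .stab 20 false, .stab 20 false, .stab 17 false, .stab 17 false, .edge 23 [6,7,6,1,5,6,1,2], .lett 2, .lett 0, .lett 3, .lett 1, .lett 3, .lett 3, .lett 1, .lett 3, .lett 4, .lett 2, .lett 2, .lett 4, .lett 2, .lett 6, .lett 4, .lett 3, .lett 3, .lett 6, .lett 4, .lett 2, .lett 4] [1,7,5,6,0,3,5,7,5]⟩,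
   ⟨1, 4, 3, 1, [4,1,4,4,4,4,0,3,4,4,4,2,2,4,4,3,5,1,5,0,4,1,4,0,5,1,5,0,4,1,4,0,5,1,5,0,4,1,4,0,0,0,0,0,0,5,0,4,1,4,0,0,0,2,0,3,0,2,2,0,3,0,6,4,3,0,4,0,5], [4,4,4,1,4,0,3,4,4,4,4,2,5,1,5,0,4,1,4,0,5,1,5,0,4,1,4,0,2,0,2,0,3,3,0,2,2,0,3,3,4,4,4,1,4,0,0,2,2,0,3,3,6,4,1,6,4,7,5,0], [3,4,4,4,4,2,0,0,0,0,2,2,6], .loop 2 [4,1,4,4,4,0,3,4,4,4,4,2,2,4,4,4,4,3,0,0,0,0,0,2,0,3,0,4,4,1,4,4,0,2,4,4,4,4,3,0,2,2,0,3,0,3,6,4,2,4,1,5,1,4] 79 7 7 false [.lett 2, .stab 20 false, .stab 18 false, .stab 20 false, .stab 18 false, .stab 20 false, .stab 20 false, .stab 20 false, .edge 59 [0,5,2,0,7,6,5,7], .lett 3, .lett 3, .lett 1, .lett 2, .lett 2, .stab 44 false, .stab 50 false, .stab 46 false, .stab 44 false] [.lett 3, .lett 0, .lett 2, .lett 2, .stab 17 false, .stab 20 false, .stab 20 false, .stab 20 false, .stab 20 false, .stab 18 false, .stab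 17 false, .edge 54 [5,6,0,7,6,3,5,5,5,6], .lett 0, .lett 0, .lett 3, .lett 3, .lett 0, .lett 2, .lett 2] [0,3,0,6,1,3,7]⟩,
   ⟨1, 3, 3, 0, [4,4,4,1,4,4,4,4,0,3,4,4,4,4,2,2,4,4,3,5,1,5,0,4,1,4,0,5,1,5,0,4,1,4,0,5,1,5,0,4,1,4,0,5,1,5,0,4,1,4,0,0,0,0,0,0,4,4,4,1,4,4,0,3,4,2,2,0,3,0,2,2,0,3,0,3,3,6,4,1,5,6,5,2,6], [4,4,4,1,4,4,4,0,3,4,4,4,2,2,4,4,4,4,3,5,1,5,0,4,1,4,0,5,1,5,0,4,1,4,0,5,1,5,0,4,1,4,0,0,2,0,3,4,0,3,4,4,4,2,2,4,4,2,0,3,6,4,0,5,3,5,1,7], [1,4,0,0,0,0,2,6], .loop 4 [4,4,4,1,4,0,3,4,4,4,4,2,5,1,5,0,4,1,4,0,5,1,5,0,4,1,4,0,2,0,2,0,3,3,0,2,2,0,3,3,4,4,4,4,2,0,2,0,3,0,3,0,3,0,6,5,2,2,5,1] 81 18 25 false [.lett 3, .lett 0, .lett 3, .lett 1, .stab 46 false, .stab 46 false, .stab 46 false, .stab 50 false, .stab 50 false, .stab 50 false, .stab 50 false, .edge 63 [1,7,6,1,5,2,7,3], .lett 7, .stab 20 false, .stab 17 false,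 .stab 20 false, .stab 20 false, .stab 17 false, .stab 20 false, .edge 55 [3,7,5,7,6,2,7], .lett 2, .lett 1, .lett 2, .lett 2, .lett 1, .lett 2, .lett 4, .lett 2, .lett 0, .lett 3, .lett 6, .lett 4, .lett 2, .lett 0, .lett 3, .lett 6, .lett 4, .lett 0, .stab 36 false, .stab 37 false, .stab 35 false, .stab 36 false] [.lett 2, .lett 1, .lett 2, .lett 2, .lett 5, .lett 0, .lett 4, .lett 2, .lett 4, .lett 3, .lett 6, .lett 4, .lett 3, .lett 3, .lett 6, .lett 4, .lett 2, .lett 4, .stab 45 false, .stab 46 false, .stab 50 false, .stab 50 false, .stab 46 false, .edge 69 [0,5,3,5,6,2,5,5,5,6], .lett 7] [2,5,6,5,7,3,7,3,7,6]⟩,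
   ⟨1, 4, 3, 0, [1,4,0,3,4,2,2,4,3,0,0,0,0,0,2,0,4,4,4,4,3,0,0,0,0,0,2,0,3,0,2,6,4,3,5,2,4,2], [1,4,0,2,4,4,4,3,5,1,5,0,4,1,4,0,0,0,0,4,1,4,4,4,4,0,3,4,4,2,2,2,0,3,3,0,6,4,2,7,4,0,4,3], [3,4,4,4,4,2,0,0,0,0,2,2,6], .loop 1 [4,3,4,4,4,2,2,4,4,4,3,0,0,2,0,3,4,4,4,0,3,4,2,2,4,4,4,3,0,0,0,0,2,2,0,3,3,6,5,0,2,4] 81 30 15 false [.lett 2, .lett 4, .lett 2, .lett 0, .lett 3, .lett 6, .lett 4, .lett 2, .lett 0, .lett 3, .lett 6, .lett 4, .lett 0, .stab 11 false, .stab 11 false, .stab 10 false, .stab 15 false, .stab 11 false, .stab 10 false, .stab 10 false, .stab 15 false, .edge 43 [0,3,5,0,6,5,3], .lett 6, .stab 45 false, .stab 46 false, .stab 45 false, .stab 50 false, .stab 50 false, .stab 46 false] [.lett 0, .lett 3, .lett 3, .lett 0, .lett 3, .stab 15 false, .stab 15 false, .stab 10 false, .stab 10 false, .stab 15 false, .stab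 11 false, .stab 10 false, .stab 11 false, .stab 10 false, .stab 15 false, .edge 16 [6,7,5,2,2,2,6], .lett 6, .stab 18 false, .stab 20 false, .stab 20 false, .stab 20 false, .stab 18 false, .stab 17 false, .stab 20 false, .edge 56 [5,6,5,7,2,0,2,5], .lett 0, .lett 2, .lett 1, .lett 2, .lett 2, .lett 1, .lett 2, .lett 2, .lett 5, .lett 0, .lett 4, .lett 2, .lett 4, .lett 3, .lett 6, .lett 4, .lett 3, .lett 3, .lett 6, .lett 4, .lett 2, .lett 4] [6,3,5,6,7,5]⟩,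
   ⟨1, 3, 2, 1, [4,1,4,4,4,0,3,4,4,4,4,2,2,4,4,4,4,3,0,0,0,0,0,2,0,3,0,4,1,4,4,0,3,4,2,0,0,2,2,0,3,3,0,6,4,2,5,2,1,4,1], [4,4,4,4,1,4,4,4,4,0,3,4,4,2,2,4,0,3,0,4,4,4,1,4,4,0,2,4,4,4,3,0,6,4,1,5,3,0,5,1], [2,4,4,4,4,3,0,0,0,0,2,6], .loop 4 [4,1,4,4,0,3,4,4,4,2,2,4,3,5,1,5,0,4,1,4,0,0,4,1,4,4,4,4,0,2,4,4,4,3,0,2,0,3,0,3,6,4,1,4,6,5,3] 11 25 23 false [.lett 2, .lett 1, .lett 2, .lett 2, .lett 1, .lett 2, .lett 2, .lett 5, .lett 0, .lett 4, .lett 2, .lett 4, .lett 3, .lett 6, .lett 4, .lett 3, .lett 3, .lett 6, .lett 4, .lett 2, .lett 4, .stab 45 false, .stab 46 false, .stab 50 false, .stab 50 false, .stab 50 false, .stab 45 false, .stab 44 false, .edge 69 [5,6,7,2,6,2], .lett 7, .stab 37 false, .stab 36 false, .stab 35 false, .stab 37 false, .stab 36 false, .stab 35 false] [.lett 1, .stab 44 false, .stab 46 false, .stab 45 false,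 .stab 50 false, .stab 50 false, .stab 50 false, .stab 45 false, .edge 63 [7,1,4,7,5,3], .lett 7, .stab 17 false, .stab 18 false, .stab 20 false, .stab 20 false, .stab 17 false, .stab 17 false, .stab 17 false, .edge 51 [0,5,6,0,5,4,5,7,5], .lett 2, .lett 1, .lett 2, .lett 2, .lett 1, .lett 2, .lett 4, .lett 2, .lett 0, .lett 3, .lett 6, .lett 4, .lett 2, .lett 0, .lett 3, .lett 6, .lett 4, .lett 0] [0,5,5,7,0,3]⟩,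
   ⟨1, 3, 3, 0, [4,3,4,4,4,2,2,4,4,4,3,0,0,2,0,3,0,4,1,4,4,4,4,0,3,4,2,0,2,2,0,3,0,6,4,3,4,2,4,6], [4,1,4,4,0,3,4,2,5,1,5,0,4,1,4,0,5,1,5,0,4,1,4,0,5,1,5,0,4,1,4,0,0,0,0,2,0,2,0,3,3,0,2,0,2,0,3,3,6,4,3,1,2,4,2], [2,4,4,4,4,6,4,6], .loop 1 [4,1,4,0,2,4,3,5,1,5,0,4,1,4,0,5,1,5,0,4,1,4,0,0,0,2,0,3,1,4,0,5,1,5,0,4,1,4,0,0,0,0,0,2,2,0,3,0,3,6,4,6,5,2] 11 38 29 false [.lett 6, .lett 4, .lett 3, .lett 3, .lett 6, .lett 4, .lett 2, .lett 4, .stab 15 false, .stab 11 false, .stab 15 false, .stab 11 false, .stab 15 false, .stab 15 false, .stab 11 false, .stab 15 false, .edge 19 [5,3,7,4,6], .lett 7, .stab 20 false, .stab 17 false, .stab 20 false, .stab 18 false, .stab 18 false, .stab 17 false, .edge 55 [0,1,2,1,5,7,6,5], .lett 1, .lett 5, .lett 7, .lett 2, .lett 1, .lett 3, .lett 5, .lett 7, .lett 2, .lett 1, .lett 3, .lett 5, .lett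 3, .lett 0, .lett 3, .lett 3, .lett 0, .lett 3, .stab 37 false, .stab 35 false, .stab 37 false, .stab 37 false, .stab 36 false, .stab 35 false, .stab 34 false] [.lett 2, .lett 5, .lett 3, .lett 5, .lett 1, .lett 4, .lett 3, .lett 3, .lett 0, .lett 3, .lett 3, .lett 0, .lett 3, .lett 1, .stab 15 false, .stab 11 false, .stab 15 false, .stab 11 false, .stab 10 false, .stab 15 false, .stab 15 false, .stab 11 false, .edge 38 [1,5,6,3,5,4,7,6,5], .lett 7] [0,6,5,3,7,4,5,6]⟩,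
   ⟨1, 3, 2, 0, [4,4,4,1,4,4,4,0,3,4,4,4,2,2,4,4,4,4,3,5,1,5,0,4,1,4,0,5,1,5,0,4,1,4,0,5,1,5,0,4,1,4,0,0,2,0,3,0,4,4,4,1,4,4,0,3,4,2,2,2,0,3,3,0,6,5,3,4,0,4,1,3], [4,1,4,4,4,0,3,4,4,4,4,2,2,4,4,4,4,3,0,0,0,0,0,2,0,3,0,4,3,4,2,2,4,4,4,3,5,1,5,0,4,1,4,0,6,4,0,2,2,5,6,5], [3,4,4,4,4,2,0,0,0,0,3,6], .loop 2 [4,1,4,4,0,3,4,4,4,2,2,4,4,4,3,0,0,2,2,0,3,3,0,2,6,5] 13 16 27 false [.lett 6, .lett 5, .lett 2, .lett 2, .lett 1, .lett 4, .lett 2, .stab 20 false, .stab 20 false, .stab 20 false, .stab 18 false, .stab 20 false, .stab 17 false, .edge 51 [0,5,5,5,5,7], .lett 7, .lett 3, .stab 17 false, .stab 17 false, .stab 20 false, .stab 20 false, .edge 55 [5,0,5,5,6,1,7,5], .lett 5, .lett 1, .lett 4, .lett 2, .lett 5, .lett 7, .lett 4, .lett 1, .lett 4, .lett 0, .lett 4, .lett 3, .lett 1, .lett 3, .lett 1, .lett 2, .stab 36 false, .stab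 37 false, .stab 35 false, .stab 37 false, .stab 37 false, .stab 37 false, .stab 35 false] [.lett 4, .lett 0, .lett 5, .lett 1, .lett 4, .lett 3, .lett 3, .lett 0, .lett 2, .lett 0, .lett 3, .lett 3, .stab 17 false, .stab 20 false, .stab 17 false, .stab 18 false, .edge 30 [0,7,6,3,5,0,4,7], .lett 7, .lett 3] [0,5,7,1,1,6,5,7]⟩,
   ⟨1, 3, 2, 0, [4,1,4,4,4,0,3,4,4,4,4,2,2,4,4,4,4,3,0,0,0,0,0,2,0,3,0,4,4,4,1,4,0,3,4,4,4,2,2,4,0,2,0,3,3,0,2,0,3,6,4,0,4,1,7,5], [1,4,4,4,4,0,3,4,4,4,4,2,2,4,4,4,3,5,1,5,0,4,1,4,0,0,0,0,0,2,0,3,4,1,4,4,0,3,4,4,4,2,2,4,4,0,2,0,3,6,4,1,6,5,5,3,6], [3,6,4,6], .loop 3 [4,4,4,3,4,4,2,2,4,4,3,5,1,5,0,4,1,4,0,0,0,0,0,0,0,2,0,3,4,1,4,4,4,4,0,2,4,2,0,3,6,4,3,4,3,1,5] 10 8 0 false [.stab 37 false, .stab 36 false, .stab 35 false, .stab 37 false, .stab 35 false, .stab 36 false] [.lett 6, .lett 4, .lett 3, .lett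 0, .lett 4, .lett 0, .lett 6, .lett 4, .stab 36 false, .stab 35 false, .stab 36 false, .stab 37 false, .stab 35 false, .stab 37 false, .stab 35 false, .edge 57 [0,7,3,0,5,3,7,6], .lett 2, .lett 2, .lett 0, .lett 2, .lett 4, .lett 2, .lett 2, .lett 5, .lett 1, .lett 4, .lett 0, .lett 6, .lett 4, .lett 1, .lett 2, .lett 4, .lett 1, .lett 6, .lett 4, .lett 0, .stab 36 false, .stab 35 false, .stab 37 false, .stab 36 false, .stab 37 false, .stab 37 false, .stab 36 false, .edge 72 [0,1,6,1,7,5,4,7], .lett 2, .lett 1, .lett 3, .lett 1, .lett 2, .lett 1, .lett 4, .lett 0, .lett 2, .lett 4, .lett 3, .lett 6, .lett 4, .lett 3, .lett 0, .lett 4, .lett 2, .lett 7, .lett 0] [5,3,2,6,7,3,7]⟩,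
   ⟨1, 2, 3, 0, [4,4,4,1,4,0,3,4,4,4,4,2,5,1,5,0,4,1,4,0,5,1,5,0,4,1,4,0,2,0,2,0,3,3,0,2,2,0,3,3,4,1,4,0,3,4,4,2,2,4,4,2,0,3,0,3,0,2,2,0,3,6,5,3,5,0,3], [4,1,4,4,0,3,4,4,4,2,2,4,3,5,1,5,0,4,1,4,0,0,4,4,4,3,4,4,2,2,4,3,0,0,0,2,0,3,0,2,2,0,3,0,3,0,6,4,3,1,2,4,0], [4,4,4,1,4,4,4,4,0,3,4,4,4,4,2,2,4,4,3,5,1,5,0,4,1,4,0,5,1,5,0,4,1,4,0,5,1,5,0,4,1,4,0,5,1,5,0,4,1,4,0,0,0,0,0,0,4,2,4,4,4,6], .loop 3 [1,4,0,2,4,4,4,3,5,1,5,0,4,1,4,0,0,0,4,4,0,3,4,2,0,0,0,2,0,3,0,2,2,0,3,0,6,4,1,5,1,2,7] 82 13 27 false [.lett 5, .lett 3, .lett 5, .lett 1, .lett 6, .stab 36 false, .stab 35 false, .stab 36 false, .stab 36 false, .stab 37 false, .stab 36 false, .edge 75 [4,5,7,3,6,2,5], .lett 2, .lett 0, .lett 3, .lett 1, .lett 3, .lett 3, .lett 1, .lett 3, .lett 4, .lett 2, .lett 2, .lett 4, .lett 2, .lett 6, .lett 4, .lett 3, .lett 3, .lett 6, .lett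 4, .lett 2, .lett 4, .stab 20 false, .stab 18 false, .stab 18 false, .stab 18 false] [.lett 1, .lett 5, .lett 7, .lett 0, .lett 3, .lett 1, .lett 4, .lett 1, .lett 3, .lett 3, .lett 1, .lett 2, .lett 1, .stab 37 false, .stab 37 false, .stab 36 false, .stab 37 false, .stab 35 false, .stab 36 false, .stab 35 false, .edge 75 [1,6,3,7,3,6,0], .lett 2, .lett 0, .lett 3, .lett 1, .lett 3, .lett 3, .lett 1, .lett 3, .lett 4, .lett 2, .lett 2, .lett 4, .lett 2, .lett 6, .lett 4, .lett 3, .lett 3, .lett 6, .lett 4, .lett 2, .lett 4, .stab 20 false, .stab 20 false, .stab 20 false, .stab 20 false, .stab 20 false, .edge 56 [3,6,7,3,0], .lett 0, .lett 3, .lett 3, .lett 1, .lett 4, .lett 2, .lett 5, .lett 2, .lett 1, .lett 5, .lett 5, .lett 6, .lett 4, .lett 0, .lett 4, .lett 1, .lett 4, .lett 3, .lett 7] [0,7,2,6,7,1,7]⟩,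
   ⟨1, 3, 4, 1, [4,4,4,4,3,4,2,2,4,4,3,5,1,5,0,4,1,4,0,5,1,5,0,4,1,4,0,5,1,5,0,4,1,4,0,0,2,0,3,4,4,4,1,4,4,0,2,4,4,2,0,3,0,3,0,2,6,4,3,4,0], [4,4,4,1,4,4,4,4,0,3,4,2,2,4,4,4,3,5,1,5,0,4,1,4,0,5,1,5,0,4,1,4,0,2,2,0,3,3,0,2,2,0,3,0,3,3,4,4,4,4,2,2,4,3,0,2,2,0,3,0,3,0,2,2,0,3,3,6,5,1,5,0,2,2,5], [1,4,0,0,0,0,6], .loop 4 [4,4,4,1,4,4,4,4,0,3,4,2,2,4,4,4,3,5,1,5,0,4,1,4,0,5,1,5,0,4,1,4,0,2,2,0,3,3,0,2,2,0,3,0,3,1,4,4,0,2,4,2,0,3,0,3,0,2,2,0,3,6,4,6,4,7] 82 64 79 false [.lett 7, .lett 2, .lett 2, .lett 5, .lett 7, .lett 3, .lett 5, .lett 3, .lett 3, .lett 5, .lett 2, .lett 0, .lett 2, .lett 2, .lett 0, .lett 2, .lett 1, .lett 3, .stab 44 false, .stab 46 false, .stab 50 false, .stab 44 false, .stab 44 false, .edge 63 [0,6,2,2,7,3,5], .lett 0, .lett 3, .lett 0, .lett 2, .lett 2, .lett 0, .lett 5, .lett 0, .lett 2, .lett 1, .lett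 6, .lett 4, .lett 0, .lett 5, .lett 3, .lett 5, .lett 1, .lett 6, .stab 17 false, .stab 18 false, .stab 20 false, .stab 20 false, .stab 18 false, .stab 20 false, .stab 17 false, .edge 29 [0,5,7,5,6,7,2,5], .lett 2, .lett 0, .lett 3, .lett 1, .lett 3, .lett 3, .lett 1, .lett 3, .lett 4, .lett 2, .lett 2, .lett 4, .lett 2, .lett 6, .lett 4, .lett 3, .lett 3, .lett 6, .lett 4, .lett 2, .lett 4, .stab 20 false, .stab 17 false, .stab 20 false, .stab 18 false, .stab 20 false, .stab 18 false, .stab 18 false, .edge 56 [6,0,1,0,5,0,7,5], .lett 6, .lett 2, .lett 5, .lett 0, .lett 5, .lett 1, .lett 5, .lett 7, .lett 4, .lett 4, .lett 0, .lett 3, .lett 4, .lett 3, .lett 5, .lett 0, .lett 2, .lett 2, .lett 1, .stab 36 false, .stab 37 false, .stab 36 false, .stab 36 false, .stab 36 false, .stab 35 false] [.lett 4, .lett 2, .lett 4] [0,6,5,7,5,3,5,2]⟩,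
   ⟨1, 2, 3, 1, [4,4,4,1,4,4,4,4,0,3,4,4,4,4,2,2,4,4,3,5,1,5,0,4,1,4,0,5,1,5,0,4,1,4,0,5,1,5,0,4,1,4,0,5,1,5,0,4,1,4,0,0,0,0,0,0,4,1,4,0,3,4,2,0,0,3,6,4,3,5,5,1], [4,1,4,4,0,3,4,4,4,2,2,4,3,5,1,5,0,4,1,4,0,4,4,0,2,4,3,0,2,0,3,0,2,2,0,3,0,3,0,6,4,3,4,1,2], [4,4,4,4,1,4,0,3,4,4,2,2,4,4,4,3,5,1,5,0,4,1,4,0,5,1,5,0,4,1,4,0,5,1,5,0,4,1,4,0,0,0,0,4,0,3,4,4,2,2,4,4,4,4,6], .loop 3 [4,4,4,4,3,4,4,2,5,1,5,0,4,1,4,0,5,1,5,0,4,1,4,0,2,2,0,3,3,0,2,2,0,3,3,4,4,1,4,0,2,4,4,0,2,0,3,3,0,2,0,3,0,6,4,2,4,0,5,2] 82 13 69 false [.lett 5, .lett 3, .lett 5, .lett 1, .lett 6, .stab 36 false, .stab 37 false, .stab 37 false, .stab 37 false, .stab 36 false, .stab 37 false, .edge 74 [1,6,7,4,5,6,5,3,5], .lett 2, .lett 0, .lett 3, .lett 1, .lett 3, .lett 3, .lett 1, .lett 3, .lett 4, .lett 2, .lett 2, .lett 4, .lett 2, .lett 6, .lett 4, .lett 3, .lett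 3, .lett 6, .lett 4, .lett 2, .lett 4, .stab 18 false, .stab 20 false, .stab 17 false, .stab 17 false, .stab 20 false, .stab 20 false, .edge 24 [0,0,2,2,5,2,3], .lett 6, .lett 2, .lett 5, .lett 0, .lett 5, .lett 1, .lett 5, .lett 7, .lett 4, .lett 4, .lett 0, .lett 3, .lett 4, .lett 3, .lett 5, .lett 0, .lett 2, .lett 2, .lett 1, .stab 20 false, .stab 18 false, .stab 20 false, .stab 17 false, .stab 17 false, .stab 20 false, .edge 30 [5,5,7,6,5,0,6,1], .lett 5, .lett 3, .lett 5, .lett 7, .lett 2, .lett 2, .lett 5, .lett 7, .lett 3, .lett 5, .lett 3, .lett 3, .lett 5, .lett 2, .lett 0, .lett 2, .lett 2, .lett 0, .lett 2, .lett 1, .lett 3, .stab 20 false, .stab 20 false, .stab 17 false, .stab 20 false, .stab 18 false] [.lett 1, .lett 5, .lett 7, .lett 0, .lett 3, .lett 1, .lett 4, .lett 1, .lett 3, .lett 3, .lett 1, .lett 2,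 .lett 1] [7,1,5,6,3,6]⟩,
   ⟨1, 3, 2, 1, [4,4,4,4,1,4,0,3,4,4,2,2,4,4,4,3,5,1,5,0,4,1,4,0,5,1,5,0,4,1,4,0,5,1,5,0,4,1,4,0,0,0,0,0,4,4,1,4,4,4,4,0,3,4,6,5,1,4,1,2,5], [4,4,4,4,1,4,4,4,4,0,3,4,4,2,2,4,0,3,0,5,1,5,0,4,1,4,0,0,0,0,0,0,0,3,0,6,4,2,5,1,2], [1,4,4,0,0,0,0,0,0,3,6], .loop 3 [4,1,4,4,0,3,4,2,5,1,5,0,4,1,4,0,5,1,5,0,4,1,4,0,5,1,5,0,4,1,4,0,0,0,0,2,0,3,1,4,0,2,4,4,3,0,0,0,0,2,2,0,3,6,4,4,3,4,3,7,5] 80 40 1 false [.lett 0, .stab 36 false, .stab 36 false, .stab 37 false, .stab 37 false, .stab 37 false] [.lett 6, .lett 3, .lett 5, .lett 1, .lett 2, .lett 5, .lett 7, .lett 2, .lett 5, .lett 3, .lett 1, .lett 5, .lett 0, .lett 3, .lett 0, .lett 2, .lett 0, .lett 3, .stab 35 false, .stab 36 false, .stab 36 false, .stab 37 false, .stab 36 false, .edge 53 [5,6,7,6,2,0,2], .lett 1, .lett 5, .lett 7, .lett 0, .lett 5, .lett 3,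 .lett 0, .lett 5, .lett 7, .lett 1, .lett 5, .lett 0, .lett 4, .lett 3, .lett 3, .lett 5, .lett 3, .lett 1, .lett 3, .lett 3, .stab 18 false, .stab 20 false, .stab 17 false, .stab 20 false, .stab 18 false, .edge 26 [0,0,4,5,6,7,2,6], .lett 5, .lett 7, .lett 1, .lett 5, .lett 1, .lett 2, .lett 5, .lett 7] [5,0,7,3,0,6,5]⟩]

/-- facts -/
def cf5 : List Fact :=
  [⟨1, 4, 4, 1, [4,4,4,4,3,4,2,2,4,4,3,5,1,5,0,4,1,4,0,5,1,5,0,4,1,4,0,5,1,5,0,4,1,4,0,0,2,0,3,4,1,4,0,3,4,2,2,0,2,0,3,0,3,0,2,2,6,4,3,4,6], [4,4,4,1,4,4,0,3,4,4,4,4,2,2,4,3,5,1,5,0,4,1,4,0,5,1,5,0,4,1,4,0,0,0,4,3,4,4,2,2,0,2,0,3,3,6,4,3,4,4,0,7,5], [4,4,4,1,4,4,4,4,0,3,4,4,4,4,2,2,4,4,3,5,1,5,0,4,1,4,0,5,1,5,0,4,1,4,0,5,1,5,0,4,1,4,0,5,1,5,0,4,1,4,0,0,0,0,0,0,4,2,4,4,4,3,3,6], .loop 4 [4,4,4,1,4,4,0,3,4,4,4,4,2,2,4,3,5,1,5,0,4,1,4,0,5,1,5,0,4,1,4,0,0,4,4,0,2,4,4,4,4,2,0,3,0,3,0,2,2,0,3,3,3,6,4,0,3,5,2,5]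 79 14 14 false [.stab 45 false, .stab 46 false, .stab 50 false, .stab 45 false, .stab 44 false, .stab 50 false, .stab 44 false, .edge 64 [2,1,6,3,7,0], .lett 3, .lett 3, .lett 1, .lett 2, .lett 2, .lett 1, .lett 1, .stab 17 false, .stab 18 false, .stab 20 false, .stab 17 false, .stab 17 false, .stab 20 false, .edge 65 [1,0,0,6,7,5,6,5], .lett 3, .lett 3, .lett 1, .lett 2, .lett 2, .stab 45 false, .stab 46 false, .stab 50 false, .stab 45 false, .stab 44 false, .stab 50 false, .stab 46 false] [.lett 3, .lett 3, .lett 0, .lett 2, .lett 2] [1,0,5,6,1]⟩,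
   ⟨1, 4, 5, 0, [], [], [3,4,4,4,4,2,0,0,0,0,3,6], .defEdge⟩,
   ⟨1, 3, 4, 0, [1,4,4,0,2,4,4,3,5,1,5,0,4,1,4,0,0,0,0,0,2,0,3,0,4,1,4,0,2,4,4,4,4,0,2,0,3,0,3,6,4,3,4,0,3,4,3], [1,4,4,0,2,4,4,3,5,1,5,0,4,1,4,0,0,0,0,0,2,0,3,0,4,3,4,4,2,2,4,4,2,0,3,3,0,2,0,3,0,3,6,4,2,5,5,1,6], [4,1,4,4,0,3,4,4,4,2,2,4,3,5,1,5,0,4,1,4,0,0,4,3,4,4,2,0,0,6], .loop 4 [1,4,0,3,4,2,2,4,3,0,0,0,0,0,2,0,3,4,4,4,1,4,4,4,0,2,4,4,4,4,3,0,0,2,0,2,0,3,0,3,6,4,2,1,4,6,4,7] 10 2 26 false [.lett 1, .lett 5, .lett 1, .lett 2, .lett 5, .lett 7, .stab 46 false, .stab 45 false, .stab 44 false, .stab 44 false, .edge 71 [6,5,7,1,6,1,5,5,5], .lett 1, .lett 6, .lett 3, .lett 5, .lett 1, .lett 2, .lett 5, .lett 7, .lett 2, .lett 5, .lett 3, .lett 1, .lett 5, .lett 0, .lett 3, .lett 0, .lett 2, .lett 0, .lett 3, .stab 36 false, .stab 37 false, .stab 36 false, .stab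 37 false, .stab 37 false, .stab 36 false] [.lett 6, .lett 4, .stab 45 false, .stab 46 false, .stab 50 false, .stab 44 false, .stab 46 false, .stab 44 false, .stab 50 false, .edge 80 [5,5,0,6,5,7,2,6], .lett 2, .lett 2, .lett 0, .lett 2, .lett 4, .lett 2, .lett 2, .lett 5, .lett 1, .lett 4, .lett 0, .lett 6, .lett 4, .lett 1, .lett 2, .lett 4, .lett 1, .lett 6, .lett 4, .lett 0] [0,1,2,2,5,3,7]⟩,
   ⟨2, 5, 2, 0, [4,4,4,4,3,4,2,2,4,4,3,5,1,5,0,4,1,4,0,5,1,5,0,4,1,4,0,5,1,5,0,4,1,4,0,0,2,0,3,4,1,4,4,0,0,0,2,0,2,0,3,6,5,3,4,2,2,4], [1,4,4,4,4,0,3,4,4,4,4,2,2,4,4,4,3,5,1,5,0,4,1,4,0,0,0,0,0,2,0,3,3,4,4,2,2,4,4,2,0,3,3,0,2,2,0,3,0,3,3,6,4,0,7,5,1,3], [], .loop 2 [4,4,4,4,1,4,4,4,0,2,4,4,4,4,3,5,1,5,0,4,1,4,0,5,1,5,0,4,1,4,0,5,1,5,0,4,1,4,0,0,0,0,2,0,3,0,4,1,4,0,3,4,2,2,4,4,4,3,0,0,3,6,4,1,7,5,0] 71 5 13 false [.lett 2, .lett 4,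 .lett 2, .stab 18 false, .stab 20 false, .stab 18 false, .stab 17 false, .stab 17 false, .edge 59 [0,6,5,7,6,2,7,2,7,5], .lett 1, .lett 5, .lett 0, .stab 44 false, .stab 50 false, .stab 46 false, .stab 44 false, .edge 81 [2,0,5,7,6,5,0,7], .lett 3, .lett 3, .lett 0, .lett 4, .lett 1] [] []⟩,
   ⟨1, 4, 3, 1, [4,1,4,4,0,3,4,2,5,1,5,0,4,1,4,0,5,1,5,0,4,1,4,0,5,1,5,0,4,1,4,0,0,0,0,2,0,3,4,0,0,0,0,2,0,2,0,3,3,6,4,7,5,2,1,2,4], [1,4,0,2,4,4,4,3,5,1,5,0,4,1,4,0,0,0,4,4,0,3,4,4,2,2,4,2,0,3,0,3,0,3,6,4,2,0,2,6,4], [0,0,0,0,6], .loop 4 [4,1,4,4,4,0,3,4,4,4,4,2,2,4,4,4,4,3,0,0,0,0,0,2,0,3,0,4,4,4,3,4,4,4,4,2,2,4,4,4,4,0,2,0,3,0,3,0,6,4,2,1,5,3,5] 11 39 7 false [.lett 4, .lett 3, .lett 3, .lett 6, .lett 4, .lett 2, .lett 4, .stab 50 false, .stab 45 false, .stab 46 false, .stab 50 false, .stab 50 false] [.lett 7, .lett 2, .lett 5, .lett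 3, .lett 5, .lett 1, .lett 4, .lett 3, .lett 3, .lett 0, .lett 3, .lett 3, .lett 0, .lett 3, .lett 1, .stab 44 false, .stab 50 false, .stab 50 false, .stab 44 false, .stab 50 false, .stab 44 false, .stab 44 false, .edge 63 [0,1,6,3,5,2,7,6], .lett 7, .edge 21 [2,7,5,0,1,0], .lett 2, .lett 1, .lett 2, .lett 2, .lett 1, .lett 2, .lett 4, .lett 2, .lett 0, .lett 3, .lett 6, .lett 4, .lett 2, .lett 0, .lett 3, .lett 6, .lett 4, .lett 0, .stab 20 false, .stab 18 false, .stab 20 false, .stab 20 false, .stab 18 false, .stab 20 false, .edge 54 [0,7,1,5,0,7,4], .lett 6] [3,0,5,3,3,6]⟩,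
   ⟨1, 4, 3, 1, [4,4,4,4,1,4,4,4,0,2,4,4,4,4,3,5,1,5,0,4,1,4,0,5,1,5,0,4,1,4,0,5,1,5,0,4,1,4,0,0,0,0,2,0,3,0,4,1,4,4,4,0,2,0,2,0,3,3,6,4,1,2,1,4,0,2], [4,1,4,4,4,0,3,4,4,4,4,2,2,4,4,4,4,3,0,0,0,0,0,2,0,3,4,4,0,2,4,4,2,0,3,3,0,2,2,0,3,3,3,6,5,1,3,3,5,1], [4,1,4,0,2,4,3,5,1,5,0,4,1,4,0,5,1,5,0,4,1,4,0,0,0,2,0,3,4,1,4,4,0,3,4,4,4,4,2,2,4,4,0,3,3,0,6], .loop 3 [1,4,4,0,2,4,4,3,5,1,5,0,4,1,4,0,0,0,0,0,2,0,3,0,3,4,4,2,0,0,0,0,2,2,0,3,3,6,5,0,5,0,3,3,4] 79 6 8 false [.lett 2, .lett 2, .stab 35 false, .stab 37 false, .stab 35 false, .stab 36 false, .stab 37 false, .stab 36 false, .edge 77 [0,1,7,5,3,2,1], .lett 3, .lett 3, .lett 1, .lett 2, .lett 2, .stab 45 false, .stab 46 false, .stab 44 false, .stab 50 false, .stab 50 false, .stab 46 false, .stab 44 false] [.lett 0, .lett 2, .lett 2, .stab 37 false, .stab 37 false, .stab 36 false,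 .stab 35 false, .stab 36 false, .stab 36 false, .stab 35 false, .stab 34 false, .edge 70 [2,0,1,7,3], .lett 0, .lett 0, .lett 3, .lett 3, .lett 0, .lett 2, .lett 2] [0,5,5,5,4,6,5,2,6,5]⟩,
   ⟨1, 4, 6, 0, [], [], [4,1,4,4,0,3,4,4,4,2,2,4,3,5,1,5,0,4,1,4,0,0,4,1,4,0,3,4,4,2,0,0,6], .defEdge⟩,
   ⟨2, 6, 2, 0, [4,4,4,4,1,4,0,3,4,4,2,2,4,4,4,3,5,1,5,0,4,1,4,0,5,1,5,0,4,1,4,0,5,1,5,0,4,1,4,0,0,0,0,0,3,4,2,2,0,2,0,3,3,0,2,2,0,3,3,6,5,1,2,5,0,3,1], [4,4,4,3,4,4,2,2,4,4,3,5,1,5,0,4,1,4,0,0,0,0,0,0,0,2,0,3,1,4,4,4,0,0,0,2,2,0,3,3,0,2,0,3,0,3,6,5,2,0,5,5], [], .loop 4 [4,4,4,1,4,4,0,3,4,4,4,4,2,2,4,3,5,1,5,0,4,1,4,0,5,1,5,0,4,1,4,0,0,0,4,4,4,4,3,4,4,4,4,2,2,4,4,2,0,3,3,0,3,6,5,1,5,2,2] 100 23 21 false [.lett 4, .stab 46 false, .stab 44 false, .stab 50 false, .stab 44 false, .stab 50 false, .stab 45 false, .stab 44 false, .stab 44 false,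 .edge 81 [7,2,0,6,3,5,7], .coin 83, .lett 7, .lett 4, .lett 7, .stab 18 false, .stab 17 false, .stab 20 false, .stab 20 false, .stab 20 false, .stab 20 false, .edge 65 [0,0,2,5,7,1,5], .stab 46 false, .stab 50 false, .stab 50 false, .stab 46 false, .stab 45 false, .stab 46 false, .stab 45 false, .edge 86 [0,2,0,2,7,3,0], .lett 6, .lett 5, .lett 6, .lett 2, .lett 2, .lett 1, .lett 3, .lett 4, .lett 2, .lett 0, .lett 4, .lett 3, .lett 3, .lett 5] [.lett 1, .lett 5, .lett 0, .lett 4, .lett 1, .lett 4, .lett 0, .stab 46 false, .stab 44 false, .stab 50 false, .stab 44 false, .stab 50 false, .stab 45 false, .stab 44 false, .stab 44 false, .edge 81 [7,2,6,2,4,5,7], .coin 83] []⟩,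
   ⟨1, 4, 3, 0, [4,4,4,1,4,4,4,0,3,4,4,4,2,2,4,4,4,4,3,5,1,5,0,4,1,4,0,5,1,5,0,4,1,4,0,5,1,5,0,4,1,4,0,0,2,0,3,0,4,4,4,1,4,0,0,2,0,2,0,3,3,0,2,2,6,4,1,5,1,5], [4,1,4,4,0,3,4,2,5,1,5,0,4,1,4,0,5,1,5,0,4,1,4,0,5,1,5,0,4,1,4,0,0,0,0,2,0,3,4,4,1,4,4,0,2,4,3,0,0,0,2,2,0,3,3,3,6,4,3,4,2,2,7], [4,1,4,4,0,3,4,4,4,2,2,4,3,5,1,5,0,4,1,4,0,0,4,1,4,4,4,4,0,3,4,4,2,0,0,6], .loop 4 [4,1,4,4,4,4,0,3,4,4,4,2,2,4,4,3,5,1,5,0,4,1,4,0,5,1,5,0,4,1,4,0,5,1,5,0,4,1,4,0,0,0,0,0,0,0,4,4,4,4,3,4,2,2,0,2,0,3,3,0,2,6,4,0,4,0,2,0] 10 20 8 false [.lett 1, .lett 5, .lett 0, .lett 3, .lett 0, .lett 2, .lett 0, .lett 3, .stab 46 false, .stab 45 false, .stab 50 false, .stab 50 false, .stab 50 false, .stab 50 false, .stab 50 false] [.lett 2, .lett 4, .lett 3, .lett 6, .lett 4, .lett 3, .lett 0, .lett 4, .lett 2, .lett 7, .lett 0, .stab 46 false, .stab 45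 false, .stab 46 false, .stab 50 false, .stab 50 false, .stab 50 false, .edge 85 [4,6,7,6,5,3,6,3], .lett 6, .lett 4, .lett 3, .lett 0, .lett 4, .lett 0, .lett 6, .lett 4, .stab 37 false, .stab 37 false, .stab 36 false, .stab 36 false, .stab 37 false, .stab 37 false, .stab 36 false, .edge 57 [1,6,2,7,5,6,2,6], .lett 2, .lett 2, .lett 0, .lett 2, .lett 4, .lett 2, .lett 2, .lett 5, .lett 1, .lett 4, .lett 0, .lett 6, .lett 4, .lett 1, .lett 2, .lett 4, .lett 1, .lett 6, .lett 4, .lett 0] [1,0,7,6,2,0]⟩,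
   ⟨1, 1, 7, 1, [], [], [0,0,0,0,6], .defEdge⟩,
   ⟨2, 7, 4, 0, [1,4,4,4,4,0,3,4,4,4,4,2,2,4,4,4,3,5,1,5,0,4,1,4,0,0,0,0,0,2,0,3,4,3,4,4,4,2,0,0,0,2,0,3,0,2,2,0,3,6,4,2,0,4,0,4,2], [4,4,1,4,0,2,4,4,4,3,0,0,0,0,0,0,2,6,4,0,5,0,3,1,2], [], .loop 1 [4,4,4,4,1,4,4,4,4,0,3,4,4,2,2,4,0,3,0,4,3,4,4,4,2,2,4,4,3,0,2,0,3,6,4,2,2,4,2,4,0] 79 5 9 false [.lett 1, .lett 2, .lett 2, .stab 15 false, .stab 10 false, .stab 15 false, .stab 11 false, .stab 15 false, .stab 10 false, .stab 15 false, .stab 11 false, .stab 15 false, .edge 89 [0,1,6,1,5,2], .lett 3, .lett 3, .lett 1, .lett 2, .lett 2] [.lett 2, .lett 2, .stab 15 false, .stab 10 false, .stab 15 false, .stab 11 false, .stab 15 false, .stab 10 false, .stab 15 false, .stab 11 false, .stab 15 false, .edge 16 [1,5,2,5,5,6,7,2,6,5], .lett 0, .lett 0, .lett 3, .lett 3, .lett 0, .lett 2,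 .lett 2, .edge 62 [0,6,5,3,2,1]] []⟩,
   ⟨1, 3, 8, 0, [], [], [1,4,0,3,4,2,2,4,3,0,0,0,0,0,2,0,3,4,4,1,5,0,4,1,4,0,0,0,0,2,0,3,0,2,6], .defEdge⟩,
   ⟨2, 8, 3, 0, [4,1,4,0,2,4,3,5,1,5,0,4,1,4,0,5,1,5,0,4,1,4,0,0,0,2,0,3,1,4,4,0,2,4,4,4,4,0,2,0,3,0,3,0,2,2,6,5,1,4,3,5], [4,3,4,4,4,2,2,4,4,4,3,0,0,2,0,3,0,3,4,4,2,2,4,4,3,0,0,0,0,0,2,0,3,0,6,4,2,1,4,3,0,3], [], .loop 3 [4,3,4,4,4,2,2,4,4,4,3,0,0,2,0,3,0,3,4,4,2,2,4,4,3,0,0,0,0,0,3,6,5,1,3,3,4,0,5] 3 11 12 false [.lett 2, .stab 37 false, .stab 36 false, .stab 35 false, .stab 37 false, .stab 36 false, .stab 36 false, .stab 36 false, .stab 37 false, .edge 57 [5,3,6,7,5,6,2,1], .lett 2, .lett 4, .lett 3, .stab 36 false, .stab 37 false, .stab 37 false, .stab 37 false, .stab 36 false, .stab 37 false, .stab 36 false, .stab 34 false, .edge 91 [5,4,6,5,7,3,6,7], .lett 3, .lett 1, .lett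 2, .lett 5, .lett 3, .lett 0] [] []⟩,
   ⟨1, 4, 4, 0, [4,4,4,3,4,4,2,2,4,4,3,5,1,5,0,4,1,4,0,0,0,0,0,0,0,2,0,3,4,4,2,4,4,4,4,0,3,0,2,2,0,3,0,3,3,6,5,3,3,1,5,2,0], [4,4,4,1,4,4,0,3,4,4,4,4,2,2,4,3,5,1,5,0,4,1,4,0,5,1,5,0,4,1,4,0,0,0,4,4,4,4,3,4,4,4,4,2,2,4,3,0,0,2,2,0,3,0,3,3,6,4,0,4,2,7], [1,4,0,2,4,4,4,3,5,1,5,0,4,1,4,0,0,0,0,3,4,4,2,2,4,4,3,0,2,0,3,6], .loop 4 [4,3,4,2,2,4,4,4,4,3,0,2,2,0,3,3,0,2,6,5,3,5,0,3,3] 82 0 18 false [.lett 0, .lett 3, .lett 0, .lett 2, .lett 2, .lett 0, .lett 5, .lett 0, .lett 2, .lett 1, .lett 6, .lett 4, .lett 0, .lett 5, .lett 3, .lett 5, .lett 1, .lett 6, .stab 46 false, .stab 45 false, .stab 46 false, .stab 45 false] [.stab 50 false, .stab 46 false, .stab 50 false, .stab 50 false, .stab 44 false, .edge 86 [0,1,3,5,6,1,1], .coin 87, .lett 2, .lett 0, .lett 3, .lett 1, .lett 3, .lett 3, .lett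 1, .lett 3, .lett 4, .lett 2, .lett 2, .lett 4, .lett 2, .lett 6, .lett 4, .lett 3, .lett 3, .lett 6, .lett 4, .lett 2, .lett 4, .stab 18 false, .stab 17 false, .stab 20 false, .stab 20 false, .stab 20 false, .stab 20 false, .stab 18 false, .edge 23 [2,6,3,7,0,5,6,5], .lett 0, .lett 3, .lett 3, .lett 1, .lett 4, .lett 2, .lett 5, .lett 2, .lett 1, .lett 5, .lett 5, .lett 6, .lett 4, .lett 0, .lett 4, .lett 1, .lett 4, .lett 3, .lett 7, .stab 20 false, .stab 20 false, .stab 20 false, .stab 18 false, .stab 18 false, .stab 17 false, .stab 17 false, .edge 59 [1,7,6,5,7,3,5,3], .lett 5, .lett 3, .lett 5, .lett 7, .lett 2, .lett 2, .lett 5, .lett 7, .lett 3, .lett 5, .lett 3, .lett 3, .lett 5, .lett 2, .lett 0, .lett 2, .lett 2, .lett 0, .lett 2, .lett 1, .lett 3] [1,1,3,6,0,4]⟩,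
   ⟨1, 3, 3, 0, [1,4,0,2,4,4,4,3,5,1,5,0,4,1,4,0,0,0,4,4,4,0,2,4,4,4,0,2,0,3,3,0,2,0,3,0,3,6,4,0,3,0,7,5], [1,4,4,4,0,3,4,4,2,2,4,4,4,4,3,5,1,5,0,4,1,4,0,5,1,5,0,4,1,4,0,0,2,0,2,0,3,3,0,2,2,0,3,3,4,1,4,0,2,0,2,0,3,3,0,2,0,6,4,2,4,0,5,2,0], [1,4,4,0,0,0,0,0,0,6], .loop 1 [4,1,4,4,0,3,4,4,4,2,2,4,3,5,1,5,0,4,1,4,0,0,4,1,4,0,3,4,4,2,0,0,0,0,2,0,2,0,3,3,3,6,4,2,6,4,0,4] 136 34 37 false [.lett 1, .lett 4, .lett 3, .lett 3, .lett 0, .lett 2, .lett 0, .lett 3, .lett 3, .stab 10 false, .stab 10 false, .stab 15 false, .stab 11 false, .stab 15 false, .stab 10 false, .stab 15 false, .stab 10 false, .stab 10 false, .edge 38 [7,0,0,1,5,0], .lett 7, .lett 3, .stab 37 false, .stab 35 false, .stab 36 false, .stab 36 false, .stab 36 false, .stab 37 false, .stab 37 false, .stab 34 false, .edge 57 [0,3,3,7,1,2,5,7], .lett 5, .lett 5, .lett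 0, .stab 36 false, .stab 37 false, .stab 37 false, .stab 37 false, .stab 36 false, .stab 37 false, .stab 36 false, .stab 34 false, .edge 57 [1,5,6,3,2,5,5,6], .stab 36 false, .stab 37 false, .stab 37 false, .stab 37 false, .stab 36 false, .stab 37 false, .stab 36 false, .stab 34 false, .edge 91 [2,7,0,7,2,0], .coin 92, .lett 1, .lett 4, .lett 4, .lett 3, .lett 0, .lett 2, .lett 0, .lett 2, .lett 5, .lett 1, .lett 5, .lett 0, .lett 5, .lett 6, .lett 4, .lett 3, .lett 5, .lett 0, .lett 4, .stab 37 false, .stab 36 false, .stab 37 false, .stab 35 false, .stab 37 false, .stab 36 false, .stab 35 false] [.lett 4, .lett 1, .lett 5, .lett 6, .lett 5, .lett 2, .lett 2, .lett 1, .lett 4, .lett 2, .stab 15 false, .stab 10 false, .stab 15 false, .stab 11 false, .stab 15 false, .stab 11 false, .edge 38 [0,7,6,2,5,2,7,5], .lett 7, .lett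 3] [0,7,6,2,7,4,6]⟩,
   ⟨1, 4, 4, 1, [4,4,4,3,4,4,2,2,4,4,3,5,1,5,0,4,1,4,0,0,0,0,0,0,0,2,0,3,4,4,4,4,3,4,4,2,2,2,0,3,0,3,0,2,2,0,3,3,6,4,2,2,6,5,3,5], [4,4,4,4,3,4,2,2,4,4,3,5,1,5,0,4,1,4,0,5,1,5,0,4,1,4,0,5,1,5,0,4,1,4,0,0,2,0,3,3,4,4,4,2,0,0,0,0,6,4,1,2,4,1,6,4,3], [0,0,0,0,3,6], .loop 2 [4,1,4,4,4,0,3,4,4,4,4,2,2,4,4,4,4,3,0,0,0,0,0,2,0,3,0,4,4,1,4,0,3,4,4,2,5,1,5,0,4,1,4,0,2,6,5,3,4,1,4,3] 81 20 4 false [.lett 3, .lett 1, .stab 17 false, .stab 17 false, .stab 17 false, .stab 20 false, .stab 17 false, .edge 59 [2,5,6,7,5,6,0,5,0], .lett 7, .stab 44 false, .stab 45 false, .stab 50 false, .stab 50 false] [.lett 1, .lett 2, .lett 2, .lett 1, .lett 2, .lett 2, .lett 5, .lett 0, .lett 4, .lett 2, .lett 4, .lett 3, .lett 6, .lett 4, .lett 3, .lett 3, .lett 6, .lett 4, .lett 2, .lett 4, .stab 17 false, .stab 18 false, .stab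 20 false, .stab 18 false, .edge 30 [5,6,7,4,5,6,0], .lett 7, .stab 18 false, .stab 20 false, .stab 17 false, .stab 20 false, .stab 18 false, .stab 20 false, .stab 20 false, .edge 59 [4,5,6,1,1,7], .lett 1, .lett 5, .lett 7, .lett 2, .lett 1, .lett 3, .lett 5, .lett 7, .lett 2, .lett 1, .lett 3, .lett 5, .lett 3, .lett 0, .lett 3, .lett 3, .lett 0, .lett 3] [5,6,2,6,5,0,6]⟩]

/-- facts -/
def cf6 : List Fact :=
  [⟨1, 3, 4, 1, [4,4,4,3,4,4,2,2,4,4,3,5,1,5,0,4,1,4,0,0,0,0,0,0,0,2,0,3,4,4,4,1,4,4,4,0,3,4,2,2,4,0,2,0,3,0,3,6,4,1,4,3,4,2,1], [1,4,4,4,0,3,4,4,2,2,4,4,4,4,3,5,1,5,0,4,1,4,0,5,1,5,0,4,1,4,0,0,2,0,2,0,3,3,0,2,2,0,3,3,1,4,4,0,3,4,2,2,0,3,0,2,2,0,3,0,3,0,6,4,1,5,0,2,1,7], [1,4,4,4,4,0,3,4,4,4,4,2,2,4,4,4,3,5,1,5,0,4,1,4,0,0,0,0,0,2,0,3,4,1,4,0,3,4,2,6,4,6], .loop 2 [4,4,4,4,3,4,2,2,4,4,3,5,1,5,0,4,1,4,0,5,1,5,0,4,1,4,0,5,1,5,0,4,1,4,0,0,2,0,3,4,2,4,4,4,2,0,3,0,3,0,3,6,4,2,7,4,0,2]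 65 0 79 false [.stab 18 false, .stab 20 false, .stab 17 false, .stab 17 false, .stab 17 false, .stab 20 false, .stab 17 false, .edge 40 [3,7,5,0,3,5,5], .lett 5, .lett 1, .lett 0, .lett 6, .lett 4, .lett 2, .lett 6, .lett 0, .lett 3, .stab 36 false, .stab 36 false, .stab 35 false, .stab 37 false, .stab 37 false, .stab 35 false, .stab 34 false, .edge 82 [0,5,6,0,7,5,6,2,5,7], .lett 0, .lett 0, .lett 4, .lett 0, .stab 46 false, .stab 44 false, .stab 44 false, .stab 50 false, .stab 50 false, .stab 50 false, .stab 50 false, .stab 44 false, .edge 88 [6,3,5,2,3,7], .lett 2, .lett 0, .lett 3, .lett 1, .lett 3, .lett 3, .lett 1, .lett 3, .lett 4, .lett 2, .lett 2, .lett 4, .lett 2, .lett 6, .lett 4, .lett 3, .lett 3, .lett 6, .lett 4, .lett 2, .lett 4, .stab 36 false, .stab 36 false, .stab 36 false, .stab 36 false, .stab 36 false,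 .stab 36 false, .stab 37 false, .stab 36 false, .edge 91 [6,2,5,3,5,5,5,5,5], .coin 92, .lett 0, .lett 3, .lett 3, .lett 1, .lett 4, .lett 2, .lett 5, .lett 2, .lett 1, .lett 5, .lett 5, .lett 6, .lett 4, .lett 0, .lett 4, .lett 1, .lett 4, .lett 3, .lett 7, .stab 37 false, .stab 35 false, .stab 37 false, .stab 37 false, .stab 36 false, .stab 37 false, .stab 34 false, .edge 57 [0,1,0,0,6,7,6], .lett 5, .lett 3, .lett 5, .lett 7, .lett 2, .lett 2, .lett 5, .lett 7, .lett 3, .lett 5, .lett 3, .lett 3, .lett 5, .lett 2, .lett 0, .lett 2, .lett 2, .lett 0, .lett 2, .lett 1, .lett 3, .stab 36 false, .stab 36 false, .stab 36 false] [.stab 18 false, .stab 20 false, .stab 17 false, .stab 17 false, .stab 17 false, .stab 20 false, .stab 17 false, .edge 40 [3,7,5,0,3,5,5], .lett 5, .lett 1, .lett 0, .lett 6, .lett 4, .lett 2, .lett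 6, .lett 0, .lett 3, .stab 36 false, .stab 36 false, .stab 35 false, .stab 37 false, .stab 37 false, .stab 35 false, .stab 34 false, .edge 82 [0,5,6,0,7,5,6,2,5,7], .lett 0, .lett 0, .lett 4, .lett 0, .lett 0, .lett 3, .lett 0, .lett 2, .lett 2, .lett 0, .lett 5, .lett 0, .lett 2, .lett 1, .lett 6, .lett 4, .lett 0, .lett 5, .lett 3, .lett 5, .lett 1, .lett 6] [6,3,5,7,1,7,1]⟩,
   ⟨1, 3, 9, 1, [], [], [4,4,4,4,0,0,0,0,6], .defEdge⟩,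
   ⟨2, 9, 2, 0, [4,4,4,4,1,4,4,4,4,0,3,4,4,2,2,4,0,3,0,4,4,4,2,4,4,3,0,0,0,0,2,0,6,4,3,5,1,4,0], [4,3,4,4,4,2,2,4,4,4,3,0,0,2,0,3,0,4,4,4,3,4,2,2,4,4,4,4,0,2,0,3,0,3,0,6,5,3,5,2,4], [], .loop 2 [1,4,0,2,4,4,4,3,5,1,5,0,4,1,4,0,0,0,4,4,4,0,3,4,4,4,2,0,2,2,0,3,0,3,0,6,5,2,4,0,3] 83 40 43 false [.lett 7, .lett 3, .stab 20 false, .stab 20 false, .stab 18 false, .stab 20 false, .stab 17 false, .stab 18 false, .stab 17 false, .edge 55 [1,0,5,3,6,7,5], .lett 3, .lett 0, .lett 2, .lett 0, .lett 2, .lett 5, .lett 1, .lett 5, .lett 0, .lett 5, .lett 6, .lett 4, .lett 3, .lett 5, .lett 0, .lett 4, .stab 36 false, .stab 36 false, .stab 36 false, .stab 37 false, .stab 35 false, .edge 91 [5,2,5,5,4,6,5,7,6,5], .coin 92, .lett 2, .lett 6, .stab 37 false, .stab 36 false, .stab 35 false, .stab 37 false, .stab 36 false, .stab 36 false, .edge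 91 [0,2,5,4,5,6,1,7], .coin 92, .lett 3, .lett 5, .lett 0, .lett 3, .lett 3, .lett 4, .lett 7, .lett 4, .lett 0, .lett 5, .lett 1, .lett 4, .lett 3, .lett 3, .lett 0, .lett 2, .lett 0, .lett 3, .lett 3, .stab 37 false, .stab 36 false, .stab 37 false, .stab 36 false, .stab 37 false, .stab 35 false, .stab 36 false, .edge 97 [1,6,3,0,7,1]] [] []⟩,
   ⟨1, 3, 10, 1, [], [], [4,3,4,4,4,4,2,0,0,0,0,3,6], .defEdge⟩,
   ⟨2, 10, 2, 0, [4,4,4,1,4,4,4,0,3,4,4,4,2,2,4,4,4,4,3,5,1,5,0,4,1,4,0,5,1,5,0,4,1,4,0,5,1,5,0,4,1,4,0,0,2,0,3,0,3,4,2,2,4,4,3,0,2,2,0,3,0,3,0,6,5,3,1,5], [1,4,0,2,4,4,4,3,5,1,5,0,4,1,4,0,0,0,0,4,4,3,4,2,2,4,4,4,4,3,0,0,2,2,0,3,0,3,0,2,6,4,2,2,4,1,7], [], .loop 3 [1,4,0,3,4,2,2,4,3,0,0,0,0,0,2,0,3,1,4,0,3,4,4,4,4,2,2,4,3,0,2,0,2,0,3,3,0,2,0,3,6,5,2,5,0,4,4] 81 23 20 false [.lett 7, .stab 37 false, .stab 36 false, .stab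 35 false, .stab 37 false, .stab 35 false, .stab 36 false, .stab 36 false, .stab 37 false, .edge 99 [2,5,5,5,5,7,1,6,7], .lett 2, .lett 1, .lett 2, .lett 2, .lett 1, .lett 2, .lett 4, .lett 2, .lett 0, .lett 3, .lett 6, .lett 4, .lett 2, .lett 0, .lett 3, .lett 6, .lett 4, .lett 0] [.stab 37 false, .stab 35 false, .stab 37 false, .stab 37 false, .stab 36 false, .stab 35 false, .edge 70 [3,5,5,2,5,7,6], .lett 0, .lett 2, .lett 1, .lett 2, .lett 2, .lett 1, .lett 2, .lett 2, .lett 5, .lett 0, .lett 4, .lett 2, .lett 4, .lett 3, .lett 6, .lett 4, .lett 3, .lett 3, .lett 6, .lett 4, .lett 2, .lett 4, .stab 37 false, .stab 35 false, .stab 36 false, .stab 36 false, .stab 37 false, .stab 34 false, .edge 79 [6,1,1,1,7,5,7], .lett 7, .stab 20 false, .stab 17 false, .stab 20 false, .stab 20 false, .stab 20 false, .stab 18 false, .stab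 17 false, .edge 30 [1,5,7,4,6,5,2,5,5]] []⟩,
   ⟨1, 4, 11, 0, [], [], [4,4,4,1,4,4,4,4,0,3,4,4,4,4,2,2,4,4,3,5,1,5,0,4,1,4,0,5,1,5,0,4,1,4,0,5,1,5,0,4,1,4,0,5,1,5,0,4,1,4,0,0,0,0,0,0,4,2,4,4,4,3,3,6], .defEdge⟩,
   ⟨1, 2, 11, 0, [1,4,4,0,2,4,4,3,5,1,5,0,4,1,4,0,0,0,0,0,2,0,3,0,4,4,4,3,4,2,2,4,4,4,0,3,0,6,4,2,2,0,3,6], [4,4,4,4,1,4,4,4,0,2,4,4,4,4,3,5,1,5,0,4,1,4,0,5,1,5,0,4,1,4,0,5,1,5,0,4,1,4,0,0,0,0,2,0,3,0,4,4,3,4,4,4,2,0,0,0,3,0], [4,4,4,1,4,4,4,4,0,3,4,2,2,4,4,4,3,5,1,5,0,4,1,4,0,5,1,5,0,4,1,4,0,2,2,0,3,3,0,2,2,0,3,0,3,4,3,4,4,4,4,2,2,4,4,4,0,3,0,6], .loop 4 [4,4,4,1,4,4,4,4,0,3,4,2,2,4,4,4,3,5,1,5,0,4,1,4,0,5,1,5,0,4,1,4,0,2,2,0,3,3,0,2,2,0,3,0,3,4,4,0,2,0,2,0,3,3,0,2,2,0,3,3,3,6,4,3,0,2,1,4] 93 22 2 false [.lett 3, .stab 50 false, .stab 50 false, .stab 46 false, .stab 50 false, .stab 50 false, .stab 50 false, .stab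 50 false, .stab 44 false, .edge 64 [1,5,5,5,6,7,2,7], .stab 18 false, .stab 20 false, .stab 20 false, .stab 20 false, .stab 18 false, .stab 17 false] [.lett 5, .lett 6, .lett 7, .lett 1, .stab 46 false, .stab 46 false, .stab 50 false, .stab 50 false, .stab 50 false, .stab 45 false, .stab 46 false, .stab 45 false, .edge 80 [0,3,0,6,7,5,6,5], .lett 3, .lett 4, .lett 2, .stab 50 false, .stab 44 false, .stab 50 false, .stab 45 false, .stab 45 false, .stab 45 false, .edge 101 [1,7,3,6,0,6,7,5,6], .lett 1, .lett 3, .lett 1, .lett 5, .lett 0, .lett 2, .lett 0, .lett 0, .lett 6, .lett 7, .lett 4, .lett 3] [5,5,6,3,6,5,0,6]⟩,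
   ⟨1, 2, 11, 0, [1,4,4,4,0,3,4,4,2,2,4,4,4,4,3,5,1,5,0,4,1,4,0,5,1,5,0,4,1,4,0,0,2,0,2,0,3,3,0,2,2,0,3,3,4,1,4,0,0,2,0,3,0,2,2,0,3,3,0,6,4,2,4,1,7], [4,1,4,4,0,3,4,4,4,2,2,4,3,5,1,5,0,4,1,4,0,0,4,4,4,1,4,4,0,2,2,0,3,3,0,2,0,3,6,4,3,0,4,3,3,4], [4,1,4,0,2,4,3,5,1,5,0,4,1,4,0,5,1,5,0,4,1,4,0,0,0,2,0,3,1,4,4,4,4,0,3,4,2,2,4,4,6], .loop 4 [4,4,4,4,1,4,4,0,3,4,4,4,2,5,1,5,0,4,1,4,0,5,1,5,0,4,1,4,0,5,1,5,0,4,1,4,0,5,1,5,0,4,1,4,0,2,0,3,1,4,0,3,4,4,4,2,2,4,4,3,0,0,0,2,0,2,0,3,3,0,2,6,4,1,5,6,4,6,4] 20 28 1 false [.stab 44 false, .stab 46 false, .stab 45 false, .stab 50 false, .stab 50 false, .stab 45 false, .edge 63 [0,7,2,6,5,7,1,7,5], .stab 20 false, .stab 20 false, .stab 20 false, .stab 20 false, .stab 18 false, .stab 18 false, .stab 17 false] [.lett 1, .lett 0, .lett 1, .lett 1, .lett 6, .lett 5, .lett 5, .lett 3, .lett 3,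 .lett 0, .lett 4, .lett 1, .lett 2, .lett 4, .lett 2, .stab 44 false, .stab 50 false, .stab 50 false, .stab 50 false, .stab 50 false, .stab 50 false, .stab 45 false, .edge 64 [7,3,5,0,7,6,5,7], .lett 1, .lett 5, .lett 0, .stab 18 false, .stab 20 false, .stab 20 false, .stab 20 false, .stab 18 false, .stab 17 false, .edge 102 [5,6,2,7,0,5,5,5], .lett 4, .lett 4, .lett 7, .lett 0, .lett 0, .lett 1, .lett 0] [3,5,0,5,5,7,0,6,7]⟩,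
   ⟨2, 11, 4, 0, [4,1,4,4,0,3,4,4,4,2,2,4,3,5,1,5,0,4,1,4,0,0,4,4,4,1,4,0,3,4,4,2,0,0,2,2,0,3,3,0,2,0,3,6,4,0,5,7,5,5,1], [1,4,0,2,4,4,4,3,5,1,5,0,4,1,4,0,0,0,0,4,1,4,4,4,0,2,4,3,0,0,2,0,2,0,3,3,6,5,2,1,5,0,3], [], .loop 4 [4,4,4,4,1,4,4,4,0,2,4,4,4,4,3,5,1,5,0,4,1,4,0,5,1,5,0,4,1,4,0,5,1,5,0,4,1,4,0,0,0,0,2,0,3,0,4,4,2,4,4,4,4,3,0,0,0,2,2,0,6,4,0,5,7,5] 10 26 32 false [.lett 0, .lett 3, .stab 44 false, .stab 46 false, .stab 50 false, .stab 44 false, .stab 50 false, .stab 44 false, .stab 45 false, .edge 86 [0,0,0,0,5,6,2], .coin 87, .lett 1, .lett 5, .lett 7, .lett 0, .lett 5, .lett 3, .lett 0, .lett 5, .lett 7, .lett 1, .lett 5, .lett 0, .lett 4, .lett 3, .lett 3, .lett 5, .lett 3, .lett 1, .lett 3, .lett 3, .stab 20 false, .stab 20 false, .stab 18 false, .stab 18 false, .stab 20 false, .stab 17 false, .stab 20 false, .edge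 102 [5,5,6,2,6,5,0,6,7], .lett 5, .lett 7, .lett 1, .lett 5, .lett 1, .lett 2, .lett 5, .lett 7] [.lett 3, .lett 1, .lett 2, .lett 1, .lett 4, .lett 0, .lett 2, .lett 4, .lett 3, .lett 6, .lett 4, .lett 3, .lett 0, .lett 4, .lett 2, .lett 7, .lett 0, .stab 50 false, .stab 45 false, .stab 44 false, .stab 44 false, .stab 44 false, .edge 80 [0,2,5,3,6,1,6]] []⟩,
   ⟨1, 4, 12, 1, [], [], [4,1,4,4,0,3,4,4,4,2,2,4,3,5,1,5,0,4,1,4,0,0,4,1,4,4,4,4,0,3,4,4,2,0,0,6], .defEdge⟩,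
   ⟨2, 12, 3, 0, [1,4,4,4,4,0,3,4,4,4,4,2,2,4,4,4,3,5,1,5,0,4,1,4,0,0,0,0,0,2,0,3,1,4,0,2,4,4,4,2,0,3,0,3,0,2,2,0,3,3,6,4,0,5,3,0,2,1], [4,1,4,4,0,3,4,2,5,1,5,0,4,1,4,0,5,1,5,0,4,1,4,0,5,1,5,0,4,1,4,0,0,0,0,2,0,3,4,2,4,3,0,0,0,2,2,0,3,3,6,4,0,5,0,4,3,4], [], .loop 4 [1,4,0,3,4,2,2,4,3,0,0,0,0,0,2,0,3,4,4,4,1,4,4,4,4,0,2,4,2,0,3,3,0,2,6,4,3,4,2,1,2] 124 26 57 false [.lett 2, .lett 1, .lett 3, .lett 1, .lett 2, .lett 1, .lett 4, .lett 0, .lett 2, .lett 4, .lett 3, .lett 6, .lett 4, .lett 3, .lett 0, .lett 4, .lett 2, .lett 7, .lett 0, .stab 45 false, .stab 46 false, .stab 45 false, .stab 44 false, .stab 50 false, .edge 80 [5,4,5,7,2,5,6,7], .lett 6, .lett 4, .lett 3, .lett 0, .lett 4, .lett 0, .lett 6, .lett 4, .lett 5, .lett 5, .lett 3, .stab 44 false, .stab 44 false, .stab 50 false, .stab 50 false, .stab 50 false, .stab 46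 false, .stab 44 false, .edge 64 [0,1,5,6,3,5,3,7], .stab 18 false, .stab 20 false, .stab 20 false, .stab 20 false, .stab 18 false, .stab 17 false, .edge 102 [4,5,6,5,3,7], .coin 104, .lett 2, .lett 4, .lett 4, .stab 44 false, .stab 50 false, .stab 50 false, .stab 50 false, .stab 45 false, .stab 46 false, .stab 45 false, .stab 45 false, .edge 105 [6,7,6,3,6,0,5,5], .lett 2, .lett 2, .lett 0, .lett 2, .lett 4, .lett 2, .lett 2, .lett 5, .lett 1, .lett 4, .lett 0, .lett 6, .lett 4, .lett 1, .lett 2, .lett 4, .lett 1, .lett 6, .lett 4, .lett 0] [.stab 46 false, .stab 44 false, .stab 50 false, .stab 50 false, .stab 45 false, .stab 44 false, .stab 50 false, .edge 71 [0,5,3,6,7,1,6,7]] []⟩,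
   ⟨1, 3, 13, 0, [], [], [4,1,4,4,0,3,4,4,4,2,2,4,3,5,1,5,0,4,1,4,0,0,4,1,4,4,4,4,0,3,4,4,2,0,0,6], .defEdge⟩,
   ⟨1, 3, 13, 1, [], [0,0,0,0,0,0], [4,1,4,4,0,3,4,4,4,2,2,4,3,5,1,5,0,4,1,4,0,0,4,1,4,4,4,4,0,3,4,4,2,0,0,6], .loop 4 [4,1,4,4,0,3,4,4,4,2,2,4,3,5,1,5,0,4,1,4,0,0,4,4,3,4,4,4,2,2,4,4,4,0,2,0,3,3,0,2,0,3,6,4,0,5,0,3,5,5] 116 0 6 false [.stab 45 false, .stab 44 false, .stab 50 false, .stab 50 false, .stab 46 false, .stab 46 false, .stab 45 false, .edge 88 [1,1,2,6,3,7], .lett 1, .lett 5, .lett 6, .lett 0, .lett 0, .stab 36 false, .stab 36 false] [.stab 45 false, .stab 44 false, .stab 50 false, .stab 50 false, .stab 46 false, .stab 46 false, .stab 45 false, .edge 88 [1,1,2,6,3,7], .lett 1, .lett 5, .lett 6, .stab 36 false, .stab 36 false, .edge 107 [0,7,3,0,0,5,7]] [0,1,2,3,5,3]⟩,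
   ⟨2, 13, 2, 0, [4,1,4,4,0,3,4,4,4,2,2,4,3,5,1,5,0,4,1,4,0,0,4,1,4,4,4,4,0,3,4,4,2,0,0,0,2,2,0,3,0,3,0,2,6,5,1,3,4], [4,3,4,4,4,2,2,4,4,4,3,0,0,2,0,3,0,4,1,4,4,0,3,4,4,4,2,2,4,3,0,0,0,0,2,2,6,4,1,5,5,6,4], [], .loop 4 [4,1,4,0,2,4,3,5,1,5,0,4,1,4,0,5,1,5,0,4,1,4,0,0,0,2,0,3,4,3,4,4,4,4,2,0,0,0,2,6,4,1,5,1,3,4] 62 30 60 false [.lett 1, .lett 4, .lett 2, .lett 5, .lett 2, .lett 1, .lett 5, .lett 5, .lett 6, .lett 4, .lett 0, .lett 4, .lett 1, .lett 4, .lett 3, .lett 7, .stab 50 false, .stab 46 false, .stab 50 false, .stab 44 false, .stab 50 false, .stab 44 false, .stab 45 false, .edge 105 [6,5,2,4,6,5,0], .coin 106, .lett 5, .lett 3, .lett 5, .lett 7, .lett 2, .lett 2, .lett 5, .lett 7, .lett 3, .lett 5, .lett 3, .lett 3, .lett 5, .lett 2, .lett 0, .lett 2, .lett 2, .lett 0, .lett 2, .lett 1, .lett 3, .stab 35 false, .stab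 36 false, .stab 36 false, .stab 35 false, .stab 36 false, .stab 35 false, .stab 37 false, .stab 35 false, .edge 108 [2,7,1,7,5,2], .lett 7, .lett 0, .lett 4, .lett 2, .lett 4, .lett 1, .lett 5, .lett 7, .lett 0, .lett 3, .lett 1, .lett 4, .lett 1, .lett 3, .lett 3, .lett 1, .lett 2, .lett 1, .lett 3, .lett 0, .lett 2] [.lett 2, .lett 2, .lett 1, .stab 45 false, .stab 46 false, .stab 45 false, .stab 50 false, .stab 46 false, .stab 45 false, .edge 64 [0,6,0,5,0,7,6,5,7], .lett 5, .lett 3, .lett 5, .lett 7, .lett 2, .lett 2, .lett 5, .lett 7, .lett 3, .lett 5, .lett 3, .lett 3, .lett 5, .lett 2, .lett 0, .lett 2, .lett 2, .lett 0, .lett 2, .lett 1, .lett 3, .stab 17 false, .stab 17 false, .stab 17 false, .stab 20 false, .edge 51 [2,7,6,1,7,0,5,3], .lett 3, .lett 0, .lett 2, .stab 17 false, .stab 18 false, .stab 20 false, .stab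 20 false, .stab 18 false, .stab 20 false, .edge 65 [3,6,3,6,7,4,6,5], .stab 46 false, .stab 50 false, .stab 50 false, .stab 46 false, .stab 45 false, .stab 46 false, .stab 45 false, .edge 86 [1,6,3,6,7,5,6,2,5,6], .coin 87] []⟩,
   ⟨1, 3, 14, 1, [], [], [3,6,4,6], .defEdge⟩,
   ⟨2, 14, 2, 0, [4,4,4,4,1,4,4,4,4,0,3,4,4,2,2,4,0,3,0,4,3,4,4,4,2,2,4,4,3,0,2,0,3,6,4,3,4,6,4,3,7], [4,4,4,1,4,4,4,0,3,4,4,4,2,2,4,4,4,4,3,5,1,5,0,4,1,4,0,5,1,5,0,4,1,4,0,5,1,5,0,4,1,4,0,0,2,0,3,0,4,4,4,3,4,4,4,4,2,2,4,4,3,0,0,2,0,2,6,4,3,3,5,0,2], [], .loop 4 [4,1,4,4,0,3,4,2,5,1,5,0,4,1,4,0,5,1,5,0,4,1,4,0,5,1,5,0,4,1,4,0,0,0,0,2,0,3,1,4,4,4,4,0,2,0,3,3,6,5,5,3] 128 19 28 false [.lett 3, .lett 0, .lett 3, .lett 3, .lett 0, .lett 3, .lett 1, .stab 44 false, .stab 45 false, .stab 46 false, .stab 50 false, .stab 50 false, .stab 45 false, .stab 45 false,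 .edge 69 [7,6,5,3,6,7,0,5], .lett 7, .stab 37 false, .stab 36 false, .stab 36 false, .stab 36 false, .stab 37 false, .stab 37 false, .edge 110 [1,6,7,6,2,1,5,5,6], .lett 2, .lett 1, .lett 2, .lett 2, .lett 1, .lett 2, .lett 4, .lett 2, .lett 0, .lett 3, .lett 6, .lett 4, .lett 2, .lett 0, .lett 3, .lett 6, .lett 4, .lett 0] [.lett 2, .lett 5, .lett 0, .lett 4, .lett 2, .lett 4, .lett 3, .lett 6, .lett 4, .lett 3, .lett 3, .lett 6, .lett 4, .lett 2, .lett 4, .lett 4, .lett 0, .lett 7, .stab 45 false, .stab 45 false, .stab 46 false, .stab 50 false, .stab 50 false, .stab 46 false, .edge 63 [3,3,6,3,3], .stab 20 false, .stab 20 false, .stab 20 false, .stab 20 false, .stab 18 false, .stab 18 false, .stab 17 false, .edge 103 [6,2,5,6,5,2,6], .coin 104, .lett 6, .lett 1, .lett 5, .stab 44 false, .stab 50 false, .stab 44 false, .stab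 45 false, .stab 50 false, .edge 64 [1,0,3,7,2,1], .lett 7, .stab 20 false, .stab 20 false, .stab 17 false, .stab 20 false, .stab 18 false, .stab 20 false, .stab 17 false, .edge 39 [5,7,6,1,3,3]] []⟩]

/-- facts -/
def cf7 : List Fact :=
  [⟨1, 2, 15, 0, [], [], [4,4,4,4,0,0,0,0,6], .defEdge⟩,
   ⟨2, 15, 2, 0, [4,3,4,4,4,2,2,4,4,4,3,0,0,2,0,3,0,4,1,4,4,4,4,0,2,4,4,3,0,2,0,3,0,2,2,0,3,0,3,6,4,1,2,4,1,7], [1,4,0,3,4,2,2,4,3,0,0,0,0,0,2,0,3,4,4,4,1,4,0,2,4,4,2,0,3,0,3,0,6,4,2,0,3,6,4,0,3], [], .loop 1 [1,4,4,0,3,4,4,4,2,2,4,3,0,0,0,0,2,2,0,3,3,6,4,1,2,4] 11 18 28 false [.lett 3, .lett 0, .lett 3, .stab 10 false, .stab 10 false, .stab 10 false, .stab 15 false, .stab 15 false, .stab 11 false, .stab 15 false, .stab 15 false, .stab 10 false, .stab 15 false, .stab 11 false, .edge 16 [5,2,5,7,1], .lett 6, .stab 17 false, .stab 17 false,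 .edge 112 [5,5,7], .lett 0, .lett 2, .lett 1, .lett 2, .lett 2, .lett 1, .lett 2, .lett 2, .lett 5, .lett 0, .lett 4, .lett 2, .lett 4, .lett 3, .lett 6, .lett 4, .lett 3, .lett 3, .lett 6, .lett 4, .lett 2, .lett 4] [.lett 2, .lett 1, .lett 2, .lett 4, .lett 2, .lett 0, .lett 3, .lett 6, .lett 4, .lett 2, .lett 0, .lett 3, .lett 6, .lett 4, .lett 0, .stab 15 false, .stab 15 false, .stab 10 false, .stab 15 false, .edge 13 [0,7,1,5,5,6,1,5,6], .lett 6, .stab 11 false, .stab 11 false, .stab 10 false, .stab 10 false, .stab 15 false, .stab 15 false, .stab 15 false, .stab 11 false, .stab 15 false, .edge 16 [5,3,6,7,6,2,5,5]] []⟩,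
   ⟨1, 2, 16, 0, [], [], [4,4,4,4,1,4,4,4,0,0,0,0,0,0,6], .defEdge⟩,
   ⟨1, 3, 16, 0, [4,4,4,4,1,4,4,0,3,4,4,4,2,5,1,5,0,4,1,4,0,5,1,5,0,4,1,4,0,5,1,5,0,4,1,4,0,5,1,5,0,4,1,4,0,2,0,4,3,5,1,5,0,4,1,4,0,0,0,0,0,0,2,0,3,6,4,3,1,3,5,1,2], [4,4,4,4,1,4,4,0,3,4,4,4,2,5,1,5,0,4,1,4,0,5,1,5,0,4,1,4,0,5,1,5,0,4,1,4,0,5,1,5,0,4,1,4,0,2,0,3,4,1,4,4,4,4,0,2,4,4,4,3,0,0,2,0,2,0,3,0,3,0,2,6,4,2,4,1,2,2,7], [4,4,4,4,3,4,4,2,5,1,5,0,4,1,4,0,5,1,5,0,4,1,4,0,2,2,0,3,3,0,2,2,0,3,3,4,1,4,4,0,3,4,4,2,2,4,3,0,0,0,0,3,6], .loop 2 [1,4,0,3,4,2,2,4,3,0,0,0,0,0,2,0,3,3,4,4,4,4,2,2,4,4,4,4,2,0,3,3,0,2,0,3,0,3,0,6,5,0,5,2,1] 88 4 12 false [.lett 3, .lett 3, .lett 0, .lett 4, .lett 1, .lett 2, .lett 4, .lett 2, .stab 18 false, .stab 20 false, .stab 20 false, .stab 20 false, .stab 18 false, .edge 61 [3,7,3,2,5,7], .lett 1, .lett 5, .lett 0, .stab 37 false,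 .stab 37 false, .stab 37 false, .stab 35 false, .stab 34 false] [.lett 7, .lett 4, .lett 2, .stab 20 false, .stab 18 false, .stab 20 false, .stab 18 false, .stab 18 false, .stab 17 false, .stab 17 false, .edge 39 [2,2,7,5,6,5,2,5,5], .stab 18 false, .stab 20 false, .stab 17 false, .edge 114 [1,5,7,0,4,5,5], .lett 3, .lett 5, .lett 6] [5,5,5,5,7,3,6,0,5]⟩,
   ⟨2, 16, 2, 0, [4,3,4,4,4,2,2,4,4,4,3,0,0,2,0,3,0,4,4,4,2,4,3,0,0,0,0,2,2,0,3,0,6,4,0,3,4,0,4,1], [1,4,0,3,4,2,2,4,3,0,0,0,0,0,2,0,3,3,4,4,4,2,2,4,4,4,3,0,2,2,0,3,3,0,2,0,3,0,6,4,1,2,2,4,3], [], .loop 3 [4,4,4,4,1,4,0,3,4,4,2,2,4,4,4,3,5,1,5,0,4,1,4,0,5,1,5,0,4,1,4,0,5,1,5,0,4,1,4,0,0,0,0,0,4,1,4,0,3,4,4,2,2,4,2,0,3,6,4,1,3,4,2,6] 49 11 33 false [.lett 6, .lett 4, .lett 4, .lett 0, .stab 36 false, .stab 37 false, .stab 37 false, .stab 36 false, .stab 37 false, .stab 36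 false, .edge 91 [6,7,5,0,6,1,5,6,5], .coin 92, .stab 37 false, .stab 36 false, .stab 35 false, .stab 37 false, .stab 36 false, .stab 36 false, .stab 36 false, .stab 37 false, .edge 91 [0,7,5,6,3,5,7,0,5], .coin 92, .lett 1, .lett 1, .lett 1, .lett 5, .lett 5, .lett 7, .stab 36 false, .stab 36 false, .stab 36 false, .stab 36 false, .stab 37 false, .stab 35 false, .edge 99 [0,3,5,6,3,5,3,7,6], .coin 100, .lett 2, .lett 5, .lett 5, .lett 5, .lett 2, .lett 5, .lett 3, .lett 4, .lett 6, .stab 20 false, .stab 18 false, .stab 18 false, .stab 18 false, .stab 17 false, .edge 61 [7,0,0,5,0,6,5], .stab 37 false, .stab 37 false, .stab 37 false, .stab 35 false, .stab 34 false, .edge 115 [2,6,0,5,7,6,2], .lett 7, .lett 5, .lett 2, .lett 4, .lett 3, .lett 4, .lett 4, .lett 4, .lett 3] [.stab 36 false, .stab 36 false, .stab 35 false, .stab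 36 false, .stab 37 false, .edge 99 [0,3,5,6,3,5,3,7,6], .coin 100] []⟩,
   ⟨1, 2, 17, 0, [], [], [4,6,4,6], .defEdge⟩,
   ⟨2, 17, 2, 0, [4,4,4,4,3,4,4,2,5,1,5,0,4,1,4,0,5,1,5,0,4,1,4,0,2,2,0,3,3,0,2,2,0,3,3,4,4,0,2,2,0,3,3,0,2,0,3,6,4,1,2,4,1,6,4,3], [4,4,4,1,4,4,4,4,0,3,4,4,4,4,2,2,4,4,3,5,1,5,0,4,1,4,0,5,1,5,0,4,1,4,0,5,1,5,0,4,1,4,0,5,1,5,0,4,1,4,0,0,0,0,0,0,4,1,4,0,3,4,4,4,2,2,4,3,0,0,0,2,2,0,3,0,3,0,2,6,5,3,0,5], [], .loop 2 [1,4,4,0,2,4,4,3,5,1,5,0,4,1,4,0,0,0,0,0,2,0,3,0,3,4,4,2,2,4,3,0,0,0,2,2,6,4,1,3,5,5] 9 11 14 false [.stab 17 false, .stab 20 false, .stab 20 false, .stab 17 false, .stab 17 false, .edge 26 [0,7,4,5,0], .lett 3, .lett 3, .lett 0, .lett 2, .lett 2, .stab 20 false, .stab 20 false, .stab 18 false, .stab 20 false, .stab 18 false, .stab 18 false, .stab 18 false, .edge 117 [0,7,2,6,5,7,1,7], .lett 0, .lett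 0, .lett 3, .lett 3, .lett 0, .lett 2, .lett 2] [.lett 3, .lett 3, .lett 1, .lett 2, .lett 2, .stab 20 false, .stab 20 false, .stab 20 false, .stab 20 false, .stab 20 false, .stab 17 false, .stab 18 false, .edge 31 [0,6,1,5,6,1,6,7]] []⟩,
   ⟨1, 2, 18, 0, [], [], [1,4,0,2,4,4,4,3,5,1,5,0,4,1,4,0,0,0,0,4,4,4,1,4,0,2,4,4,3,0,2,2,6], .defEdge⟩,
   ⟨2, 18, 2, 0, [4,4,4,3,4,4,2,2,4,4,3,5,1,5,0,4,1,4,0,0,0,0,0,0,0,2,0,3,4,4,4,3,4,2,0,0,0,2,0,3,6,4,3,7,5,5,2], [4,4,4,4,3,4,2,2,4,4,3,5,1,5,0,4,1,4,0,5,1,5,0,4,1,4,0,5,1,5,0,4,1,4,0,0,2,0,3,4,4,4,1,4,0,3,4,4,4,4,2,2,4,4,4,4,0,3,6,4,1,7,5,2,2,0], [], .loop 1 [4,4,4,4,3,4,2,2,4,4,3,5,1,5,0,4,1,4,0,5,1,5,0,4,1,4,0,5,1,5,0,4,1,4,0,0,2,0,3,4,4,4,1,4,4,0,3,4,2,0,0,2,0,3,0,2,2,0,3,0,3,6,5,0,3,5] 66 10 45 false [.lett 1, .lett 3, .lett 1, .lett 2, .lett 2, .lett 5, .lett 0, .lett 4, .lett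 1, .lett 5, .lett 6, .lett 5, .lett 2, .lett 2, .lett 1, .lett 4, .lett 2, .stab 15 false, .stab 11 false, .stab 15 false, .stab 11 false, .stab 10 false, .stab 15 false, .stab 11 false, .stab 10 false, .stab 10 false, .stab 15 false, .stab 15 false, .edge 19 [4,6,7,1,6,5,7,6,2], .lett 7, .lett 3, .stab 18 false, .stab 20 false, .stab 20 false, .stab 17 false, .stab 17 false, .stab 20 false, .stab 17 false, .edge 31 [5,6,0,2,5], .lett 5, .lett 1, .lett 4, .lett 2, .lett 5, .lett 7, .lett 4, .lett 1, .lett 4, .lett 0, .lett 4, .lett 3, .lett 1, .lett 3, .lett 1, .lett 2, .lett 5, .lett 5, .lett 0, .stab 18 false, .stab 17 false, .stab 20 false, .stab 20 false, .stab 20 false, .stab 20 false, .stab 17 false, .stab 17 false, .edge 31 [0,2,3,6,5,7,2,6], .stab 17 false, .stab 20 false, .stab 18 false, .stab 20 false, .stab 18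 false, .stab 20 false, .edge 119 [2,6,7,5,2,0,7,2], .lett 1, .lett 4, .lett 4] [.lett 3, .lett 3, .stab 11 false, .stab 15 false, .stab 10 false, .stab 11 false, .stab 15 false, .stab 15 false, .stab 15 false, .edge 19 [0,2,4,6,7,0,5,6], .lett 7, .lett 3, .stab 20 false, .stab 17 false, .stab 20 false, .stab 20 false, .stab 17 false, .stab 17 false, .edge 39 [1,5,0,7,3,7,5,6]] []⟩,
   ⟨1, 2, 19, 0, [], [], [6,4,1,4,6], .defEdge⟩,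
   ⟨2, 19, 2, 0, [4,1,4,0,2,4,3,5,1,5,0,4,1,4,0,5,1,5,0,4,1,4,0,0,0,2,0,3,4,4,4,1,4,0,3,4,2,0,2,2,0,3,3,3,6,4,3,7,5,2], [4,1,4,4,0,3,4,4,4,2,2,4,3,5,1,5,0,4,1,4,0,0,4,1,4,4,0,3,4,4,4,2,2,4,2,0,3,0,3,6,4,2,7,5,1], [], .loop 3 [4,4,4,1,4,4,4,4,0,3,4,4,4,4,2,2,4,4,3,5,1,5,0,4,1,4,0,5,1,5,0,4,1,4,0,5,1,5,0,4,1,4,0,5,1,5,0,4,1,4,0,0,0,0,0,0,4,1,4,4,0,3,4,4,4,2,2,4,3,0,0,0,2,6,5,2,0,3,4] 10 46 32 false [.lett 1, .lett 3, .lett 3, .stab 36 false, .stab 36 false, .stab 37 false, .stab 36 false, .stab 37 false, .stab 35 false, .stab 37 false, .stab 34 false, .edge 58 [2,0,6,7,2,7], .lett 5, .lett 7, .lett 1, .lett 5, .lett 1, .lett 2, .lett 5, .lett 7, .stab 17 false, .stab 18 false, .stab 20 false, .stab 18 false, .stab 20 false, .stab 20 false, .stab 18 false, .stab 17 false, .edge 121 [1,5,0,1,7,6,5], .lett 1, .lett 6, .lett 3,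 .lett 5, .lett 1, .lett 2, .lett 5, .lett 7, .lett 2, .lett 5, .lett 3, .lett 1, .lett 5, .lett 0, .lett 3, .lett 0, .lett 2, .lett 0, .lett 3] [.lett 2, .lett 4, .lett 2, .lett 2, .lett 5, .lett 1, .lett 4, .lett 0, .lett 6, .lett 4, .lett 1, .lett 2, .lett 4, .lett 1, .lett 6, .lett 4, .lett 0, .stab 36 false, .stab 37 false, .stab 35 false, .stab 36 false, .stab 37 false, .edge 97 [3,5,7,6,1,0,5,7], .coin 98] []⟩,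
   ⟨1, 2, 20, 1, [], [], [2,4,4,4,4,3,0,0,0,0,6], .defEdge⟩,
   ⟨2, 20, 2, 0, [4,1,4,4,4,0,3,4,4,4,4,2,2,4,4,4,4,3,0,0,0,0,0,2,0,3,0,4,1,4,0,3,4,4,2,0,0,2,0,3,6,5,2,4,2,4,4], [4,4,4,1,4,4,4,4,0,3,4,4,4,4,2,2,4,4,3,5,1,5,0,4,1,4,0,5,1,5,0,4,1,4,0,5,1,5,0,4,1,4,0,5,1,5,0,4,1,4,0,0,0,0,0,0,4,4,4,2,4,4,3,0,2,0,2,0,3,3,0,2,0,3,6,5,0,4,1,4,3], [], .loop 3 [4,1,4,4,0,3,4,4,4,2,2,4,3,5,1,5,0,4,1,4,0,4,4,0,3,4,4,4,2,2,4,4,3,0,0,0,2,2,0,3,0,6,4,0,4,0,2,1,5] 120 10 17 false [.lett 2, .lett 2, .stab 37 false, .stab 36 false, .stab 36 false, .stab 36 false, .stab 37 false, .stab 37 false, .stab 34 false, .edge 99 [2,3,5,6,3,2,7,5], .coin 100, .lett 3, .lett 3, .lett 1, .lett 2, .lett 2, .stab 17 false, .stab 17 false, .stab 20 false, .stab 20 false, .stab 20 false, .stab 20 false, .stab 20 false, .edge 123 [2,0,5,7,6,2,5], .lett 3, .lett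 3, .lett 1, .lett 2, .lett 2, .lett 0, .lett 1, .lett 5] [.lett 0, .lett 2, .lett 2, .stab 37 false, .stab 36 false, .stab 37 false, .stab 35 false, .stab 37 false, .stab 35 false, .stab 36 false, .edge 107 [0,3,2,5,5,6,5,7,6], .coin 109, .lett 0, .lett 0, .lett 0, .lett 1, .lett 5, .stab 17 false, .stab 18 false, .stab 17 false, .stab 20 false, .stab 18 false, .stab 18 false, .edge 55 [1,5,2,5,0,6,5], .stab 36 false, .stab 36 false, .stab 37 false, .stab 37 false, .stab 37 false, .stab 35 false, .stab 37 false, .stab 35 false, .edge 107 [6,7,0,5,6,0,3], .coin 109] []⟩,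
   ⟨1, 2, 21, 1, [], [], [6,4,3,6], .defEdge⟩,
   ⟨1, 2, 21, 1, [1,4,0,2,4,4,4,3,5,1,5,0,4,1,4,0,0,0,0,4,4,4,1,4,4,4,4,0,2,4,4,0,2,0,3,0,6,4,2,4,2,5,7], [4,4,4,4,1,4,4,4,0,2,4,4,4,4,3,5,1,5,0,4,1,4,0,5,1,5,0,4,1,4,0,5,1,5,0,4,1,4,0,0,0,0,2,0,3,0,4,1,4,4,0,3,4,4,4,4,2,2,4,0,2,0,3,3,0,2,0,3,6,4,2,0,3,1,5,5], [4,4,4,1,4,4,4,4,0,3,4,4,4,4,2,2,4,4,3,5,1,5,0,4,1,4,0,5,1,5,0,4,1,4,0,5,1,5,0,4,1,4,0,5,1,5,0,4,1,4,0,0,0,0,0,0,4,2,4,4,4,6], .loop 2 [4,4,4,1,4,0,3,4,4,4,4,2,5,1,5,0,4,1,4,0,5,1,5,0,4,1,4,0,2,0,2,0,3,3,0,2,2,0,3,3,4,1,4,4,4,0,3,4,4,2,2,4,3,6,4,0,6,4,2,1] 12 23 41 false [.lett 0, .lett 3, .lett 3, .lett 1, .lett 4, .lett 2, .lett 5, .lett 2, .lett 1, .lett 5, .lett 5, .lett 6, .lett 4, .lett 0, .lett 4, .lett 1, .lett 4, .lett 3, .lett 7, .stab 20 false, .stab 20 false, .stab 18 false, .stab 18 false, .stab 17 false, .stab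 17 false, .stab 17 false, .edge 30 [5,2,5,6,5,0,6,7,6], .lett 5, .lett 3, .lett 5, .lett 7, .lett 2, .lett 2, .lett 5, .lett 7, .lett 3, .lett 5, .lett 3, .lett 3, .lett 5, .lett 2, .lett 0, .lett 2, .lett 2, .lett 0, .lett 2, .lett 1, .lett 3, .stab 20 false, .stab 18 false, .stab 18 false, .stab 20 false, .stab 17 false, .stab 20 false] [.stab 17 false, .stab 20 false, .stab 20 false, .stab 18 false, .stab 20 false, .stab 17 false, .edge 27 [7,6,5,3,4,7,6,5], .lett 5, .lett 3, .lett 5, .lett 7, .lett 2, .lett 2, .lett 5, .lett 7, .lett 3, .lett 5, .lett 3, .lett 3, .lett 5, .lett 2, .lett 0, .lett 2, .lett 2, .lett 0, .lett 2, .lett 1, .lett 3, .stab 20 false, .stab 17 false, .stab 18 false, .stab 20 false, .stab 17 false, .stab 20 false, .stab 18 false, .edge 125 [0,5,7,3,6,7,3,6], .lett 0, .lett 3, .lett 0, .lett 2, .lett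 2, .lett 0, .lett 5, .lett 0, .lett 2, .lett 1, .lett 6, .lett 4, .lett 0, .lett 5, .lett 3, .lett 5, .lett 1, .lett 6] [1,6,0,5,0,6,3,7]⟩,
   ⟨2, 21, 3, 0, [1,4,0,3,4,2,2,4,3,0,0,0,0,0,2,0,3,1,4,0,3,4,2,2,4,4,4,3,0,2,0,2,0,3,0,3,0,2,6,4,4,3,4,6,4], [4,4,4,1,4,4,0,3,4,4,4,4,2,2,4,3,5,1,5,0,4,1,4,0,5,1,5,0,4,1,4,0,0,0,4,4,4,4,3,4,2,2,4,3,0,2,2,0,3,6,5,2,5,2,4,3], [], .loop 3 [4,4,4,4,1,4,0,3,4,4,2,2,4,4,4,3,5,1,5,0,4,1,4,0,5,1,5,0,4,1,4,0,5,1,5,0,4,1,4,0,0,0,0,0,4,4,4,0,0,2,0,3,0,2,6,4,2,4,0,5,1,2] 61 64 48 false [.lett 1, .stab 35 false, .stab 37 false, .stab 36 false, .stab 37 false, .stab 35 false, .stab 37 false, .stab 36 false, .edge 99 [5,0,3,7,3,5,6], .coin 100, .lett 4, .lett 4, .lett 2, .lett 6, .lett 5, .lett 0, .lett 1, .lett 4, .lett 6, .stab 17 false, .stab 17 false, .stab 20 false, .stab 20 false, .stab 20 false,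 .stab 20 false, .stab 20 false, .edge 123 [1,3,0,7,1,3], .coin 124, .stab 17 false, .stab 18 false, .stab 17 false, .stab 20 false, .stab 18 false, .stab 18 false, .edge 29 [5,7,3,7,2,6,7,5], .lett 7, .lett 5, .lett 0, .lett 1, .lett 4, .lett 7, .lett 3, .lett 5, .lett 5, .stab 18 false, .stab 20 false, .stab 17 false, .stab 20 false, .stab 18 false, .stab 20 false, .edge 56 [5,5,4,6,3,5,7], .lett 0, .lett 2, .lett 0, .lett 6, .stab 36 false, .stab 35 false, .stab 36 false, .stab 36 false, .stab 37 false, .stab 37 false, .edge 97 [5,7,3,2,3,2], .coin 98, .lett 7, .stab 20 false, .stab 20 false, .stab 20 false, .stab 20 false, .stab 20 false, .stab 20 false, .edge 125 [5,5,5,5,5,0,3], .lett 1, .lett 5, .lett 7, .lett 2, .lett 1, .lett 3, .lett 5, .lett 7, .lett 2, .lett 1, .lett 3, .lett 5, .lett 3, .lett 0, .lett 3, .lett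 3, .lett 0, .lett 3] [.lett 2, .lett 0, .lett 6, .lett 5, .lett 3, .lett 5, .lett 7, .lett 2, .lett 2, .lett 5, .lett 7, .lett 2, .lett 5, .lett 3, .lett 5, .lett 1, .lett 4, .lett 3, .lett 3, .lett 0, .lett 3, .lett 3, .lett 0, .lett 3, .lett 1, .stab 37 false, .stab 37 false, .stab 36 false, .stab 36 false, .stab 36 false, .stab 36 false, .stab 36 false, .stab 35 false, .edge 57 [1,5,6,1,7,3,5,6,5,7], .lett 7, .edge 57 [0,7,5,2,2,5]] []⟩]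

/-- facts -/
def cf8 : List Fact :=
  [⟨1, 2, 22, 1, [], [], [4,1,4,4,0,3,4,4,4,2,2,4,3,5,1,5,0,4,1,4,0,0,4,1,4,0,3,4,4,2,0,0,6], .defEdge⟩,
   ⟨1, 2, 22, 0, [1,4,0,2,4,4,4,3,5,1,5,0,4,1,4,0,0,0,0,4,3,4,2,2,4,4,4,3,0,0,2,2,0,3,3,0,6,4,3,0,2,4,3], [1,4,4,4,0,3,4,4,2,2,4,4,4,4,3,5,1,5,0,4,1,4,0,5,1,5,0,4,1,4,0,0,2,0,2,0,3,3,0,2,2,0,3,3,4,4,4,4,0,6,4,7,5,0,5], [4,4,4,4,1,4,4,4,0,2,4,4,4,4,3,5,1,5,0,4,1,4,0,5,1,5,0,4,1,4,0,5,1,5,0,4,1,4,0,0,0,0,2,0,3,0,4,4,4,0,2,0,2,0,3,3,0,2,0,3,0,3,0,6], .loop 3 [1,4,4,0,2,4,4,3,5,1,5,0,4,1,4,0,0,0,0,0,2,0,3,0,4,1,4,4,4,4,0,2,4,4,4,3,0,0,2,2,0,3,3,6,4,2,2,0,5,1] 55 54 8 false [.lett 3, .stab 36 false, .stab 36 false, .stab 37 false, .stab 37 false, .stab 36 false, .stab 34 false, .edge 107 [2,5,2,6,5,2,6], .coin 109, .lett 3, .lett 2, .lett 7, .lett 2, .lett 0, .stab 17 false, .stab 17 false,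 .stab 17 false, .stab 20 false, .stab 18 false, .stab 20 false, .edge 27 [5,0,7,5,6,7,0], .stab 18 false, .stab 20 false, .stab 20 false, .stab 17 false, .stab 17 false] [.lett 2, .lett 0, .lett 2, .lett 4, .lett 2, .lett 2, .lett 5, .lett 1, .lett 4, .lett 0, .lett 6, .lett 4, .lett 1, .lett 2, .lett 4, .lett 1, .lett 6, .lett 4, .lett 0, .stab 37 false, .stab 36 false, .stab 35 false, .stab 37 false, .stab 37 false, .stab 37 false, .stab 34 false, .edge 79 [5,5,7,2,4,6,7,5], .lett 2, .lett 1, .lett 3, .lett 1, .lett 2, .lett 1, .lett 4, .lett 0, .lett 2, .lett 4, .lett 3, .lett 6, .lett 4, .lett 3, .lett 0, .lett 4, .lett 2, .lett 7, .lett 0, .stab 18 false, .stab 17 false, .stab 17 false, .stab 20 false, .stab 20 false, .stab 20 false, .stab 18 false, .stab 17 false, .edge 128 [7,0,1,5,6,7,5,6], .lett 6, .lett 4, .lett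 3, .lett 0, .lett 4, .lett 0, .lett 6, .lett 4, .lett 3, .lett 2, .lett 7, .lett 2, .lett 0] [2,5,7,6,4,5,0,6]⟩,
   ⟨2, 22, 2, 0, [4,4,4,3,4,4,2,2,4,4,3,5,1,5,0,4,1,4,0,0,0,0,0,0,0,2,0,3,3,4,4,4,4,2,2,2,0,3,3,0,2,0,2,0,3,3,6,4,2,7,4,3,1], [4,4,4,4,3,4,4,2,5,1,5,0,4,1,4,0,5,1,5,0,4,1,4,0,2,2,0,3,3,0,2,2,0,3,3,4,3,4,4,4,2,0,0,3,6,4,3,5,3,7], [], .loop 3 [4,4,4,1,4,4,0,3,4,4,4,4,2,2,4,3,5,1,5,0,4,1,4,0,5,1,5,0,4,1,4,0,0,4,4,4,4,0,3,4,4,4,4,2,2,2,0,3,3,6,5,0,3,5,3,3] 63 70 53 false [.stab 37 false, .stab 35 false, .stab 36 false, .stab 35 false, .stab 37 false, .stab 37 false, .stab 35 false, .stab 36 false, .edge 97 [5,7,5,3,7,5,0], .coin 98, .lett 7, .lett 0, .lett 4, .lett 2, .lett 4, .lett 1, .lett 5, .lett 7, .lett 0, .lett 3, .lett 1, .lett 4, .lett 1, .lett 3, .lett 3, .lett 1, .lett 2, .lett 1, .lett 3, .lett 6, .lett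 7, .lett 6, .lett 0, .stab 17 false, .stab 20 false, .stab 20 false, .stab 17 false, .stab 20 false, .stab 20 false, .stab 18 false, .edge 39 [6,0,7,5,6,3,5,5,7], .stab 18 false, .stab 20 false, .stab 17 false, .edge 114 [0,0,3,5,6,7,5,7], .coin 116, .lett 1, .lett 7, .lett 6, .lett 7, .lett 2, .stab 17 false, .stab 20 false, .stab 20 false, .stab 17 false, .stab 18 false, .stab 17 false, .edge 129 [7,0,5,4,6,5,7,5], .lett 2, .lett 0, .lett 3, .lett 1, .lett 3, .lett 3, .lett 1, .lett 3, .lett 4, .lett 2, .lett 2, .lett 4, .lett 2, .lett 6, .lett 4, .lett 3, .lett 3, .lett 6, .lett 4, .lett 2, .lett 4] [.lett 2, .lett 0, .lett 3, .lett 1, .lett 3, .lett 3, .lett 1, .lett 3, .lett 4, .lett 2, .lett 2, .lett 4, .lett 2, .lett 6, .lett 4, .lett 3, .lett 3, .lett 6, .lett 4, .lett 2, .lett 4, .stab 36 false, .stab 36 false, .stab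 36 false, .stab 37 false, .stab 35 false, .stab 36 false, .stab 35 false, .stab 36 false, .edge 75 [1,5,4,7,2,6,5], .lett 6, .lett 2, .lett 5, .lett 0, .lett 5, .lett 1, .lett 5, .lett 7, .lett 4, .lett 4, .lett 0, .lett 3, .lett 4, .lett 3, .lett 5, .lett 0, .lett 2, .lett 2, .lett 1, .stab 20 false, .stab 17 false, .stab 20 false, .stab 20 false, .stab 20 false, .stab 17 false, .stab 18 false, .edge 21 [5,5,7,5,3,2,6,7,5]] []⟩,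
   ⟨1, 2, 23, 1, [], [], [1,4,0,2,4,4,4,3,5,1,5,0,4,1,4,0,0,0,0,4,4,3,4,4,2,2,4,3,0,2,6], .defEdge⟩,
   ⟨2, 23, 2, 0, [4,4,4,1,4,4,4,4,0,3,4,2,2,4,4,4,3,5,1,5,0,4,1,4,0,5,1,5,0,4,1,4,0,2,2,0,3,3,0,2,2,0,3,0,3,4,1,4,0,2,4,0,3,0,2,2,0,3,0,3,0,2,6,5,3,0,2,4,0], [4,4,4,1,4,4,4,0,3,4,4,4,2,2,4,4,4,4,3,5,1,5,0,4,1,4,0,5,1,5,0,4,1,4,0,5,1,5,0,4,1,4,0,0,2,0,3,0,4,4,4,1,4,4,4,4,0,2,4,0,2,0,3,6,4,0,2,4,2], [], .loop 3 [4,4,4,1,4,4,4,0,3,4,4,4,2,2,4,4,4,4,3,5,1,5,0,4,1,4,0,5,1,5,0,4,1,4,0,5,1,5,0,4,1,4,0,0,2,0,3,4,0,2,4,4,4,4,2,0,3,0,3,6,4,1,5,2,6] 67 39 48 false [.lett 4, .lett 1, .lett 4, .lett 0, .lett 4, .lett 3, .lett 1, .lett 3, .lett 1, .lett 2, .lett 1, .lett 2, .lett 3, .lett 5, .lett 4, .stab 35 false, .stab 36 false, .stab 36 false, .stab 37 false, .stab 35 false, .stab 37 false, .stab 37 false, .edge 108 [1,0,3,7,5,7,1],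 .coin 109, .stab 17 false, .stab 18 false, .stab 17 false, .stab 20 false, .stab 18 false, .stab 18 false, .edge 40 [7,0,0,5,6,4,7,5], .lett 5, .lett 4, .lett 2, .lett 3, .lett 0, .stab 37 false, .stab 36 false, .stab 37 false, .stab 36 false, .stab 36 false, .stab 35 false, .edge 107 [0,0,0,0,1,3], .coin 109, .lett 2, .lett 6, .stab 18 false, .stab 18 false, .stab 18 false, .stab 17 false, .edge 67 [0,1,7,1,6,7,5], .lett 2, .lett 2, .lett 1, .lett 3, .lett 1, .lett 2, .lett 2, .lett 5, .lett 0, .lett 4, .lett 1, .lett 5, .lett 6, .lett 5, .lett 2, .lett 2, .lett 1, .lett 4, .lett 2, .stab 20 false, .stab 20 false, .stab 20 false, .stab 18 false, .stab 18 false, .stab 18 false, .stab 17 false, .edge 131 [6,0,5,7,0,5,0], .lett 7, .lett 3] [.lett 6, .lett 4, .lett 3, .lett 5, .lett 0, .lett 4, .stab 37 false, .stab 37 false,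 .stab 36 false, .stab 34 false, .edge 60 [6,5,2,5,6,7]] []⟩,
   ⟨1, 2, 24, 1, [], [], [1,4,0,2,4,4,4,3,5,1,5,0,4,1,4,0,0,0,0,4,4,3,4,4,2,2,4,3,0,6], .defEdge⟩,
   ⟨2, 24, 2, 0, [4,4,4,1,4,4,4,4,0,3,4,2,2,4,4,4,3,5,1,5,0,4,1,4,0,5,1,5,0,4,1,4,0,2,2,0,3,3,0,2,2,0,3,0,3,1,4,0,3,4,4,4,4,2,0,2,0,2,0,3,3,6,4,0,2,0,3,4,1], [4,4,4,4,1,4,4,0,3,4,4,4,2,5,1,5,0,4,1,4,0,5,1,5,0,4,1,4,0,5,1,5,0,4,1,4,0,5,1,5,0,4,1,4,0,2,0,3,1,4,4,0,3,4,4,4,2,2,4,4,3,0,0,2,0,2,0,3,3,0,6,4,1,7,4,1,4], [], .loop 4 [4,1,4,4,0,3,4,4,4,2,2,4,3,5,1,5,0,4,1,4,0,0,4,4,4,0,2,0,2,0,3,0,6,4,3,5,5,2,5] 127 35 34 false [.lett 0, .stab 45 false, .stab 50 false, .stab 45 false, .stab 50 false, .stab 50 false, .stab 50 false, .stab 44 false, .edge 64 [0,2,5,6,5,7,3,6], .lett 2, .lett 1, .lett 3, .lett 1, .lett 2, .lett 1, .lett 4, .lett 0, .lett 2, .lett 4, .lett 3, .lett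 6, .lett 4, .lett 3, .lett 0, .lett 4, .lett 2, .lett 7, .lett 0, .stab 17 false, .stab 18 false, .stab 20 false, .stab 20 false, .stab 18 false, .stab 18 false, .edge 133 [5,2,1,5,7,0,6], .lett 6, .lett 4, .lett 3, .lett 0, .lett 4, .lett 0, .lett 6, .lett 4, .lett 7, .lett 3, .lett 1, .lett 1] [.lett 5, .lett 7, .lett 0, .lett 5, .lett 3, .lett 0, .lett 5, .lett 7, .lett 1, .lett 5, .lett 0, .lett 4, .lett 3, .lett 3, .lett 5, .lett 3, .lett 1, .lett 3, .lett 3, .stab 46 false, .stab 50 false, .stab 50 false, .stab 44 false, .stab 50 false, .stab 44 false, .stab 46 false, .stab 44 false, .edge 81 [7,2,5,5,5,0,6,5,7,6], .coin 83, .lett 7, .lett 3, .lett 1, .lett 1, .stab 20 false, .stab 20 false, .stab 20 false, .stab 18 false, .stab 18 false, .edge 30 [0,0,7,6,5,7,2,3], .lett 6, .lett 5, .lett 5, .lett 3, .lett 2, .lett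 3, .lett 1, .lett 1, .lett 0, .stab 18 false, .stab 17 false, .stab 17 false, .stab 20 false, .stab 18 false, .edge 31 [0,4,5,0,7,6,5], .stab 17 false, .stab 20 false, .stab 18 false, .stab 20 false, .stab 18 false, .stab 20 false, .edge 119 [6,3,3,7,0,6,7], .coin 120, .lett 1, .lett 0, .lett 0, .lett 2, .lett 3, .lett 2, .lett 4, .lett 4, .lett 7, .stab 17 false, .stab 18 false, .stab 20 false, .stab 20 false, .stab 20 false, .stab 17 false, .stab 17 false, .stab 17 false, .edge 117 [2,5,0,5,7,6,1,5], .coin 118] []⟩,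
   ⟨1, 2, 25, 1, [], [], [1,4,0,2,4,4,4,3,5,1,5,0,4,1,4,0,0,0,0,4,4,3,4,4,2,2,4,3,0,2,2,6], .defEdge⟩,
   ⟨2, 25, 3, 0, [4,4,4,4,3,4,2,2,4,4,3,5,1,5,0,4,1,4,0,5,1,5,0,4,1,4,0,5,1,5,0,4,1,4,0,0,2,0,3,3,4,4,2,0,0,2,0,2,0,3,3,0,2,0,6,4,2,7,4,1,4,0], [4,4,4,1,4,4,0,2,4,4,0,3,6,4,2,2,4,7], [], .loop 3 [4,4,4,1,4,0,3,4,4,4,4,2,5,1,5,0,4,1,4,0,5,1,5,0,4,1,4,0,2,0,2,0,3,3,0,2,2,0,3,3,4,1,5,0,4,1,4,0,6,4,6,4,1,7,5,3] 75 5 6 false [.stab 36 false, .stab 35 false, .stab 37 false, .stab 35 false, .stab 36 false, .stab 36 false, .stab 37 false, .stab 34 false, .edge 53 [5,0,1,6,7,5,7,2], .lett 1, .lett 1, .lett 1, .stab 20 false, .stab 20 false, .stab 17 false, .stab 17 false, .stab 20 false, .stab 20 false, .stab 17 false, .edge 135 [6,2,1,7,2,4], .lett 1] [] []⟩,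
   ⟨1, 2, 26, 1, [], [], [4,4,4,3,4,4,2,2,4,4,3,5,1,5,0,4,1,4,0,0,0,0,0,0,0,2,0,3,4,4,4,3,4,4,2,2,4,4,3,0,0,2,0,3,3,0,6], .defEdge⟩,
   ⟨2, 26, 2, 0, [4,1,4,4,4,0,3,4,4,4,4,2,2,4,4,4,4,3,0,0,0,0,0,2,0,3,4,0,3,4,4,4,2,2,4,4,3,0,0,3,6,4,3,3,1,4,2], [4,1,4,4,4,4,0,3,4,4,4,2,2,4,4,3,5,1,5,0,4,1,4,0,5,1,5,0,4,1,4,0,5,1,5,0,4,1,4,0,0,0,0,0,0,0,4,1,4,4,0,3,4,4,2,2,4,4,4,2,0,3,0,3,6,4,3,0,4,2,6,4], [], .loop 3 [4,1,4,4,4,4,0,3,4,4,4,2,2,4,4,3,5,1,5,0,4,1,4,0,5,1,5,0,4,1,4,0,5,1,5,0,4,1,4,0,0,0,0,0,0,0,4,4,4,4,1,4,4,0,3,4,4,2,2,4,2,0,3,3,6,4,3,0,2,5] 120 10 17 false [.lett 2, .lett 2, .stab 37 false, .stab 36 false, .stab 37 false, .stab 35 false, .stab 36 false, .stab 37 false, .edge 97 [7,1,5,2,4,7,6], .coin 98, .lett 3, .lett 3, .lett 1, .lett 2, .lett 2, .stab 17 false, .stab 20 false, .stab 18 false, .stab 20 false, .stab 20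 false, .stab 17 false, .stab 17 false, .edge 137 [2,1,5,6,0,6,7], .lett 3, .lett 3, .lett 1, .lett 2, .lett 2, .lett 0, .lett 1, .lett 5] [.lett 0, .lett 2, .lett 2, .stab 37 false, .stab 36 false, .stab 37 false, .stab 37 false, .stab 36 false, .stab 37 false, .stab 35 false, .edge 53 [0,1,7,5,7,3,2,7], .lett 0, .lett 0, .lett 0, .lett 1, .lett 5, .stab 20 false, .stab 20 false, .stab 17 false, .stab 17 false, .stab 20 false, .stab 20 false, .stab 17 false, .edge 135 [2,3,7,6,1,1], .coin 136, .stab 36 false, .stab 35 false, .stab 37 false, .stab 35 false, .stab 36 false, .stab 36 false, .stab 37 false, .stab 34 false, .edge 53 [0,1,2,2,5,7,1,2]] []⟩,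
   ⟨1, 4, 27, 0, [], [], [4,1,4,0,2,4,3,5,1,5,0,4,1,4,0,5,1,5,0,4,1,4,0,0,0,2,0,3,4,1,4,4,0,3,4,4,4,4,2,2,4,4,0,3,3,0,6], .defEdge⟩,
   ⟨2, 27, 3, 0, [4,4,4,1,4,4,4,4,0,3,4,4,4,4,2,2,4,4,3,5,1,5,0,4,1,4,0,5,1,5,0,4,1,4,0,5,1,5,0,4,1,4,0,5,1,5,0,4,1,4,0,0,0,0,0,4,4,4,4,0,3,4,2,2,4,4,3,0,2,2,0,3,0,3,0,6,5,2,4,4,1,5,5], [1,4,4,4,0,3,4,4,2,2,4,4,4,4,3,5,1,5,0,4,1,4,0,5,1,5,0,4,1,4,0,0,2,0,2,0,3,3,0,2,2,0,3,3,4,4,4,3,4,4,2,2,4,3,0,2,0,3,0,2,2,0,3,3,0,6,4,3,3,5,5,0], [], .loop 4 [4,4,4,4,1,4,4,0,3,4,4,4,2,5,1,5,0,4,1,4,0,5,1,5,0,4,1,4,0,5,1,5,0,4,1,4,0,5,1,5,0,4,1,4,0,2,0,3,3,4,2,2,4,4,3,0,2,0,3,0,6,4,2,5,5,6,5,5] 58 26 27 false [.lett 6, .stab 46 false, .stab 50 false, .stab 44 false, .stab 50 false, .stab 44 false, .stab 50 false, .stab 44 false, .edge 139 [0,6,7,5,3,7,2,3], .lett 0, .lett 2, .lett 1, .lett 2, .lett 2, .lett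 1, .lett 2, .lett 2, .lett 5, .lett 0, .lett 4, .lett 2, .lett 4, .lett 3, .lett 6, .lett 4, .lett 3, .lett 3, .lett 6, .lett 4, .lett 2, .lett 4, .lett 4, .lett 0, .lett 7] [.stab 44 false, .stab 44 false, .stab 44 false, .stab 50 false, .stab 50 false, .stab 50 false, .stab 44 false, .edge 95 [3,5,7,5,2,6,1], .lett 2, .lett 1, .lett 2, .lett 2, .lett 1, .lett 2, .lett 4, .lett 2, .lett 0, .lett 3, .lett 6, .lett 4, .lett 2, .lett 0, .lett 3, .lett 6, .lett 4, .lett 0, .stab 46 false, .stab 44 false, .stab 50 false, .stab 50 false, .stab 50 false, .stab 44 false, .edge 88 [6,7,4,5,3,6,1,5], .lett 6, .stab 36 false, .stab 36 false, .stab 36 false, .stab 36 false, .stab 37 false, .stab 35 false, .stab 36 false, .stab 36 false, .edge 91 [1,0,6,3,5,2,7], .coin 92, .lett 4, .lett 0, .lett 7, .stab 36 false, .stab 36 false, .stab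 36 false, .stab 36 false, .stab 35 false, .stab 36 false, .stab 34 false, .edge 57 [4,5,6,7,5,3], .stab 36 false, .stab 37 false, .stab 37 false, .stab 37 false, .stab 36 false, .stab 37 false, .stab 36 false, .stab 34 false, .edge 91 [1,6,2,3,5,5,7,5], .coin 92] []⟩,
   ⟨1, 3, 28, 1, [], [], [4,1,4,4,0,3,4,4,4,2,2,4,3,5,1,5,0,4,1,4,0,0,4,3,4,4,2,0,0,6], .defEdge⟩,
   ⟨2, 28, 4, 0, [4,3,4,4,4,2,2,4,4,4,3,0,0,2,0,3,0,4,3,4,4,2,2,4,4,4,4,0,2,0,3,0,3,6,4,1,3,4,2,5,6], [1,4,0,2,4,4,4,3,5,1,5,0,4,1,4,0,0,0,0,4,4,1,4,4,0,2,4,2,0,3,3,0,2,0,3,0,6,4,7,5,1,3,3], [], .loop 4 [4,1,4,0,2,4,3,5,1,5,0,4,1,4,0,5,1,5,0,4,1,4,0,0,0,2,0,3,1,4,0,3,4,4,2,0,0,2,0,3,0,2,2,0,3,0,3,0,6,4,1,2,4,0,4,6] 12 20 44 false [.lett 2, .lett 4, .stab 44 false, .stab 50 false, .stab 50 false, .stab 44 false, .stab 46 false, .edge 88 [0,5,5,6,5,2,5,2,6], .lett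 0, .lett 3, .lett 3, .lett 1, .lett 4, .lett 2, .lett 5, .lett 2, .lett 1, .lett 5, .lett 5, .lett 6, .lett 4, .lett 0, .lett 4, .lett 1, .lett 4, .lett 3, .lett 7, .stab 37 false, .stab 37 false, .stab 36 false, .stab 37 false, .stab 35 false, .stab 36 false, .stab 34 false, .edge 141 [0,5,5,7,5,6,1,7], .lett 5, .lett 3, .lett 5, .lett 7, .lett 2, .lett 2, .lett 5, .lett 7, .lett 3, .lett 5, .lett 3, .lett 3, .lett 5, .lett 2, .lett 0, .lett 2, .lett 2, .lett 0, .lett 2, .lett 1, .lett 3] [.lett 5, .lett 7, .lett 2, .lett 2, .lett 5, .lett 7, .lett 3, .lett 5, .lett 3, .lett 3, .lett 5, .lett 2, .lett 0, .lett 2, .lett 2, .lett 0, .lett 2, .lett 1, .lett 3, .stab 44 false, .stab 50 false, .stab 44 false, .stab 50 false, .stab 50 false, .stab 46 false, .stab 50 false, .edge 64 [0,6,1,2,5], .lett 0, .lett 3, .lett 0, .lett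 2, .lett 2, .lett 0, .lett 5, .lett 0, .lett 2, .lett 1, .lett 6, .lett 4, .lett 0, .lett 5, .lett 3, .lett 5, .lett 1, .lett 6, .stab 17 false, .stab 20 false, .stab 18 false, .stab 20 false, .stab 17 false, .stab 17 false, .edge 102 [0,6,7,3,6,3,5,5], .coin 104] []⟩,
   ⟨1, 3, 29, 0, [], [], [4,0,0,0,0,2,2,0,3,0,3,0,3,0,6], .defEdge⟩]

/-- facts -/
def cf9 : List Fact :=
  [⟨2, 29, 4, 0, [1,4,4,4,0,3,4,4,2,2,4,4,4,4,3,5,1,5,0,4,1,4,0,5,1,5,0,4,1,4,0,0,2,0,2,0,3,3,0,2,2,0,3,3,4,2,4,4,4,3,6,5,0,5,3,0,4,0], [4,1,4,0,2,4,3,5,1,5,0,4,1,4,0,5,1,5,0,4,1,4,0,0,0,2,0,3,4,4,2,4,4,4,4,3,0,2,2,0,3,0,3,0,6,4,3,3,5,5], [], .loop 4 [4,4,4,4,3,4,2,2,4,4,3,5,1,5,0,4,1,4,0,5,1,5,0,4,1,4,0,5,1,5,0,4,1,4,0,0,2,0,3,4,4,4,0,0,2,0,2,0,3,0,6,4,1,5,6,5,7] 102 8 28 false [.lett 2, .lett 2, .lett 1, .lett 3, .lett 4, .lett 2, .lett 0, .lett 4, .lett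 3, .lett 3, .lett 5, .stab 45 false, .stab 50 false, .stab 50 false, .stab 50 false, .stab 44 false, .stab 45 false, .stab 45 false, .edge 69 [0,5,7,2,5,4,5,6], .lett 1, .lett 5, .lett 0, .lett 5, .lett 1, .lett 4, .lett 0, .lett 4, .stab 37 false, .stab 37 false, .stab 35 false, .stab 37 false, .stab 37 false, .stab 34 false, .edge 143 [0,5,6,7,6,3,5,2], .lett 3, .lett 1, .lett 2, .lett 7, .lett 6, .lett 1, .lett 5] [.lett 3, .lett 1, .lett 2, .lett 7, .lett 6, .lett 1, .lett 5, .stab 45 false, .stab 50 false, .stab 50 false, .stab 50 false, .stab 44 false, .stab 45 false, .stab 45 false, .edge 63 [5,6,7,2,5,5,0,5,5], .stab 20 false, .stab 20 false, .stab 20 false, .stab 20 false, .stab 18 false, .stab 18 false, .stab 17 false, .edge 103 [1,1,2,6,5,0,7], .coin 104] []⟩,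
   ⟨1, 3, 30, 1, [], [], [4,0,0,0,0,2,2,0,3,0,3,0,3,0,6], .defEdge⟩,
   ⟨1, 4, 30, 0, [4,4,4,4,3,4,4,2,5,1,5,0,4,1,4,0,5,1,5,0,4,1,4,0,2,2,0,3,3,0,2,2,0,3,3,4,1,4,4,4,0,3,4,2,2,4,0,3,0,2,2,0,3,0,3,3,6,4,1,3,5,2,5], [1,4,4,0,3,4,2,2,2,0,3,3,6,4,3,1,5,2,4], [0,0,0,0,3,6], .loop 4 [4,4,4,4,1,4,4,4,4,0,3,4,4,2,2,4,0,3,0,4,1,4,4,4,0,2,4,4,4,0,2,0,3,0,3,6,4,7,5,2,1,2,4] 138 13 11 false [.lett 5, .lett 1, .lett 5, .lett 0, .lett 5, .lett 6, .lett 4, .lett 3, .lett 5, .lett 0, .lett 4, .stab 50 false, .stab 46 false, .stab 50 false, .stab 50 false, .stab 50 false, .stab 44 false] [.lett 3, .lett 1, .lett 3, .lett 1, .lett 2, .lett 3, .lett 6, .lett 0, .lett 7, .lett 5, .lett 4, .lett 5, .stab 46 false, .stab 50 false, .stab 50 false, .stab 45 false, .stab 44 false, .stab 50 false, .edge 105 [0,5,6,1,6,3,6,5,7], .coin 106, .stab 36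 false, .stab 37 false, .stab 35 false, .stab 37 false, .stab 37 false, .edge 82 [1,2,6,5,7,3,7,5], .lett 4, .lett 5, .lett 4, .lett 6, .lett 1, .lett 7, .lett 2, .stab 46 false, .stab 45 false, .stab 46 false, .stab 45 false, .stab 50 false, .stab 45 false, .stab 50 false, .edge 86 [7,6,1,5,7,3,7], .coin 87, .lett 2, .lett 6, .stab 17 false, .stab 20 false, .stab 17 false, .stab 18 false, .stab 20 false, .stab 18 false, .stab 17 false, .edge 54 [1,6,3,2,7,6,5], .lett 2, .lett 2, .lett 1, .lett 3, .lett 1, .lett 2, .lett 2, .lett 5, .lett 0, .lett 4, .lett 1, .lett 5, .lett 6, .lett 5, .lett 2, .lett 2, .lett 1, .lett 4, .lett 2, .stab 37 false, .stab 36 false, .stab 37 false, .edge 145 [2,5,6,5,7,3,6,3], .lett 7, .lett 3] [4,7,2,5,5,6,1,7]⟩,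
   ⟨2, 30, 4, 0, [1,4,4,4,0,3,4,4,2,2,4,4,4,4,3,5,1,5,0,4,1,4,0,5,1,5,0,4,1,4,0,0,2,0,2,0,3,3,0,2,2,0,3,3,4,2,4,4,4,3,0,0,2,0,2,0,3,3,6,4,2,1,5,2,5], [4,4,4,4,1,4,4,4,4,0,3,4,4,2,2,4,0,3,0,4,2,4,3,0,2,2,0,3,0,3,6,4,4,3,3,4], [], .loop 4 [4,4,4,4,1,4,4,4,4,0,3,4,4,2,2,4,0,3,0,4,2,4,3,0,0,0,0,2,2,0,3,0,3,3,6,5,3,3,1,5,3] 78 3 4 false [.stab 50 false, .stab 46 false, .stab 46 false, .stab 50 false, .stab 50 false, .stab 44 false, .stab 44 false, .edge 69 [2,5,0,5,6,1,5,6,5], .lett 0, .lett 0, .stab 37 false, .stab 37 false, .stab 35 false, .stab 37 false, .stab 37 false, .stab 34 false, .edge 145 [1,7,6,5,7,0,2]] [] []⟩,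
   ⟨1, 3, 31, 1, [], [], [1,4,0,0,0,0,2,6], .defEdge⟩,
   ⟨2, 31, 3, 0, [4,1,4,0,2,4,3,5,1,5,0,4,1,4,0,5,1,5,0,4,1,4,0,0,0,2,0,3,4,4,4,4,3,4,2,0,0,0,2,0,3,0,6,5,3,1,2,4,1], [1,4,4,4,0,3,4,4,2,2,4,4,4,4,3,5,1,5,0,4,1,4,0,5,1,5,0,4,1,4,0,0,2,0,2,0,3,3,0,2,2,0,3,3,4,4,4,3,4,4,2,2,4,3,0,0,0,2,0,3,3,6,4,2,5,5,0,5], [], .loop 4 [1,4,0,2,4,4,4,3,5,1,5,0,4,1,4,0,0,0,0,4,4,0,2,2,0,3,3,0,2,0,3,6,4,6,4,3,3,5,6] 122 1 21 false [.lett 6, .lett 5, .lett 1, .lett 3, .lett 6, .lett 4, .lett 0, .lett 1, .lett 1, .stab 45 false, .stab 45 false, .stab 46 false, .stab 50 false, .edge 85 [3,5,6,7,2,5,6], .lett 3, .lett 3, .lett 1, .lett 2, .lett 2, .stab 36 false, .stab 36 false, .stab 36 false, .stab 37 false, .stab 35 false, .stab 36 false, .stab 35 false, .stab 34 false, .edge 148 [1,4,5,5,5,2,5], .lett 3, .lett 3, .lett 1, .lett 2, .lett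 2] [.stab 45 false, .stab 50 false, .stab 50 false, .stab 50 false, .stab 45 false, .stab 45 false, .stab 46 false, .stab 45 false, .edge 64 [7,5,6,0,5,7,5], .stab 18 false, .stab 20 false, .stab 20 false, .stab 20 false, .stab 18 false, .stab 17 false, .edge 102 [5,4,5,5,6,7,2,6], .coin 104, .lett 6, .lett 5, .lett 1, .lett 3, .lett 6, .lett 4, .lett 0, .lett 3, .lett 3, .lett 0, .lett 2, .lett 2, .stab 44 false, .stab 46 false, .stab 50 false, .stab 50 false, .stab 44 false, .stab 46 false, .edge 139 [5,5,6,5,7,1,6,5,7,0], .coin 140] []⟩,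
   ⟨1, 3, 32, 1, [], [], [4,4,4,4,3,4,4,2,5,1,5,0,4,1,4,0,5,1,5,0,4,1,4,0,2,2,0,3,3,0,2,2,0,3,3,4,1,4,4,0,3,4,4,2,2,4,3,0,0,0,0,3,6], .defEdge⟩,
   ⟨2, 32, 2, 0, [1,4,0,2,4,4,4,3,5,1,5,0,4,1,4,0,0,0,0,3,4,2,2,4,4,4,3,0,0,2,0,2,0,3,3,0,2,0,3,6,5,3,4,2,2,5], [4,4,4,3,4,4,2,2,4,4,3,5,1,5,0,4,1,4,0,0,0,0,0,0,0,2,0,3,4,4,4,1,4,0,3,4,4,4,4,2,0,0,0,2,6,4,7,5,1,4,0], [], .loop 2 [4,4,4,4,1,4,4,0,3,4,4,4,2,5,1,5,0,4,1,4,0,5,1,5,0,4,1,4,0,5,1,5,0,4,1,4,0,5,1,5,0,4,1,4,0,2,0,3,4,4,1,4,4,4,0,2,4,3,0,0,2,2,0,3,0,3,0,2,2,6,4,2,7,4,1] 120 20 26 false [.lett 3, .lett 1, .lett 2, .lett 2, .lett 0, .lett 1, .lett 5, .stab 20 false, .stab 17 false, .stab 18 false, .stab 17 false, .stab 17 false, .edge 61 [2,2,2,2,6,2], .stab 37 false, .stab 37 false, .stab 37 false, .stab 35 false, .stab 34 false, .edge 115 [7,0,1,3,3,3], .coin 116, .lett 4,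 .lett 0, .lett 1, .lett 1, .lett 1, .stab 20 false, .stab 18 false, .stab 18 false, .stab 18 false, .stab 17 false, .edge 61 [6,3,6,7,3,5,5,7,6], .lett 3, .lett 3, .lett 1, .lett 2, .lett 2, .stab 36 false, .stab 36 false, .stab 37 false, .stab 35 false, .stab 37 false, .edge 150 [5,5,5,7,1,7,0,6,7], .lett 3, .lett 3, .lett 1, .lett 2, .lett 2] [.lett 2, .stab 20 false, .stab 17 false, .stab 18 false, .stab 17 false, .stab 17 false, .edge 112 [5,7,1,6,5,7,1,5], .coin 113] []⟩,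
   ⟨1, 2, 33, 0, [], [], [3,4,4,4,4,2,0,0,0,0,3,6], .defEdge⟩,
   ⟨1, 2, 33, 1, [1,4,0,3,4,2,2,4,3,0,0,0,0,0,2,0,3,4,4,4,1,4,4,0,2,4,4,4,2,0,3,3,0,2,0,3,6,4,2,2,0,3,5,0], [4,4,4,4,3,4,4,2,5,1,5,0,4,1,4,0,5,1,5,0,4,1,4,0,2,2,0,3,3,0,2,2,0,3,3,4,4,4,1,4,4,0,2,4,4,4,3,0,0,2,2,0,3,3,3], [3,4,4,4,4,2,0,0,0,0,3,6], .loop 2 [4,4,4,1,4,0,3,4,4,4,4,2,5,1,5,0,4,1,4,0,5,1,5,0,4,1,4,0,2,0,2,0,3,3,0,2,2,0,3,3,1,4,4,0,3,4,4,4,2,2,4,4,3,0,0,2,2,0,3,3,0,2,0,6,4,1,4,2,5,2] 122 24 28 false [.lett 3, .lett 1, .lett 2, .lett 2, .lett 1, .lett 5, .lett 7, .lett 2, .lett 0, .lett 4, .lett 7, .stab 20 false, .stab 18 false, .stab 20 false, .stab 20 false, .stab 20 false, .stab 18 false, .edge 131 [0,6,1,3,5,3,7,6], .coin 132, .stab 20 false, .stab 18 false, .stab 20 false, .stab 18 false, .stab 18 false, .stab 17 false, .stab 17 false, .edge 25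 [2,3,6,7,6,1,5,6], .lett 6, .lett 5, .lett 1, .lett 3, .lett 6, .lett 4, .lett 0, .lett 1, .lett 1, .stab 20 false, .stab 18 false, .stab 20 false, .stab 17 false, .stab 18 false, .edge 32 [7,0,5,5,6], .lett 3, .lett 3, .lett 1, .lett 2, .lett 2, .stab 17 false, .stab 17 false, .stab 20 false, .stab 20 false, .stab 20 false, .stab 20 false, .stab 20 false] [.lett 2, .stab 18 false, .stab 20 false, .stab 20 false, .stab 20 false, .stab 17 false, .stab 17 false, .edge 152 [3,7,2,7,3,7,5,6], .lett 3, .lett 3, .lett 0, .lett 2, .lett 2] [5,2,6,3,7,6,1]⟩,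
   ⟨2, 33, 3, 0, [4,4,4,1,4,4,4,0,3,4,4,4,2,2,4,4,4,4,3,5,1,5,0,4,1,4,0,5,1,5,0,4,1,4,0,5,1,5,0,4,1,4,0,0,2,0,3,0,4,4,1,4,4,4,0,2,4,4,0,3,0,6,5,3,0,3,4,4], [4,4,4,4,1,4,0,3,4,4,2,2,4,4,4,3,5,1,5,0,4,1,4,0,5,1,5,0,4,1,4,0,5,1,5,0,4,1,4,0,0,0,0,4,0,3,4,4,2,2,4,3,0,2,0,2,0,3,0,3,0,6,4,0,5,3,6,5,7], [], .loop 3 [1,4,0,2,4,4,4,3,5,1,5,0,4,1,4,0,0,0,4,4,4,0,3,4,4,4,4,2,0,0,2,2,0,3,3,0,2,6,4,0,3,3,5,2] 78 0 4 false [.lett 0, .lett 0, .stab 35 false, .stab 37 false, .stab 35 false, .stab 37 false, .stab 34 false, .edge 68 [4,7,5,6,1,7,5,2], .stab 17 false, .stab 18 false, .stab 20 false, .stab 17 false, .stab 20 false, .stab 17 false, .edge 153 [2,6,5,7,1,4,5]] [] []⟩,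
   ⟨1, 2, 34, 0, [], [], [3,4,4,4,4,2,0,0,0,0,6], .defEdge⟩,
   ⟨2, 34, 2, 0, [4,4,4,4,3,4,4,2,5,1,5,0,4,1,4,0,5,1,5,0,4,1,4,0,2,2,0,3,3,0,2,2,0,3,3,3,4,2,2,4,4,0,6,4,3,6,5,1,1], [4,1,4,4,4,4,0,3,4,4,4,2,2,4,4,3,5,1,5,0,4,1,4,0,5,1,5,0,4,1,4,0,5,1,5,0,4,1,4,0,0,0,0,0,0,0,4,4,1,4,4,4,4,0,3,4,4,4,2,2,6,4,3,5,3,4], [], .loop 2 [4,3,4,4,4,2,2,4,4,4,3,0,0,2,0,3,0,4,4,2,4,3,5,1,5,0,4,1,4,0,2,2,0,3,0,3,0,3,6,4,2,1,4,3,1] 138 14 59 false [.lett 1, .lett 5, .lett 0, .lett 5, .lett 6, .lett 4, .lett 3, .lett 5, .lett 0, .lett 4, .stab 18 false, .stab 20 false, .stab 17 false, .stab 20 false, .stab 20 false, .stab 20 false, .stab 17 false, .edge 54 [0,0,3,6,7,5,4], .lett 2, .lett 6, .stab 36 false, .stab 37 false, .stab 37 false, .stab 36 false, .stab 35 false, .stab 36 false, .stab 35 false, .edge 53 [6,1,0,0,5,7,5], .lett 3, .lett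 5, .lett 0, .lett 3, .lett 3, .lett 4, .lett 7, .lett 4, .lett 0, .lett 5, .lett 1, .lett 4, .lett 3, .lett 3, .lett 0, .lett 2, .lett 0, .lett 3, .lett 3, .stab 20 false, .stab 17 false, .stab 20 false, .stab 20 false, .stab 20 false, .stab 18 false, .stab 20 false, .edge 135 [0,6,7,2,5,4,6,3], .coin 136, .lett 7, .lett 3, .stab 36 false, .stab 37 false, .stab 36 false, .stab 37 false, .stab 36 false, .stab 37 false, .edge 68 [6,0,5,7,6,2,0,5], .lett 3, .lett 6, .lett 0, .lett 7, .lett 5, .lett 4, .lett 5, .stab 18 false, .stab 18 false, .stab 20 false, .stab 17 false, .stab 17 false, .stab 17 false, .edge 32 [2,7,2,7,5,6,7,1], .stab 17 false, .stab 17 false, .stab 20 false, .stab 20 false, .stab 20 false, .stab 20 false, .stab 20 false, .edge 155 [5,2,7,6,1,6,1,6,7], .lett 4, .lett 5, .lett 4, .lett 6, .lett 1, .lett 7,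 .lett 2, .lett 3, .lett 0, .lett 2, .lett 0, .lett 2, .lett 5] [] []⟩,
   ⟨1, 2, 35, 0, [], [], [4,1,4,0,2,4,3,5,1,5,0,4,1,4,0,5,1,5,0,4,1,4,0,0,0,2,0,3,4,1,4,4,0,3,4,4,4,2,2,0,3,6], .defEdge⟩,
   ⟨2, 35, 3, 0, [4,1,4,4,4,4,0,3,4,4,4,2,2,4,4,3,5,1,5,0,4,1,4,0,5,1,5,0,4,1,4,0,5,1,5,0,4,1,4,0,0,0,0,0,0,0,4,4,4,1,4,4,4,0,2,4,4,4,3,6,4,2,1,3,4,0,4], [4,4,4,3,4,4,2,2,4,4,3,5,1,5,0,4,1,4,0,0,0,0,0,0,0,2,0,3,4,1,4,0,3,4,2,2,4,4,4,4,2,0,3,0,3,3,6,4,3,5,1,4,0], [], .loop 4 [4,4,4,4,1,4,4,4,0,2,4,4,4,4,3,5,1,5,0,4,1,4,0,5,1,5,0,4,1,4,0,5,1,5,0,4,1,4,0,0,0,0,2,0,3,4,0,0,2,0,3,0,2,2,0,3,3,0,6,4,2,6,4,4,3] 129 34 23 false [.lett 2, .lett 1, .lett 2, .lett 4, .lett 2, .lett 0, .lett 3, .lett 6, .lett 4, .lett 2, .lett 0, .lett 3, .lett 6, .lett 4, .lett 0, .stab 50 false, .stab 50 false, .stab 50 false, .stab 50 false, .stab 50 false,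 .stab 50 false, .stab 44 false, .stab 44 false, .edge 81 [5,0,7,6,5,2,5,5,7], .coin 83, .lett 6, .stab 18 false, .stab 20 false, .stab 18 false, .stab 20 false, .stab 20 false, .stab 17 false, .edge 157 [5,7,4,5,6,5,0], .lett 2, .lett 0, .lett 7, .lett 6, .lett 7] [.lett 3, .lett 0, .lett 3, .stab 46 false, .stab 50 false, .stab 46 false, .stab 45 false, .stab 45 false, .edge 88 [2,5,2,7,6,1,7,5], .lett 6, .stab 37 false, .stab 35 false, .stab 36 false, .stab 36 false, .stab 37 false, .stab 36 false, .stab 35 false, .edge 91 [2,5,6,1,5,5,5,7,6], .coin 92, .lett 0, .lett 2, .lett 1, .lett 2, .lett 2, .lett 1, .lett 2, .lett 2, .lett 5, .lett 0, .lett 4, .lett 2, .lett 4, .lett 3, .lett 6, .lett 4, .lett 3, .lett 3, .lett 6, .lett 4, .lett 2, .lett 4, .lett 2, .lett 0, .lett 7, .lett 6, .lett 7, .stab 35 false, .stab 36 false,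 .stab 36 false, .stab 35 false, .stab 37 false, .stab 36 false, .stab 34 false, .edge 57 [0,0,5,6,7,0,5,5], .stab 36 false, .stab 37 false, .stab 37 false, .stab 37 false, .stab 36 false, .stab 37 false, .stab 36 false, .stab 34 false, .edge 91 [6,7,0,0,2,3], .coin 92] []⟩,
   ⟨1, 2, 36, 1, [], [], [4,4,4,1,4,4,4,4,0,3,4,4,4,4,2,2,4,4,3,5,1,5,0,4,1,4,0,5,1,5,0,4,1,4,0,5,1,5,0,4,1,4,0,5,1,5,0,4,1,4,0,0,0,0,0,0,4,2,4,4,4,3,6], .defEdge⟩]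

/-- facts -/
def cf10 : List Fact :=
  [⟨2, 36, 2, 0, [1,4,4,4,4,0,3,4,4,4,4,2,2,4,4,4,3,5,1,5,0,4,1,4,0,0,0,0,0,2,0,3,0,0,0,0,2,2,0,3,3,6,4,0,2,4,3,4], [4,1,4,0,2,4,3,5,1,5,0,4,1,4,0,5,1,5,0,4,1,4,0,0,0,2,0,4,3,5,1,5,0,4,1,4,0,0,0,2,2,0,3,0,3,0,6,4,3,4,6], [], .loop 2 [1,4,4,0,2,4,4,3,5,1,5,0,4,1,4,0,0,0,0,0,2,0,3,0,4,4,1,4,4,4,0,3,4,4,2,2,4,4,4,4,2,0,3,3,6,5,0,5,0,2,1] 29 18 42 false [.lett 3, .stab 18 false, .stab 17 false, .edge 67 [5,5,7,2,5,6,3,5,7,6], .lett 3, .lett 1, .lett 2, .lett 5, .lett 3, .lett 0, .lett 2, .lett 7, .lett 1, .lett 5, .lett 5, .stab 17 false, .stab 20 false, .stab 20 false, .stab 20 false, .stab 20 false, .stab 17 false, .stab 18 false, .edge 30 [1,6,4,5,2,6,5], .lett 2, .lett 5, .lett 6, .lett 1, .lett 2, .lett 1, .lett 2, .lett 5, .lett 4, .stab 18 false, .stab 20 false, .stab 20 false, .stab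 18 false, .stab 18 false, .stab 20 false, .stab 17 false, .edge 137 [5,0,1,5,5,5,5,6,7], .coin 138, .stab 20 false, .stab 20 false, .stab 17 false, .stab 17 false, .stab 20 false, .stab 20 false, .stab 17 false, .edge 24 [5,6,7,5,6,3,0,6], .lett 5, .lett 4, .lett 3, .lett 0, .lett 3, .lett 0, .lett 7, .lett 4, .lett 3, .stab 17 false, .stab 20 false, .stab 18 false, .stab 20 false, .stab 17 false, .stab 20 false, .edge 117 [6,2,7,5,0,7,6], .coin 118, .lett 4, .lett 4, .lett 0, .lett 6, .stab 17 false, .stab 18 false, .stab 18 false, .stab 17 false, .edge 159 [2,1,2,5,0,6,7], .lett 2, .lett 4] [] []⟩,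
   ⟨1, 2, 37, 1, [], [], [4,4,4,4,1,4,4,4,0,2,4,4,4,4,3,5,1,5,0,4,1,4,0,5,1,5,0,4,1,4,0,5,1,5,0,4,1,4,0,0,0,0,2,0,3,0,4,4,4,0,2,0,2,0,3,3,0,2,0,3,0,3,0,6], .defEdge⟩,
   ⟨2, 37, 2, 0, [4,4,4,4,3,4,4,2,5,1,5,0,4,1,4,0,5,1,5,0,4,1,4,0,2,2,0,3,3,0,2,2,0,3,3,1,4,4,4,0,3,4,4,4,4,2,0,0,3,6,5,5,2,2,5], [4,4,4,3,4,4,2,2,4,4,3,5,1,5,0,4,1,4,0,0,0,0,0,0,0,2,0,3,1,4,0,0,0,0,2,0,3,0,2,2,0,3,3,6,4,1,4,2,4,4], [], .loop 2 [1,4,4,0,2,4,4,3,5,1,5,0,4,1,4,0,0,0,0,0,2,0,3,0,3,4,4,4,4,2,2,0,2,0,3,0,3,6,5,3,5,1,2,4] 79 4 18 false [.lett 3, .lett 1, .lett 2, .lett 2, .stab 18 false, .stab 20 false, .stab 20 false, .edge 31 [7,5,7,6,2,3,5], .lett 3, .lett 3, .lett 1, .lett 2, .lett 2, .stab 20 false, .stab 17 false, .stab 17 false, .stab 20 false, .stab 17 false, .stab 18 false, .edge 161 [2,4,5,5,3,5,6,7,5], .lett 3, .lett 3, .lett 1, .lett 2,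 .lett 2, .lett 1, .lett 1] [.lett 2, .stab 17 false, .stab 20 false, .stab 17 false, .stab 20 false, .stab 20 false, .stab 17 false, .stab 17 false, .edge 28 [6,3,3,3,0,5]] []⟩,
   ⟨1, 2, 38, 1, [], [], [4,1,4,0,2,4,3,5,1,5,0,4,1,4,0,5,1,5,0,4,1,4,0,0,0,2,0,3,4,1,4,4,0,3,4,4,4,2,2,0,3,6], .defEdge⟩,
   ⟨2, 38, 3, 0, [1,4,4,0,2,4,4,3,5,1,5,0,4,1,4,0,0,0,0,0,2,0,3,0,4,4,1,4,4,4,4,0,3,4,2,0,2,2,0,3,3,0,2,0,3,0,3,6,4,3,4,2,1,3,7], [4,4,4,3,4,4,2,2,4,4,3,5,1,5,0,4,1,4,0,0,0,0,0,0,0,2,0,3,4,4,3,4,4,2,0,0,0,0,0,0,2,0,3,3,6,4,1,5,6], [], .loop 2 [1,4,0,3,4,2,2,4,3,0,0,0,0,0,2,0,3,4,3,4,2,2,4,3,0,0,2,0,2,0,3,3,0,2,0,3,0,6,5,2,2] 134 57 41 false [.lett 4, .lett 4, .lett 0, .lett 3, .lett 4, .lett 3, .lett 5, .lett 0, .lett 2, .lett 2, .lett 1, .stab 18 false, .stab 17 false, .stab 20 false, .stab 17 false, .edge 32 [0,6,7,4,5], .lett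 5, .lett 3, .lett 5, .lett 7, .lett 2, .lett 2, .lett 5, .lett 7, .lett 3, .lett 5, .lett 3, .lett 3, .lett 5, .lett 2, .lett 0, .lett 2, .lett 2, .lett 0, .lett 2, .lett 1, .lett 3, .stab 17 false, .stab 20 false, .stab 20 false, .stab 20 false, .stab 17 false, .stab 17 false, .edge 163 [2,3,6,7,5,0,4], .lett 5, .lett 1, .lett 5, .lett 0, .lett 3, .lett 7, .lett 5] [.lett 6, .lett 4, .lett 0, .lett 4, .lett 1, .lett 4, .lett 3, .lett 7, .stab 20 false, .stab 17 false, .stab 18 false, .stab 20 false, .stab 20 false, .stab 18 false, .edge 65 [5,5,6,5,3,7,2,7], .lett 5, .lett 3, .lett 5, .lett 7, .lett 2, .lett 2, .lett 5, .lett 7, .lett 3, .lett 5, .lett 3, .lett 3, .lett 5, .lett 2, .lett 0, .lett 2, .lett 2, .lett 0, .lett 2, .lett 1, .lett 3, .stab 46 false, .stab 45 false, .stab 50 false, .stab 50 false, .stab 50 false,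 .stab 45 false, .stab 46 false, .edge 105 [5,4,7,6,5,3,5,5], .coin 106, .lett 7, .lett 0, .lett 4, .lett 2, .lett 4, .lett 1, .lett 5, .lett 7, .lett 0, .lett 3, .lett 1, .lett 4, .lett 1, .lett 3, .lett 3, .lett 1, .lett 2, .lett 1, .lett 5, .lett 1, .lett 5, .lett 0, .lett 3, .lett 7, .lett 5, .stab 36 false, .stab 36 false, .stab 35 false, .stab 37 false, .stab 37 false, .stab 36 false, .stab 35 false, .stab 34 false, .edge 99 [6,5,2,7,6,1,3,7], .coin 100, .stab 17 false, .stab 18 false, .stab 20 false, .stab 17 false, .stab 17 false, .stab 17 false, .edge 56 [4,5,7,2,0,0]] []⟩,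
   ⟨1, 3, 39, 0, [], [], [1,4,0,0,0,0,6], .defEdge⟩,
   ⟨2, 39, 4, 0, [1,4,4,4,0,3,4,4,2,2,4,4,4,4,3,5,1,5,0,4,1,4,0,5,1,5,0,4,1,4,0,0,2,0,2,0,3,3,0,2,2,0,3,3,4,4,1,4,0,3,4,4,4,4,2,2,4,0,2,0,3,0,3,6,5,1,2,2,5,3], [4,4,4,1,4,4,4,0,3,4,4,4,2,2,4,4,4,4,3,5,1,5,0,4,1,4,0,5,1,5,0,4,1,4,0,5,1,5,0,4,1,4,0,0,2,0,3,0,2,4,4,4,4,2,0,3,3,0,2,2,0,3,3,6,4,2,1,5,0,6], [], .loop 4 [4,1,4,4,4,4,0,3,4,4,4,2,2,4,4,3,5,1,5,0,4,1,4,0,5,1,5,0,4,1,4,0,5,1,5,0,4,1,4,0,0,0,0,0,0,0,3,4,4,2,2,4,4,3,0,0,2,2,0,3,0,3,0,2,2,0,3,3,6,4,2,5,2,7] 128 4 49 false [.lett 5, .lett 3, .lett 5, .lett 7, .lett 2, .lett 2, .lett 5, .lett 7, .lett 2, .lett 5, .lett 3, .lett 5, .lett 1, .lett 4, .lett 3, .lett 3, .lett 0, .lett 3, .lett 3, .lett 0, .lett 3, .lett 1, .stab 45 false, .stab 44 false, .stab 45 false, .stab 50 false, .stab 50 false, .stab 44 false, .stab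 46 false, .stab 44 false, .edge 64 [1,6,5,7,3,5,2], .lett 7, .stab 18 false, .stab 18 false, .stab 20 false, .edge 51 [5,5,6,7,2,1,0], .lett 2, .lett 1, .lett 2, .lett 2, .lett 1, .lett 2, .lett 4, .lett 2, .lett 0, .lett 3, .lett 6, .lett 4, .lett 2, .lett 0, .lett 3, .lett 6, .lett 4, .lett 0, .stab 17 false, .stab 18 false, .stab 20 false, .stab 20 false, .stab 18 false, .stab 17 false, .stab 17 false, .edge 56 [0,6,3,5,7,3,7,5,7], .lett 6, .stab 36 false, .stab 37 false, .stab 36 false, .edge 165 [3,6,7,3,2,5,6,5,7], .lett 4, .lett 0, .lett 7] [.lett 4, .lett 0, .lett 7, .stab 45 false, .stab 50 false, .stab 50 false, .stab 45 false, .stab 50 false, .stab 45 false, .stab 46 false, .edge 63 [0,5,7,6,1,0,5,6,7], .stab 20 false, .stab 20 false, .stab 20 false, .stab 20 false, .stab 18 false, .stab 18 false, .stab 17 false,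 .edge 103 [0,3,5,7,5,3,5,6,5], .coin 104] []⟩,
   ⟨1, 3, 40, 0, [], [], [1,4,4,0,0,0,0,0,0,3,6], .defEdge⟩,
   ⟨2, 40, 2, 0, [4,4,4,1,4,4,4,0,3,4,4,4,2,2,4,4,4,4,3,5,1,5,0,4,1,4,0,5,1,5,0,4,1,4,0,5,1,5,0,4,1,4,0,0,2,0,3,0,4,1,4,0,3,4,4,4,2,0,0,0,0,0,0,2,6,4,3,5,3,3,5], [4,4,4,4,1,4,0,3,4,4,2,2,4,4,4,3,5,1,5,0,4,1,4,0,5,1,5,0,4,1,4,0,5,1,5,0,4,1,4,0,0,0,0,0,4,4,4,4,1,4,4,0,2,4,3,5,1,5,0,4,1,4,0,6,4,1,4,0,4], [], .loop 1 [1,4,4,0,2,4,4,3,5,1,5,0,4,1,4,0,0,0,0,0,2,0,3,0,4,4,1,4,4,0,0,0,0,0,2,2,0,3,6,4,1,4,4,2,5] 137 27 50 false [.lett 5, .lett 0, .lett 3, .lett 3, .lett 4, .lett 7, .lett 4, .lett 0, .lett 5, .lett 1, .lett 4, .lett 3, .lett 3, .lett 0, .lett 2, .lett 0, .lett 3, .lett 3, .stab 10 false, .stab 11 false, .stab 15 false, .stab 10 false, .stab 15 false, .stab 11 false, .edge 38 [5,6,2,5,7,1,6,5,7], .lett 7, .lett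 3, .stab 35 false, .stab 34 false, .edge 79 [5,5,5,5,6,7,6], .lett 1, .lett 2, .lett 3, .lett 5, .lett 4, .stab 17 false, .stab 20 false, .stab 18 false, .edge 78 [5,6,2,4,7,5,6,7], .stab 36 false, .stab 36 false, .stab 36 false, .stab 35 false, .edge 167 [0,0,6,7,2,0,5,7], .lett 5, .lett 4, .lett 2, .lett 3, .lett 0, .lett 3, .lett 0, .lett 2, .lett 0, .lett 2, .lett 5, .lett 1, .lett 5, .lett 0, .lett 5, .lett 6, .lett 4, .lett 3, .lett 5, .lett 0, .lett 4] [.lett 2, .stab 10 false, .stab 11 false, .stab 11 false, .stab 15 false, .stab 15 false, .stab 15 false, .stab 11 false, .stab 15 false, .stab 15 false, .edge 19 [0,2,1,0,5,7,1], .lett 7, .lett 3, .stab 17 false, .stab 20 false, .stab 18 false, .stab 20 false, .stab 18 false, .stab 17 false, .edge 51 [0,5,7,6,2,5,5,3]] []⟩,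
   ⟨1, 3, 41, 1, [], [], [1,4,4,0,0,0,0,0,0,6], .defEdge⟩,
   ⟨2, 41, 3, 0, [4,1,4,4,4,0,3,4,4,4,4,2,2,4,4,4,4,3,0,0,0,0,0,2,0,3,0,4,4,1,4,4,0,3,4,2,2,4,4,0,3,0,2,2,0,3,0,3,0,6,4,0,5,1,2,4,4], [1,4,4,4,4,0,3,4,4,4,4,2,2,4,4,4,3,5,1,5,0,4,1,4,0,0,0,0,0,2,0,3,4,1,4,4,0,2,4,4,3,0,0,0,2,0,2,0,3,3,0,2,0,3,6,4,2,1,6], [], .loop 3 [4,3,4,4,4,2,2,4,4,4,3,0,0,2,0,3,4,4,0,2,4,3,0,2,2,0,3,3,0,3,6,5,0,3] 69 37 25 false [.lett 2, .stab 37 false, .stab 35 false, .stab 37 false, .stab 37 false, .stab 36 false, .stab 35 false, .stab 36 false, .stab 34 false, .edge 57 [2,1,5,2,6,7,6], .lett 7, .lett 3, .stab 36 false, .stab 36 false, .stab 37 false, .stab 35 false, .stab 36 false, .stab 35 false, .stab 36 false, .edge 169 [0,6,0,0,5,3,7], .lett 5, .lett 1, .lett 4, .lett 2, .lett 5, .lett 7, .lett 4, .lett 1, .lett 4, .lett 0, .lett 4, .lett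 3, .lett 1, .lett 3, .lett 1, .lett 2, .lett 1, .lett 7, .lett 1, .lett 7] [.lett 5, .lett 0, .lett 3, .lett 3, .lett 4, .lett 7, .lett 4, .lett 0, .lett 5, .lett 1, .lett 4, .lett 3, .lett 3, .lett 0, .lett 2, .lett 0, .lett 3, .lett 3, .stab 37 false, .stab 35 false, .stab 36 false, .stab 37 false, .stab 36 false, .stab 37 false, .stab 35 false, .edge 99 [5,3,5,5,6,3], .coin 100, .lett 7, .lett 3, .stab 20 false, .stab 18 false, .stab 20 false, .stab 18 false, .stab 18 false, .stab 17 false, .stab 17 false, .edge 135 [1,6,5,7,2,6,5,7], .coin 136, .lett 1, .lett 7, .lett 1, .lett 7, .stab 36 false, .stab 35 false, .stab 37 false, .stab 35 false, .stab 36 false, .stab 36 false, .stab 37 false, .stab 34 false, .edge 97 [0,6,0,4,7,0,0], .coin 98, .lett 5, .lett 2, .lett 4, .lett 0, .lett 4, .lett 0, .lett 5, .lett 5, .lett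 4, .stab 18 false, .stab 20 false, .stab 17 false, .stab 20 false, .stab 20 false, .stab 17 false, .edge 131 [0,6,0,7,5,6,2,7,5], .coin 132, .stab 20 false, .stab 18 false, .stab 20 false, .stab 18 false, .stab 18 false, .stab 17 false, .stab 17 false, .edge 25 [0,3,5,7,3,6,7,5,6,5], .lett 5, .lett 4, .lett 4, .lett 1, .lett 5, .lett 1, .lett 5, .lett 3, .lett 4, .stab 17 false, .stab 18 false, .stab 20 false, .stab 18 false, .stab 20 false, .edge 54 [1,5,5,5,7,6,3,5,7,6]] []⟩,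
   ⟨1, 3, 42, 1, [], [], [2,4,4,4,4,6,4,6], .defEdge⟩,
   ⟨2, 42, 3, 0, [4,4,4,1,4,0,3,4,4,4,4,2,5,1,5,0,4,1,4,0,5,1,5,0,4,1,4,0,2,0,2,0,3,3,0,2,2,0,3,3,4,1,4,4,0,3,4,4,4,2,2,4,4,4,2,0,3,3,0,2,6,4,1,3,4,0,5,1], [4,1,4,4,4,4,0,3,4,2,0,2,2,0,3,3,6,4,0,3,4,0,5,6], [], .loop 3 [4,4,4,1,4,0,3,4,4,4,4,2,5,1,5,0,4,1,4,0,5,1,5,0,4,1,4,0,2,0,2,0,3,3,0,2,2,0,3,3,4,4,4,4,1,4,4,4,0,3,4,2,0,0,0,0,2,6,4,2,5,5,1] 126 52 43 false [.lett 3, .lett 0, .lett 4, .lett 0, .lett 6, .lett 4, .lett 5, .lett 2, .lett 2, .lett 2, .lett 5, .lett 4, .lett 3, .stab 37 false, .stab 37 false, .stab 36 false, .stab 37 false, .stab 36 false, .stab 37 false, .edge 110 [6,0,5,2,0,7,5,6], .coin 111, .stab 18 false, .stab 20 false, .stab 18 false, .stab 18 false, .stab 18 false, .stab 17 false, .edge 76 [6,5,3,0,0], .lett 2, .lett 5, .lett 4, .lett 3, .lett 3,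 .lett 3, .lett 4, .stab 36 false, .stab 35 false, .stab 36 false, .stab 37 false, .stab 34 false, .edge 171 [7,6,5,3,5,5,0,6], .lett 2, .lett 2, .lett 0, .lett 2, .lett 4, .lett 2, .lett 2, .lett 5, .lett 1, .lett 4, .lett 0, .lett 6, .lett 4, .lett 1, .lett 2, .lett 4, .lett 1, .lett 6, .lett 4, .lett 0] [.lett 5, .lett 7, .stab 35 false, .stab 37 false, .stab 37 false, .stab 35 false, .stab 36 false, .stab 37 false, .edge 143 [2,1,7,5,3,6,5,7,5], .coin 144, .lett 1, .lett 6, .lett 3, .lett 5, .lett 1, .lett 2, .lett 5, .lett 7, .lett 2, .lett 5, .lett 3, .lett 1, .lett 5, .lett 0, .lett 3, .lett 0, .lett 2, .lett 0, .lett 3, .stab 50 false, .stab 50 false, .stab 45 false, .stab 46 false, .stab 45 false, .stab 44 false, .edge 139 [4,5,5,6,3,5], .coin 140] []⟩,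
   ⟨1, 2, 43, 0, [], [], [3,4,4,4,4,2,0,0,0,2,0,2,0,3,3,3,6], .defEdge⟩,
   ⟨2, 43, 2, 0, [4,1,4,4,0,3,4,2,5,1,5,0,4,1,4,0,5,1,5,0,4,1,4,0,5,1,5,0,4,1,4,0,0,0,0,2,0,3,3,4,4,4,4,2,2,4,4,2,0,3,3,0,2,6,4,0,2,1,5,5], [4,1,4,4,0,3,4,4,4,2,2,4,3,5,1,5,0,4,1,4,0,0,4,4,4,1,4,0,3,4,2,2,0,2,0,3,0,3,6,5,2,1,3,4,2], [], .loop 2 [1,4,0,2,4,4,4,3,5,1,5,0,4,1,4,0,0,0,4,4,0,3,4,2,2,4,4,3,0,2,0,2,0,3,0,2,6,4,0,5,3] 107 3 36 false [.lett 3, .lett 2, .lett 5, .lett 0, .lett 7, .lett 5, .lett 2, .stab 17 false, .stab 20 false, .stab 20 false, .stab 17 false, .stab 20 false, .stab 17 false, .edge 121 [5,0,5,5,7,6,3,7,5], .coin 122, .lett 6, .lett 2, .lett 2, .lett 4, .lett 1, .lett 1, .lett 1, .stab 17 false, .stab 18 false, .stab 20 false, .stab 20 false, .stab 18 false, .stab 18 false, .stab 17 false, .edge 135 [5,6,4,7,5,7,1], .coin 136, .lett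 1, .stab 36 false, .stab 35 false, .stab 37 false, .stab 35 false, .stab 36 false, .stab 36 false, .stab 37 false, .stab 34 false, .edge 53 [0,5,5,5,6,5,2,7,6,5,3], .lett 5, .lett 3, .lett 3, .lett 7, .stab 20 false, .stab 17 false, .stab 20 false, .stab 18 false, .stab 17 false, .edge 51 [5,5,5,6,5,7,0], .lett 3, .lett 4, .lett 6, .lett 1, .lett 4, .lett 3, .lett 2, .lett 1, .lett 2, .stab 17 false, .stab 20 false, .stab 18 false, .stab 20 false, .stab 18 false, .stab 17 false, .edge 66 [0,0,4,4,7], .stab 18 false, .stab 18 false, .stab 20 false, .edge 173 [5,7,2,0,3], .lett 3, .lett 0] [] []⟩,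
   ⟨1, 2, 44, 0, [], [], [4,4,4,4,1,4,0,3,4,4,2,2,4,4,4,3,5,1,5,0,4,1,4,0,5,1,5,0,4,1,4,0,5,1,5,0,4,1,4,0,0,0,0,4,0,3,4,4,2,2,4,4,4,4,2,6], .defEdge⟩]

/-- facts -/
def cf11 : List Fact :=
  [⟨2, 44, 2, 0, [4,4,4,4,1,4,4,4,4,0,3,4,4,2,2,4,0,3,0,4,4,3,4,4,4,4,2,2,4,4,2,0,3,3,3,6,4,3,4,2,5], [4,4,4,4,1,4,0,3,4,4,2,2,4,4,4,3,5,1,5,0,4,1,4,0,5,1,5,0,4,1,4,0,5,1,5,0,4,1,4,0,0,0,0,0,4,1,4,4,0,5,1,5,0,4,1,4,0,0,2,2,0,3,0,3,0,6,5,2,4,2,0,2], [], .loop 2 [4,4,4,4,1,4,0,3,4,4,2,2,4,4,4,3,5,1,5,0,4,1,4,0,5,1,5,0,4,1,4,0,5,1,5,0,4,1,4,0,0,0,0,0,4,1,4,4,0,5,1,5,0,4,1,4,0,0,2,0,2,0,3,3,6,4,2,5,1,3,1,3] 4 16 21 false [.lett 5, .lett 2, .lett 0, .lett 3, .lett 3, .stab 20 false, .stab 18 false, .stab 20 false, .stab 20 false, .stab 18 false, .edge 52 [7,5,0,1,1], .lett 5, .lett 1, .lett 5, .lett 0, .lett 4, .lett 1, .lett 4, .lett 0, .stab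 18 false, .edge 175 [0,1,5,0,5,0,7], .lett 4, .lett 2, .lett 2, .lett 5, .lett 1, .lett 3] [] []⟩,
   ⟨1, 2, 45, 1, [], [], [4,4,4,1,4,4,4,4,0,3,4,4,4,4,2,2,4,4,3,5,1,5,0,4,1,4,0,5,1,5,0,4,1,4,0,5,1,5,0,4,1,4,0,5,1,5,0,4,1,4,0,0,0,0,0,0,4,2,4,4,4,3,3,6], .defEdge⟩,
   ⟨2, 45, 2, 0, [4,1,4,4,4,0,3,4,4,4,4,2,2,4,4,4,4,3,0,0,0,0,0,2,0,3,0,4,4,4,1,4,4,4,0,3,4,4,4,2,2,4,4,4,0,3,0,3,6,5,3,1,3,3,4], [4,1,4,4,0,3,4,2,5,1,5,0,4,1,4,0,5,1,5,0,4,1,4,0,5,1,5,0,4,1,4,0,0,0,0,2,0,3,4,4,4,2,4,2,0,3,3,0,6,4,3,1,5,2,4,3], [], .loop 3 [4,4,4,3,4,4,2,2,4,4,3,5,1,5,0,4,1,4,0,0,0,0,0,0,0,2,0,3,4,4,1,4,4,0,2,4,3,0,2,2,0,3,3,0,2,6,4,2,2,0,4,6] 134 96 93 false [.lett 7, .lett 5, .stab 35 false, .stab 37 false, .stab 36 false, .stab 36 false, .stab 37 false, .stab 36 false, .stab 35 false, .stab 36 false, .edge 57 [2,7,6,4,5,7,3,0], .stab 36 false,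 .stab 37 false, .stab 37 false, .stab 37 false, .stab 36 false, .stab 37 false, .stab 36 false, .stab 34 false, .edge 91 [1,5,7,3,6,0,5,7], .coin 92, .lett 4, .lett 6, .lett 2, .lett 1, .lett 4, .lett 0, .lett 4, .lett 0, .lett 3, .lett 0, .lett 2, .lett 2, .lett 0, .lett 5, .lett 0, .lett 2, .lett 1, .lett 6, .lett 4, .lett 0, .lett 5, .lett 3, .lett 5, .lett 1, .lett 6, .stab 36 false, .stab 37 false, .stab 35 false, .stab 37 false, .stab 36 false, .stab 35 false, .stab 34 false, .edge 107 [4,7,1,2,6,5,7,6], .coin 109, .lett 2, .lett 0, .lett 3, .lett 1, .lett 3, .lett 3, .lett 1, .lett 3, .lett 4, .lett 2, .lett 2, .lett 4, .lett 2, .lett 6, .lett 4, .lett 3, .lett 3, .lett 6, .lett 4, .lett 2, .lett 4, .stab 20 false, .stab 17 false, .stab 20 false, .stab 18 false, .stab 20 false, .stab 20 false, .edge 24 [5,7,6,1,4,5,5,5,7],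 .lett 6, .lett 2, .lett 5, .lett 0, .lett 5, .lett 1, .lett 5, .lett 7, .lett 4, .lett 4, .lett 0, .lett 3, .lett 4, .lett 3, .lett 5, .lett 0, .lett 2, .lett 2, .lett 1, .stab 20 false, .stab 20 false, .stab 17 false, .stab 17 false, .edge 177 [0,6,4,7,2,5,5,5,6], .lett 5, .lett 3, .lett 5, .lett 7, .lett 2, .lett 2, .lett 5, .lett 7, .lett 3, .lett 5, .lett 3, .lett 3, .lett 5, .lett 2, .lett 0, .lett 2, .lett 2, .lett 0, .lett 2, .lett 1, .lett 3] [.lett 2, .lett 1, .lett 4, .lett 0, .lett 4, .stab 36 false, .stab 35 false, .stab 37 false, .stab 36 false, .stab 35 false, .stab 36 false, .edge 167 [5,2,5,5,5,7,6,2,5], .coin 168] []⟩,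
   ⟨1, 4, 46, 1, [], [], [3], .defEdge⟩,
   ⟨2, 46, 2, 0, [0,0,0,0,0], [0,2,0,3,0,2,2,0,3,3,3], [], .loop 4 [4,1,4,4,4,4,0,3,4,4,4,2,2,4,4,3,5,1,5,0,4,1,4,0,5,1,5,0,4,1,4,0,5,1,5,0,4,1,4,0,0,0,0,0,0,0,4,4,4,4,1,4,4,0,2,4,0,2,6,4,2,6,5,1] 123 30 43 false [.lett 3, .lett 3, .lett 1, .lett 2, .lett 2, .lett 7, .lett 3, .lett 5, .lett 5, .stab 46 false, .stab 50 false, .stab 50 false, .stab 46 false, .stab 46 false, .stab 45 false, .stab 45 false, .edge 64 [5,7,0,6,2,5,0], .lett 0, .lett 5, .lett 4, .lett 6, .lett 6, .lett 0, .lett 6, .lett 2, .lett 1, .stab 20 false, .stab 17 false, .stab 20 false, .stab 20 false, .stab 17 false, .stab 20 false, .stab 17 false, .stab 18 false, .edge 65 [2,6,2,2,0], .stab 46 false, .stab 50 false, .stab 50 false, .stab 46 false, .stab 45 false, .stab 46 false, .stab 45 false, .edge 86 [7,2,1,7,0,6],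 .coin 87, .lett 0, .lett 3, .lett 7, .lett 1, .lett 7, .lett 7, .lett 5, .lett 4, .lett 1, .stab 20 false, .stab 18 false, .stab 17 false, .stab 20 false, .stab 20 false, .stab 18 false, .stab 17 false, .stab 20 false, .edge 102 [1,2,5,7,6,3,5], .coin 104, .lett 4, .lett 4, .lett 2, .lett 6, .lett 1, .lett 1, .stab 45 false, .stab 45 false, .stab 46 false, .stab 50 false, .stab 50 false, .edge 179 [4,6,7,1,5,5,6,3], .lett 3, .lett 3, .lett 1, .lett 2, .lett 2] [.stab 44 false, .stab 50 false, .stab 45 false, .stab 44 false, .stab 50 false, .edge 48 [1,5,5,0,2], .lett 3, .lett 3, .lett 0, .lett 2, .lett 2, .stab 17 false, .stab 18 false, .edge 22 [0,6,0,5,5,7,0,5,5]] []⟩,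
   ⟨1, 4, 47, 1, [], [], [1,4,0,2,4,4,4,3,5,1,5,0,4,1,4,0,0,0,0,3,4,4,2,2,4,4,3,0,2,0,3,6], .defEdge⟩,
   ⟨2, 47, 4, 0, [4,4,4,4,1,4,0,3,4,4,2,2,4,4,4,3,5,1,5,0,4,1,4,0,5,1,5,0,4,1,4,0,5,1,5,0,4,1,4,0,0,0,0,5,0,4,1,4,0,0,0,0,0,2,2,0,3,6,4,1,3,5,2,2], [4,4,4,1,4,4,4,0,3,4,4,4,2,2,4,4,4,4,3,5,1,5,0,4,1,4,0,5,1,5,0,4,1,4,0,5,1,5,0,4,1,4,0,0,2,0,3,0,3,4,2,2,4,4,2,0,3,3,0,6,4,2,2,5,3,5,1], [], .loop 4 [4,4,4,1,4,4,4,0,3,4,4,4,2,2,4,4,4,4,3,5,1,5,0,4,1,4,0,5,1,5,0,4,1,4,0,5,1,5,0,4,1,4,0,0,2,0,3,0,3,4,2,2,4,4,3,0,0,0,6,5,2,0,2,5,1,3] 79 9 20 false [.lett 3, .lett 3, .lett 1, .lett 2, .lett 2, .stab 50 false, .stab 46 false, .stab 50 false, .stab 50 false, .stab 50 false, .stab 46 false, .stab 44 false, .edge 85 [0,3,2,6,7,6,5], .lett 3, .lett 3, .lett 1, .lett 2, .lett 2, .lett 1, .lett 1, .stab 35 false, .stab 36 false, .stab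 35 false, .stab 37 false, .stab 37 false, .stab 35 false, .edge 77 [5,5,6,0,1,5,5,5,6], .lett 3, .lett 3, .lett 1, .lett 2, .lett 2, .stab 46 false, .stab 50 false, .stab 45 false, .stab 44 false, .edge 181 [1,1,6,1,0,7,5,7]] [] []⟩,
   ⟨1, 2, 48, 0, [], [], [4,4,4,4,1,4,0,3,4,4,2,2,4,4,4,3,5,1,5,0,4,1,4,0,5,1,5,0,4,1,4,0,5,1,5,0,4,1,4,0,0,0,0,4,0,3,4,4,2,2,4,4,4,4,6], .defEdge⟩,
   ⟨2, 48, 3, 0, [4,4,4,1,4,4,4,4,0,3,4,2,2,4,4,4,3,5,1,5,0,4,1,4,0,5,1,5,0,4,1,4,0,2,2,0,3,3,0,2,2,0,3,0,3,4,4,4,4,3,4,4,4,2,0,2,2,0,3,0,3,0,6,4,3,5,2,7,5], [1,4,4,0,2,4,4,3,5,1,5,0,4,1,4,0,0,0,0,0,2,0,3,0,4,3,4,2,0,0,0,0,0,0,6,5,1,3,4,0,4,4], [], .loop 1 [4,1,4,4,0,3,4,4,4,2,2,4,3,5,1,5,0,4,1,4,0,0,2,4,3,0,0,0,0,2,0,2,0,3,0,3,6,4,0,4,2,4,1,2] 125 26 42 false [.lett 0, .stab 11 false, .stab 10 false, .stab 11 false, .stab 10 false, .stab 15 false,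 .stab 11 false, .stab 11 false, .stab 11 false, .stab 10 false, .stab 15 false, .stab 11 false, .edge 19 [0,6,7,6,3,6,3,5,6], .lett 2, .lett 1, .lett 3, .lett 1, .lett 2, .lett 1, .lett 4, .lett 0, .lett 2, .lett 4, .lett 3, .lett 6, .lett 4, .lett 3, .lett 0, .lett 4, .lett 2, .lett 7, .lett 0, .stab 18 false, .stab 17 false, .stab 20 false, .stab 18 false, .stab 20 false, .edge 135 [5,7,5,6,2,5,7,2], .coin 136, .lett 6, .lett 4, .lett 3, .lett 0, .lett 4, .lett 0, .lett 6, .lett 4, .lett 3, .lett 2, .lett 7, .lett 2, .lett 0, .stab 36 false, .stab 36 false, .stab 36 false, .stab 37 false, .stab 36 false, .stab 37 false, .stab 34 false, .edge 79 [3,5,5,6,3,7,2,5,5], .stab 17 false, .stab 20 false, .stab 18 false, .edge 183 [7,5,0,6,5,3,6,7], .lett 1, .lett 3, .lett 6, .lett 3, .lett 2] [.lett 5, .lett 7, .lett 0, .lett 5,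 .lett 3, .lett 0, .lett 5, .lett 7, .lett 1, .lett 5, .lett 0, .lett 4, .lett 3, .lett 3, .lett 5, .lett 3, .lett 1, .lett 3, .lett 3, .stab 10 false, .stab 15 false, .stab 15 false, .stab 11 false, .stab 11 false, .stab 11 false, .stab 15 false, .edge 33 [2,0,7,6,2,3,5]] []⟩,
   ⟨1, 1, 49, 1, [], [], [6,4,3,0,4,6], .defEdge⟩,
   ⟨2, 49, 1, 0, [4,4,4,1,4,4,4,4,0,3,4,2,2,4,4,4,3,5,1,5,0,4,1,4,0,5,1,5,0,4,1,4,0,2,2,0,3,3,0,2,2,0,3,0,3,4,4,4,1,5,0,4,1,4,0,0,2,2,0,3,0,3,0,6,4,2,0,3,6,4,6], [4,4,4,1,4,4,0,3,4,4,4,4,2,2,4,3,5,1,5,0,4,1,4,0,5,1,5,0,4,1,4,0,0,4,4,4,0,3,4,2,2,4,4,3,6,4,3,0,4,2,0,6], [], .loop 0 [4,4,4,4,1,4,4,4,0,2,4,4,4,4,3,5,1,5,0,4,1,4,0,5,1,5,0,4,1,4,0,5,1,5,0,4,1,4,0,0,0,0,2,0,3,4,0,3,4,4,2,0,2,6,4,0,3,6,4] 80 0 41 false [.stab 1 false, .stab 2 false, .stab 2 false, .stab 3 false, .stab 1 false, .stab 2 false,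 .stab 2 false, .stab 3 false, .edge 12 [7,2,3,6,3,5], .lett 2, .lett 2, .lett 0, .lett 2, .lett 4, .lett 2, .lett 2, .lett 5, .lett 1, .lett 4, .lett 0, .lett 6, .lett 4, .lett 1, .lett 2, .lett 4, .lett 1, .lett 6, .lett 4, .lett 0, .stab 11 false, .stab 10 false, .stab 15 false, .edge 185 [6,2,5,7,6,5,3,7], .lett 2, .lett 1, .lett 3, .lett 1, .lett 2, .lett 1, .lett 4, .lett 0, .lett 2, .lett 4, .lett 3, .lett 6, .lett 4, .lett 3, .lett 0, .lett 4, .lett 2, .lett 7, .lett 0] [.lett 5, .lett 7, .lett 1, .lett 5, .lett 1, .lett 2, .lett 5, .lett 7, .stab 3 false, .stab 1 false, .stab 2 false, .stab 2 false, .stab 2 false, .stab 3 false, .stab 2 false, .stab 1 false, .stab 2 false, .stab 3 false, .edge 9 [1,5,0,5,6,0,7,5,6]] []⟩,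
   ⟨1, 3, 50, 1, [], [], [3], .defEdge⟩,
   ⟨2, 50, 3, 0, [4,4,4,4,1,4,4,4,4,0,3,4,4,2,2,4,0,3,4,4,0,3,4,2,0,0,0,0,2,2,0,3,3], [4,1,4,4,4,0,3,4,4,4,4,2,2,4,4,4,4,3,0,0,0,0,0,2,0,3,0,4,3,4,2,2,4,4,4,3,0,0,2,0,2,0,3,3,0,3], [], .loop 1 [4,1,4,4,4,0,3,4,4,4,4,2,2,4,4,4,4,3,0,0,0,0,0,2,0,3,0,4,2,4,4,4,0,2,0,3,0,3,3,6,4,0,7,4,3,1] 123 16 13 false [.lett 1, .stab 15 false, .stab 11 false, .stab 11 false, .stab 11 false, .stab 15 false, .stab 15 false, .stab 10 false, .stab 10 false, .stab 10 false, .edge 38 [1,7,5,0,7,3,6,0], .lett 3, .lett 3, .lett 1, .lett 2, .lett 2, .edge 187 [4,5,6,5,7,6,3,3], .lett 3, .lett 3, .lett 1, .lett 2, .lett 2] [.lett 0, .lett 7, .lett 3, .lett 5, .lett 5, .stab 10 false, .stab 11 false, .stab 15 false, .stab 15 false, .stab 10 false, .stab 15 false, .stab 11 false, .stab 10 false, .stab 15 false,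 .edge 89 [0,6,0,5,6,7,1,6], .coin 90, .lett 0, .lett 5, .lett 4, .lett 6, .lett 6, .lett 0, .lett 6, .lett 2, .lett 1, .stab 44 false, .stab 45 false, .stab 50 false, .edge 63 [6,0,7,6,2,1], .stab 20 false, .stab 20 false, .stab 20 false, .stab 20 false, .stab 18 false, .stab 18 false, .stab 17 false, .edge 103 [1,7,2,1,5,6,3], .coin 104, .lett 0, .lett 3, .lett 7, .lett 1, .lett 7, .lett 7, .lett 5, .lett 4, .lett 1, .stab 50 false, .stab 45 false, .stab 45 false, .stab 44 false, .edge 47 [7,6,3,5,5,0,7,6], .lett 4, .lett 4, .lett 2, .lett 6, .lett 3, .lett 3, .lett 0, .lett 2, .lett 2, .stab 11 false, .stab 15 false, .stab 15 false, .stab 11 false, .stab 15 false, .stab 15 false, .stab 10 false, .stab 11 false, .edge 33 [6,2,0,5,7,2,6]] []⟩,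
   ⟨1, 2, 51, 1, [], [], [3], .defEdge⟩,
   ⟨2, 51, 2, 0, [4,4,4,4,3,4,4,2,5,1,5,0,4,1,4,0,5,1,5,0,4,1,4,0,2,2,0,3,3,0,2,2,0,3,3,4,4,1,4,4,0,3,4,4,4,4,2,2,4,4,4,2,0,3,3,6,4,2,4,1,3,4,6], [4,4,4,1,4,4,0,3,4,4,4,4,2,2,4,3,5,1,5,0,4,1,4,0,5,1,5,0,4,1,4,0,0,0,3,4,2,2,4,4,4,4,2,0,3,3,0,2,0,3,0,3,6,5,0,4,2,0,2], [], .loop 4 [1,4,0,2,4,4,4,3,5,1,5,0,4,1,4,0,0,0,0,4,4,4,4,1,4,0,2,2,0,3,0,3,0,6,4,0,5,3,0,2,0] 66 24 26 false [.lett 1, .lett 4, .lett 2, .stab 50 false, .stab 50 false, .stab 44 false, .stab 50 false, .stab 44 false, .edge 63 [4,5,3,6,0,7], .lett 7, .lett 3, .stab 18 false, .stab 17 false, .stab 20 false, .stab 20 false, .stab 20 false, .edge 189 [5,3,6,1,7,6,5,7], .lett 5, .lett 1, .lett 4, .lett 2, .lett 5, .lett 7, .lett 4, .lett 1, .lett 4, .lett 0, .lett 4, .lett 3, .lett 1, .lett 3, .lett 1, .lett 2, .lett 5, .lett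 5, .lett 0] [.lett 3, .lett 3, .lett 4, .lett 7, .lett 4, .lett 0, .lett 5, .lett 1, .lett 4, .lett 3, .lett 3, .lett 0, .lett 2, .lett 0, .lett 3, .lett 3, .stab 45 false, .stab 46 false, .stab 44 false, .stab 50 false, .stab 46 false, .edge 105 [5,7,3,6,1,5,5,5,7], .coin 106, .lett 7, .lett 3, .stab 36 false, .stab 36 false, .stab 36 false, .stab 36 false, .stab 37 false, .stab 35 false, .stab 36 false, .stab 36 false, .stab 34 false, .edge 97 [1,2,5,7,2,7,5], .coin 98, .lett 5, .lett 5, .lett 0, .stab 18 false, .stab 20 false, .stab 17 false, .stab 20 false, .stab 20 false, .stab 17 false, .edge 135 [0,6,1,2,7,6], .coin 136, .stab 36 false, .stab 35 false, .stab 37 false, .stab 35 false, .stab 36 false, .stab 36 false, .stab 37 false, .stab 34 false, .edge 53 [7,0,0,3,5,7]] []⟩,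
   ⟨1, 4, 52, 0, [], [], [0,0,0,0,6], .defEdge⟩]

/-- facts -/
def cf12 : List Fact :=
  [⟨1, 52, 53, 0, [], [], [4,4,4,4,0,0,0,0,3,6], .defEdge⟩,
   ⟨1, 52, 54, 0, [], [], [3,4,4,4,4,2,0,0,0,0,3,6], .defEdge⟩,
   ⟨2, 52, 3, 0, [4,3,4,4,4,2,2,4,4,4,3,0,0,2,0,3,0,4,3,4,2,0,0,0,0,0,2,0,3,6,4,2,6,5,1,3,4], [1,4,4,0,2,4,4,3,5,1,5,0,4,1,4,0,0,0,0,0,2,0,3,0,4,4,4,1,4,0,2,2,0,3,3,0,2,0,3,6,4,1,4,4,6,5,2], [], .loop 4 [4,4,4,1,4,4,4,4,0,3,4,4,4,4,2,2,4,4,3,5,1,5,0,4,1,4,0,5,1,5,0,4,1,4,0,5,1,5,0,4,1,4,0,5,1,5,0,4,1,4,0,0,0,0,0,0,4,3,4,2,0,0,2,2,0,3,3,0,2,0,3,3,6,4,3,5,5,7,5] 64 91 38 false [.lett 5, .lett 1, .lett 5, .lett 0, .lett 3, .lett 7, .lett 5, .stab 50 false, .stab 50 false, .stab 50 false, .stab 44 false, .stab 45 false, .stab 50 false, .stab 46 false, .edge 105 [0,5,5,6,4,7,3,7,6], .coin 106, .stab 36 false, .stab 37 false,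 .stab 35 false, .stab 37 false, .stab 37 false, .edge 82 [2,6,7,1,5,2,6,5], .lett 4, .lett 6, .lett 2, .lett 1, .lett 4, .lett 0, .lett 4, .stab 46 false, .stab 45 false, .stab 44 false, .stab 50 false, .stab 44 false, .stab 50 false, .edge 191 [7,3,6,7,1,5,5], .lett 2, .lett 0, .lett 3, .lett 1, .lett 3, .lett 3, .lett 1, .lett 3, .lett 4, .lett 2, .lett 2, .lett 4, .lett 2, .lett 6, .lett 4, .lett 3, .lett 3, .lett 6, .lett 4, .lett 2, .lett 4] [.lett 0, .lett 3, .lett 0, .lett 2, .lett 2, .lett 0, .lett 5, .lett 0, .lett 2, .lett 1, .lett 6, .lett 4, .lett 0, .lett 5, .lett 3, .lett 5, .lett 1, .lett 6, .stab 44 false, .stab 45 false, .stab 50 false, .stab 50 false, .stab 44 false, .stab 50 false, .stab 44 false, .edge 101 [5,5,5,2,0,5,5,5,6], .coin 104, .lett 2, .lett 0, .lett 3, .lett 1, .lett 3, .lett 3, .lett 1, .lett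 3, .lett 4, .lett 2, .lett 2, .lett 4, .lett 2, .lett 6, .lett 4, .lett 3, .lett 3, .lett 6, .lett 4, .lett 2, .lett 4, .stab 45 false, .stab 44 false, .stab 50 false, .stab 50 false, .stab 44 false, .stab 50 false, .stab 44 false, .edge 81 [1,7,6,5,7,3,7,2,7], .coin 83, .lett 6, .lett 2, .lett 5, .lett 0, .lett 5, .lett 1, .lett 5, .lett 7, .lett 4, .lett 4, .lett 0, .lett 3, .lett 4, .lett 3, .lett 5, .lett 0, .lett 2, .lett 2, .lett 1, .stab 20 false, .stab 20 false, .stab 17 false, .stab 17 false, .stab 20 false, .stab 20 false, .stab 17 false, .stab 17 false, .edge 125 [2,5,5,3,7,6,2,5], .coin 127] []⟩,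
   ⟨2, 54, 4, 0, [4,4,4,4,3,4,2,2,4,4,3,5,1,5,0,4,1,4,0,5,1,5,0,4,1,4,0,5,1,5,0,4,1,4,0,0,2,0,3,4,4,1,4,4,0,2,4,3,0,0,2,2,0,3,0,6,5,2,5,3,4,4], [4,4,4,1,4,4,4,4,0,3,4,2,2,4,4,4,3,5,1,5,0,4,1,4,0,5,1,5,0,4,1,4,0,2,2,0,3,3,0,2,2,0,3,0,3,4,4,4,4,1,4,0,3,4,4,2,0,0,6,4,0,3,0,4,2,6], [], .loop 52 [3,4,4,4,4,2,0,0,0,0,3,6] 140 0 1 true [.coin 194, .stab 36 false, .stab 36 false, .stab 37 false, .stab 35 false, .stab 36 false, .stab 35 false, .edge 143 [1,7,0,5,0,6,7,6], .coin 144] [.edge 193 []] []⟩,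
   ⟨2, 53, 2, 0, [1,4,4,4,0,2,4,4,4,4,3,0,0,2,2,0,3,3,3,6,4,3,0,4,2,2,6], [1,4,0,3,4,2,2,4,3,0,0,0,0,0,2,0,3,1,4,4,0,0,2,0,2,0,3,3,0,2,0,3,3,6,4,1,2,4,2,6], [], .loop 52 [4,4,4,4,0,0,0,0,3,6] 140 0 1 true [.coin 194, .stab 37 false, .stab 36 false, .stab 36 false, .edge 53 [5,6,7,1,0,7,6]] [.edge 192 []] []⟩,
   ⟨1, 4, 55, 1, [], [], [], .defEdge⟩,
   ⟨2, 55, 1, 0, [4,1,5,0,4,1,4,0], [4,4,4,4,1,4,0,3,4,4,2,2,4,4,4,3,5,1,5,0,4,1,4,0,5,1,5,0,4,1,4,0,5,1,5,0,4,1,4,0,0,0,0,0,4,4,4,1,4,0,2,4,3,6], [], .loop 1 [1,4,0,2,4,4,4,3,5,1,5,0,4,1,4,0,0,0,4,0,2,4,4,3,0,0,0,2,2,0,3,0,6,4,3,3,5,5,0] 81 43 46 false [.stab 15 false, .stab 15 false, .stab 11 false, .stab 10 false, .stab 10 false, .stab 10 false, .stab 10 false, .stab 15 false, .stab 15 false, .edge 16 [5,5,6,3,5,5,2,5], .lett 6, .stab 18 false, .stab 20 false, .stab 17 false,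 .stab 20 false, .stab 20 false, .stab 17 false, .stab 17 false, .edge 117 [0,2,6,3,5,5], .coin 118, .lett 5, .lett 3, .lett 5, .lett 7, .lett 2, .lett 2, .lett 5, .lett 7, .lett 2, .lett 5, .lett 3, .lett 5, .lett 1, .lett 4, .lett 3, .lett 3, .lett 0, .lett 3, .lett 3, .lett 0, .lett 3, .lett 1, .stab 17 false, .stab 20 false, .stab 17 false, .stab 20 false, .stab 18 false, .stab 20 false, .stab 17 false, .stab 17 false, .edge 65 [5,5,5,6,7,3,6,5], .lett 7, .stab 44 false, .stab 46 false, .stab 50 false, .stab 44 false, .stab 50 false, .edge 197 [2,5,3,7,3,5,5], .lett 2, .lett 1, .lett 2, .lett 2, .lett 1, .lett 2, .lett 4, .lett 2, .lett 0, .lett 3, .lett 6, .lett 4, .lett 2, .lett 0, .lett 3, .lett 6, .lett 4, .lett 0] [] []⟩,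
   ⟨1, 2, 56, 0, [], [], [], .defEdge⟩,
   ⟨2, 56, 1, 0, [4,4,4,3,4,4,2,2,4,4,3,5,1,5,0,4,1,4,0,0,0,0,0,0,0,2,0,3,3,4,4,4,2,2,4,4,4,4,3,0,2,0,3,0,2,2,0,3,3,0], [4,4,4,1,4,4,0,3,4,4,4,4,2,2,4,3,5,1,5,0,4,1,4,0,5,1,5,0,4,1,4,0,0,0,4,4,1,4,4,4,0,0,2,2,0,3,0,3,0,3,6], [], .loop 1 [4,4,4,1,4,4,0,3,4,4,4,4,2,2,4,3,5,1,5,0,4,1,4,0,5,1,5,0,4,1,4,0,0,0,4,4,1,4,4,4,0,0,0,2,0,2,0,3,3,0,2,0,2,6,4,3,4,1,3,4] 70 5 13 false [.lett 3, .lett 0, .lett 5, .lett 2, .lett 0, .stab 15 false, .stab 10 false, .stab 11 false, .stab 11 false, .stab 15 false, .stab 15 false, .stab 11 false, .stab 15 false, .edge 19 [6,7,6,5,3,7,0], .lett 5, .edge 199 [4,7,3,6,3,3,5], .lett 1, .lett 3, .lett 1, .lett 2, .lett 5] [] []⟩,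
   ⟨1, 2, 57, 1, [], [], [], .defEdge⟩,
   ⟨2, 57, 1, 0, [4,3,4,4,4,2,2,4,4,4,3,0,0,2,0,3,4,0,3,4,2,2,4,4,4,3,0,2,2,0,3,0,3], [1,4,4,0,2,4,4,3,5,1,5,0,4,1,4,0,0,0,0,0,2,0,3,0,4,3,4,4,4,2,2,4,4,3,0,2,2,0,3,0,3,3,6], [], .loop 1 [1,4,4,0,2,4,4,3,5,1,5,0,4,1,4,0,0,0,0,0,2,0,3,0,4,4,4,4,1,4,4,0,0,0,0,2,2,0,3,3,6,4,0,4,0,5,6] 80 18 50 false [.lett 6, .lett 4, .lett 0, .stab 15 false, .stab 10 false, .stab 15 false, .stab 15 false, .stab 10 false, .stab 11 false, .stab 15 false, .edge 89 [0,5,6,7,2,2,2,6], .coin 90, .lett 2, .lett 1, .lett 3, .lett 1, .lett 2, .lett 1, .lett 4, .lett 0, .lett 2, .lett 4, .lett 3, .lett 6, .lett 4, .lett 3, .lett 0, .lett 4, .lett 2, .lett 7, .lett 0, .stab 46 false, .stab 50 false, .stab 44 false, .stab 50 false, .stab 44 false, .stab 45 false, .edge 63 [1,1,3,0,3,6], .lett 6, .lett 4, .lett 3,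 .lett 0, .lett 4, .lett 0, .lett 6, .lett 4, .stab 20 false, .stab 20 false, .edge 201 [1,5,3,2,6,5,7,1], .lett 2, .lett 2, .lett 0, .lett 2, .lett 4, .lett 2, .lett 2, .lett 5, .lett 1, .lett 4, .lett 0, .lett 6, .lett 4, .lett 1, .lett 2, .lett 4, .lett 1] [] []⟩,
   ⟨1, 2, 58, 1, [], [], [2], .defEdge⟩,
   ⟨2, 58, 4, 0, [0,2,0,3], [2,0,2,0,3,3,0,2,0,3,0,2], [], .loop 1 [4,1,4,4,4,0,3,4,4,4,4,2,2,4,4,4,4,3,0,0,0,0,0,2,0,3,4,4,4,0,2,4,4,2,0,3,3,0,6,4,1,4,4,2,5,6] 123 17 12 false [.stab 10 false, .stab 10 false, .stab 10 false, .stab 15 false, .stab 15 false, .stab 10 false, .stab 11 false, .stab 15 false, .stab 10 false, .stab 11 false, .stab 11 false, .edge 19 [3,5,6,7,6,1], .lett 3, .lett 3, .lett 1, .lett 2, .lett 2, .edge 203 [1,1,1,2,6,2], .lett 3, .lett 3, .lett 1, .lett 2, .lett 2] [.lett 0, .lett 0, .lett 7, .lett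 3, .lett 5, .lett 5, .stab 11 false, .stab 15 false, .stab 10 false, .stab 10 false, .stab 10 false, .stab 15 false, .stab 15 false, .edge 89 [0,1,7,6,5,2,7,6,5], .coin 90, .lett 0, .lett 5, .lett 4, .lett 6, .lett 6, .lett 0, .lett 6, .lett 2, .lett 1, .stab 50 false, .stab 44 false, .stab 50 false, .stab 50 false, .stab 44 false, .stab 45 false, .edge 85 [1,3,6,5,7,2,7,5], .stab 36 false, .stab 37 false, .stab 36 false, .stab 37 false, .stab 36 false, .edge 165 [4,5,6,7,6,1,1,6], .coin 166, .lett 0, .lett 3, .lett 7, .lett 1, .lett 7, .lett 7, .lett 5, .lett 4, .lett 1, .stab 45 false, .stab 45 false, .edge 47 [6,7,5,2,6,7,6,2], .lett 4, .lett 4, .lett 2, .lett 6, .lett 3, .lett 3, .lett 0, .lett 2, .lett 2, .stab 15 false, .stab 15 false, .stab 11 false, .stab 15 false, .stab 10 false, .stab 10 false, .stab 15 false, .stab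 15 false, .edge 43 [0,7,3,5,7,6,5]] []⟩,
   ⟨1, 3, 59, 0, [], [], [], .defEdge⟩,
   ⟨2, 59, 1, 0, [1,4,4,4,4,0,3,4,4,4,4,2,2,4,4,4,3,5,1,5,0,4,1,4,0,0,0,0,0,2,0,3,4,1,4,0,3,4,2,2,4,3,0,2,2,0,3,0,3,0], [1,4,0,3,4,2,2,4,3,0,0,0,0,0,2,0,3,4,4,4,0,2,2,0,3,0,3,6,4,4,6], [], .loop 1 [4,4,4,4,3,4,4,2,5,1,5,0,4,1,4,0,5,1,5,0,4,1,4,0,2,2,0,3,3,0,2,2,0,3,3,3,4,4,2,2,4,3,0,0,0,0,2,2,0,3,6,4,7,4,2,1] 69 29 73 false [.lett 1, .lett 5, .lett 6, .lett 5, .lett 2, .lett 2, .lett 1, .lett 4, .lett 2, .stab 11 false, .stab 15 false, .stab 11 false, .stab 15 false, .stab 11 false, .stab 10 false, .stab 15 false, .stab 15 false, .edge 89 [2,5,0,7,5,3,5,6], .coin 90, .lett 7, .lett 3, .stab 46 false, .stab 45 false, .stab 50 false, .stab 50 false, .stab 50 false, .stab 45 false, .stab 45 false, .edge 63 [7,1,7,5,3,5,7], .lett 5, .lett 1, .lett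 4, .lett 2, .lett 5, .lett 7, .lett 4, .lett 1, .lett 4, .lett 0, .lett 4, .lett 3, .lett 1, .lett 3, .lett 1, .lett 2, .lett 1, .lett 7, .lett 1, .lett 7, .stab 17 false, .stab 18 false, .stab 20 false, .stab 18 false, .stab 20 false, .stab 17 false, .edge 55 [2,5,6,7,0,5,2,5], .lett 5, .lett 2, .lett 4, .lett 0, .lett 4, .lett 0, .lett 5, .lett 5, .lett 4, .stab 36 false, .stab 37 false, .stab 37 false, .stab 37 false, .stab 35 false, .stab 36 false, .edge 57 [2,5,7,0,6,2,5,6,7], .stab 36 false, .stab 37 false, .stab 37 false, .stab 37 false, .stab 36 false, .stab 37 false, .stab 36 false, .stab 34 false, .edge 91 [0,1,5,5,7,6,1,5,6,7], .coin 92, .lett 5, .lett 4, .lett 4, .lett 1, .lett 5, .lett 1, .lett 5, .lett 3, .lett 4, .stab 36 false, .stab 36 false, .stab 36 false, .stab 35 false, .stab 36 false, .stab 37 false,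 .stab 37 false, .stab 34 false, .edge 107 [3,6,3,2,3], .coin 109, .lett 6, .lett 0, .lett 6, .lett 0, .stab 17 false, .stab 18 false, .stab 17 false, .stab 20 false, .stab 18 false, .stab 18 false, .edge 40 [2,5,6,7,0,5,2,5], .lett 2, .lett 6, .stab 36 false, .stab 37 false, .stab 35 false, .stab 37 false, .edge 205 [6,7,0,1,5,6,1], .lett 2, .lett 2, .lett 1, .lett 3, .lett 1, .lett 2, .lett 2, .lett 5, .lett 0, .lett 4] [] []⟩,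
   ⟨1, 3, 60, 1, [], [], [], .defEdge⟩]

/-- facts -/
def cf13 : List Fact :=
  [⟨2, 60, 1, 0, [4,4,4,1,4,4,4,0,3,4,4,4,2,2,4,4,4,4,3,5,1,5,0,4,1,4,0,5,1,5,0,4,1,4,0,5,1,5,0,4,1,4,0,0,2,0,3,0,4,4,4,4,3,4,4,2,2,4,3], [4,4,4,4,1,4,0,3,4,4,2,2,4,4,4,3,5,1,5,0,4,1,4,0,5,1,5,0,4,1,4,0,5,1,5,0,4,1,4,0,0,0,0,0,4,4,3,4,4,2,0,0,0,2,0,3,0,6,4,6], [], .loop 1 [1,4,4,4,4,0,3,4,4,4,4,2,2,4,4,4,3,5,1,5,0,4,1,4,0,0,0,0,0,2,0,3,4,1,4,0,2,4,4,3,0,0,2,2,0,3,3,0,2,0,3,0,3,6,4,4,7,4,2] 124 20 58 false [.lett 4, .lett 1, .lett 6, .lett 4, .lett 0, .stab 11 false, .stab 11 false, .stab 10 false, .stab 15 false, .stab 10 false, .stab 11 false, .stab 10 false, .stab 15 false, .stab 11 false, .edge 19 [2,5,5,5,5,0,5,6,7], .lett 2, .lett 1, .lett 3, .lett 1, .lett 2, .lett 1, .lett 4, .lett 0, .lett 2, .lett 4, .lett 3, .lett 6, .lett 4, .lett 3,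 .lett 0, .lett 4, .lett 2, .lett 7, .lett 0, .stab 17 false, .stab 17 false, .stab 17 false, .stab 20 false, .stab 18 false, .stab 20 false, .edge 135 [0,7,0,6,2,5,2,7], .coin 136, .lett 6, .lett 4, .lett 3, .lett 0, .lett 4, .lett 0, .lett 6, .lett 4, .lett 5, .lett 5, .lett 3, .stab 35 false, .stab 36 false, .stab 36 false, .stab 37 false, .stab 36 false, .stab 35 false, .edge 187 [7,3,5,5,0,7], .coin 188, .stab 35 false, .stab 34 false, .edge 41 [6,0,0,2,0,0], .lett 2, .lett 4, .lett 4, .edge 207 [0,5,7,0,0,6], .lett 2, .lett 2, .lett 0, .lett 2, .lett 4, .lett 2, .lett 2, .lett 5, .lett 1, .lett 4, .lett 0, .lett 6, .lett 4, .lett 1, .lett 2] [] []⟩,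
   ⟨1, 3, 61, 0, [], [], [1,4,4,4,4,0,3,4,4,4,4,2,2,4,4,4,3,5,1,5,0,4,1,4,0,0,0,0,0,2,0,3,4,1,4,0,3,4,2,6,4,6], .defEdge⟩,
   ⟨2, 61, 4, 0, [4,1,4,4,4,4,0,3,4,4,4,2,2,4,4,3,5,1,5,0,4,1,4,0,5,1,5,0,4,1,4,0,5,1,5,0,4,1,4,0,0,0,0,0,0,4,4,0,0,0,0,0,2,2,0,3,0,3,0,6,4,2,6,4,2,6], [4,4,4,1,4,0,3,4,4,4,4,2,5,1,5,0,4,1,4,0,5,1,5,0,4,1,4,0,2,0,2,0,3,3,0,2,2,0,3,3,4,1,4,0,3,4,2,0,2,2,0,3,0,3,3,6,4,0,3,5,7], [], .loop 0 [4,1,4,4,0,3,4,4,4,2,2,4,3,5,1,5,0,4,1,4,0,0,4,2,4,4,4,3,0,2,0,2,0,3,3,0,6,4,2,0,4,0,4,6] 58 24 34 false [.lett 3, .stab 2 false, .stab 1 false, .stab 2 false, .stab 1 false, .stab 2 false, .stab 1 false, .stab 1 false, .stab 0 false, .stab 2 false, .stab 3 false, .stab 1 false, .stab 1 false, .edge 9 [2,2,6,5,3,5,6], .lett 6, .stab 15 false, .stab 10 false, .stab 11 false, .stab 15 false, .stab 10 false, .stab 11 false,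 .stab 11 false, .stab 15 false, .edge 43 [6,7,5], .lett 0, .lett 2, .lett 1, .lett 2, .lett 2, .lett 1, .lett 2, .lett 2, .lett 5, .lett 0, .lett 4, .lett 2, .lett 4, .lett 3, .lett 6, .lett 4, .lett 3, .lett 3, .lett 6, .lett 4, .lett 2, .lett 4, .lett 4, .lett 0, .lett 7, .stab 45 false, .stab 44 false, .stab 50 false, .stab 50 false, .stab 50 false, .edge 84 [5,6,1,5,5,7,5], .stab 36 false, .stab 37 false, .stab 35 false, .stab 37 false, .edge 209 [2,2,1,6,5,7], .lett 6, .lett 1, .lett 5] [.lett 1, .lett 2, .lett 2, .lett 1, .lett 2, .lett 4, .lett 2, .lett 0, .lett 3, .lett 6, .lett 4, .lett 2, .lett 0, .lett 3, .lett 6, .lett 4, .lett 0, .stab 1 false, .stab 1 false, .stab 0 false, .stab 2 false, .stab 0 false, .stab 0 false, .stab 0 false, .stab 2 false, .stab 3 false, .edge 9 [0,3,6,5,7,5], .lett 6, .stab 15 false,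 .stab 10 false, .stab 15 false, .stab 11 false, .stab 11 false, .stab 11 false, .stab 10 false, .stab 10 false, .stab 15 false, .edge 43 [5,5,7,5]] []⟩,
   ⟨1, 1, 62, 1, [], [], [3], .defEdge⟩,
   ⟨2, 62, 1, 0, [4,3,4,4,4,2,2,4,4,4,3,0,0,2,0,3,0,4,4,4,4,3,4,2,2,2,0,3,3,0,2,2,0,3,3,3,0], [4,1,4,4,4,4,0,3,4,4,4,2,2,4,4,3,5,1,5,0,4,1,4,0,5,1,5,0,4,1,4,0,5,1,5,0,4,1,4,0,0,0,0,0,0,0,4,1,4,4,0,0,0,2,0,2,0,3,0,3,3], [], .loop 0 [1,4,0,2,4,4,4,3,5,1,5,0,4,1,4,0,0,0,0,4,4,4,4,3,4,4,2,2,2,0,3,0,3,0,2,2,0,6,5,1,4,3,0,2] 79 4 18 false [.lett 3, .lett 1, .lett 2, .lett 2, .stab 2 false, .stab 2 false, .stab 0 false, .stab 3 false, .stab 2 false, .stab 1 false, .stab 2 false, .stab 2 false, .stab 3 false, .edge 12 [1,6,2,5,7,1,5], .lett 3, .lett 3, .lett 1, .lett 2, .lett 2, .stab 11 false, .stab 11 false, .edge 211 [2,5,5,5,7,6,2,5,7],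 .lett 3, .lett 3, .lett 1, .lett 2, .lett 2, .lett 1, .lett 1] [.lett 2, .stab 0 false, .stab 1 false, .stab 0 false, .stab 2 false, .stab 2 false, .stab 1 false, .stab 1 false, .stab 1 false, .stab 2 false, .stab 3 false, .stab 1 false, .edge 9 [0,1,6,1,5,7,2,3]] []⟩,
   ⟨1, 1, 63, 0, [], [], [], .defEdge⟩,
   ⟨0, 63, 63, 0, [4,4,4,4,3,4,4,2,5,1,5,0,4,1,4,0,5,1,5,0,4,1,4,0,2,2,0,3,3,0,2,2,0,3,3,4,4,2,4,3,5,1,5,0,4,1,4,0,0,2,2,0,3,3,0], [1,4,0,2,4,4,4,3,5,1,5,0,4,1,4,0,0,0,0,4,1,4,4,4,0,2,4,4,3,0,0,2,2,0,3,3], [], .loop 1 [4,4,4,3,4,4,2,2,4,4,3,5,1,5,0,4,1,4,0,0,0,0,0,0,0,2,0,3,4,4,3,4,2,2,4,4,4,0,2,0,3,3,0] 140 0 1 false [.stab 15 true, .edge 213 []] [.edge 213 [2,7,0,5,2,0]] []⟩,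
   ⟨2, 63, 0, 0, [4,4,4,4,1,4,4,0,3,4,4,4,2,5,1,5,0,4,1,4,0,5,1,5,0,4,1,4,0,5,1,5,0,4,1,4,0,5,1,5,0,4,1,4,0,2,0,3,4,3,4,2,2,4,4,4,2,0,3,3,0,2,2,0,3,6,5,2,5,5,3,4], [4,4,4,1,4,4,4,4,0,3,4,4,4,4,2,2,4,4,3,5,1,5,0,4,1,4,0,5,1,5,0,4,1,4,0,5,1,5,0,4,1,4,0,5,1,5,0,4,1,4,0,0,0,0,0,4,4,0,3,4,2,0,0,0,2,0,3,0,2,2,0,3,0,3,0,2,6,4,2,4,0,6,4,6], [], .loop 0 [4,4,4,4,3,4,2,2,4,4,3,5,1,5,0,4,1,4,0,5,1,5,0,4,1,4,0,5,1,5,0,4,1,4,0,0,2,0,3,4,1,4,4,0,2,4,3,0,2,0,2,0,3,3,0,6,4,2,5,2,2,5] 5 3 6 false [.lett 0, .lett 0, .lett 0, .stab 2 false, .stab 2 false, .stab 3 false, .stab 2 false, .stab 2 false, .stab 0 false, .stab 2 false, .stab 1 false, .stab 2 false, .stab 3 false, .edge 12 [2,2,5,6,7,1,5,7], .lett 0, .edge 213 [5,6,5,2,3,5,0]] [] []⟩,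
   ⟨0, 0, 0, 0, [4,4,4,4,1,4,4,0,3,4,4,4,2,5,1,5,0,4,1,4,0,5,1,5,0,4,1,4,0,5,1,5,0,4,1,4,0,5,1,5,0,4,1,4,0,2,0,3,1,4,4,0,3,4,4,4,2,2,4,4,3,0,2,2,0,3,0,3,6,4,2,5,2,6,5,1], [4,4,4,4,1,4,4,0,3,4,4,4,2,5,1,5,0,4,1,4,0,5,1,5,0,4,1,4,0,5,1,5,0,4,1,4,0,5,1,5,0,4,1,4,0,2,0,3,1,4,4,0,3,4,4,4,2,2,4,4,3,0,2,2,0,3,0,3,6,4,2,5,2,6,5,1], [], .loop 63 [4,4,4,4,3,4,4,2,5,1,5,0,4,1,4,0,5,1,5,0,4,1,4,0,2,2,0,3,3,0,2,2,0,3,3,4,4,2,4,3,5,1,5,0,4,1,4,0,0,2,2,0,3,3,0] 142 0 0 false [.stab 214 true, .coin 215] [.coin 215] []⟩,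
   ⟨0, 0, 0, 0, [4,4,4,4,1,4,4,0,3,4,4,4,2,5,1,5,0,4,1,4,0,5,1,5,0,4,1,4,0,5,1,5,0,4,1,4,0,5,1,5,0,4,1,4,0,2,0,3,4,4,4,4,1,4,4,4,0,0,2,0,2,0,3,0,3,0,6,5,2,5,3,3,0], [4,4,4,4,1,4,4,0,3,4,4,4,2,5,1,5,0,4,1,4,0,5,1,5,0,4,1,4,0,5,1,5,0,4,1,4,0,5,1,5,0,4,1,4,0,2,0,3,4,4,4,4,1,4,4,4,0,0,2,0,2,0,3,0,3,0,6,5,2,5,3,3,0], [], .loop 0 [4,4,4,1,4,0,3,4,4,4,4,2,5,1,5,0,4,1,4,0,5,1,5,0,4,1,4,0,2,0,2,0,3,3,0,2,2,0,3,3,4,3,4,4,4,2,0,0,2,2,0,3,3,0,2,0,3,0,6,5,3,4,1,5,0,4] 132 45 91 false [.lett 6, .lett 2, .lett 5, .lett 0, .lett 5, .lett 1, .lett 5, .lett 7, .lett 4, .lett 4, .lett 0, .lett 3, .lett 4, .lett 3, .lett 5, .lett 0, .lett 2, .lett 2, .lett 1, .stab 3 false, .stab 2 false, .stab 0 false, .stab 1 false, .stab 0 false, .stab 2 false, .stab 3 false, .stab 0 false, .stab 1 false, .stab 1 false, .stab 1 false, .edge 12 [1,0,5,5,5,7],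 .lett 5, .lett 3, .lett 5, .lett 7, .lett 2, .lett 2, .lett 5, .lett 7, .lett 3, .lett 5, .lett 3, .lett 3, .lett 5, .lett 2, .lett 0, .lett 2, .lett 2, .lett 0, .lett 2, .lett 1, .lett 3, .stab 11 false, .stab 11 false, .stab 15 false, .stab 10 false, .stab 15 false, .stab 11 false, .stab 10 false, .stab 15 false, .stab 10 false, .stab 11 false, .edge 38 [5,5,5,6,7,6,5,0], .lett 3, .lett 0, .lett 2, .edge 187 [1,5,7,2,7,5,6,7], .coin 188, .stab 35 false, .stab 34 false, .edge 41 [0,1,3,7,2,5,5], .lett 3, .lett 1, .lett 2, .lett 0, .lett 3, .lett 0, .lett 2, .lett 2, .lett 0, .lett 5, .lett 0, .lett 2, .lett 1, .lett 6, .lett 4, .lett 0, .lett 5, .lett 3, .lett 5, .lett 1, .lett 6, .stab 36 false, .stab 36 false, .edge 205 [0,5,4,7,6,5,7,2], .coin 206, .lett 2, .lett 0, .lett 3, .lett 1, .lett 3, .lett 3, .lett 1, .lett 3,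 .lett 4, .lett 2, .lett 2, .lett 4, .lett 2, .lett 6, .lett 4, .lett 3, .lett 3, .lett 6, .lett 4, .lett 2, .lett 4, .edge 213 [5,7,0,4,5,2,5], .coin 215] [] []⟩,
   ⟨0, 0, 0, 0, [1,4,0,2,4,4,4,3,5,1,5,0,4,1,4,0,0,0,0,4,4,4,3,4,2,5,1,5,0,4,1,4,0,2,0,3,0,6,4,2,5,5,1,7,5], [1,4,0,2,4,4,4,3,5,1,5,0,4,1,4,0,0,0,0,4,4,4,3,4,2,5,1,5,0,4,1,4,0,2,0,3,0,6,4,2,5,5,1,7,5], [], .loop 0 [4,4,4,3,4,4,2,2,4,4,0,6,5,3,4,1,3,3] 58 29 54 false [.lett 2, .lett 1, .lett 2, .lett 2, .lett 1, .lett 2, .lett 2, .lett 5, .lett 0, .lett 4, .lett 2, .lett 4, .lett 3, .lett 6, .lett 4, .lett 3, .lett 3, .lett 6, .lett 4, .lett 2, .lett 4, .lett 4, .lett 0, .lett 7, .stab 2 false, .stab 0 false, .stab 2 false, .stab 1 false, .stab 2 false, .stab 3 false, .stab 1 false, .stab 1 false, .stab 1 false, .stab 2 false, .stab 3 false, .edge 12 [1,5,2,5,7,6,5,0],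 .edge 213 [5,5,4,5,5,7,1,6,5], .coin 215, .lett 6, .lett 1, .lett 5, .stab 2 false, .stab 0 false, .stab 2 false, .stab 3 false, .stab 2 false, .stab 1 false, .stab 2 false, .stab 1 false, .stab 1 false, .stab 2 false, .stab 3 false, .edge 12 [6,4,5,7,3,6,5], .lett 7, .stab 10 false, .stab 10 false, .stab 15 false, .stab 11 false, .stab 11 false, .stab 11 false, .stab 10 false, .stab 15 false, .edge 89 [5,7,6], .coin 90, .lett 1, .lett 5, .lett 7, .lett 2, .lett 1, .lett 3, .lett 5, .lett 7, .lett 2, .lett 1, .lett 3, .lett 5, .lett 3, .lett 0, .lett 3, .lett 3, .lett 0, .lett 3, .stab 44 false, .stab 50 false, .stab 44 false, .edge 47 [0,0,0,5,6,3,2], .lett 6, .edge 213 [1,0,6,0,4], .coin 215, .lett 0] [] []⟩,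
   ⟨0, 0, 0, 0, [4,4,4,1,4,4,4,0,3,4,4,4,2,2,4,4,4,4,3,5,1,5,0,4,1,4,0,5,1,5,0,4,1,4,0,5,1,5,0,4,1,4,0,0,2,0,3,0,4,4,1,4,4,4,0,5,1,5,0,4,1,4,0,0,0,2,0,2,0,3,3,0,2,0,3,0,6,5,1,5,2,2,4], [4,4,4,1,4,4,4,0,3,4,4,4,2,2,4,4,4,4,3,5,1,5,0,4,1,4,0,5,1,5,0,4,1,4,0,5,1,5,0,4,1,4,0,0,2,0,3,0,4,4,1,4,4,4,0,5,1,5,0,4,1,4,0,0,0,2,0,2,0,3,3,0,2,0,3,0,6,5,1,5,2,2,4], [], .loop 0 [4,4,4,4,3,4,2,2,4,4,3,5,1,5,0,4,1,4,0,5,1,5,0,4,1,4,0,5,1,5,0,4,1,4,0,0,2,0,3,4,1,4,4,4,4,0,3,4,2,2,4,4,4,0,2,0,3,0,3,0,6,4,1] 130 54 62 false [.lett 0, .lett 2, .lett 4, .lett 4, .lett 6, .lett 2, .lett 7, .stab 3 false, .stab 3 false, .stab 2 false, .stab 1 false, .stab 1 false, .stab 1 false, .stab 2 false, .stab 0 false, .stab 2 false, .stab 3 false, .edge 12 [7,5,0,6,7,5,3], .edge 213 [5,6,5,3,7,2,5,6,5], .coin 215, .lett 6, .lett 3, .lett 7, .lett 5, .lett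 5, .lett 3, .lett 1, .lett 5, .lett 3, .lett 5, .lett 7, .lett 2, .lett 2, .lett 5, .lett 7, .lett 2, .lett 5, .lett 3, .lett 5, .lett 1, .lett 4, .lett 3, .lett 3, .lett 0, .lett 3, .lett 3, .lett 0, .lett 3, .lett 1, .stab 0 false, .stab 1 false, .stab 2 false, .stab 3 false, .stab 0 false, .stab 1 false, .stab 2 false, .stab 0 false, .stab 2 false, .stab 3 false, .stab 1 false, .edge 12 [6,2,6,2,5], .lett 7, .stab 11 false, .stab 15 false, .stab 10 false, .stab 15 false, .stab 15 false, .stab 15 false, .stab 11 false, .stab 10 false, .stab 15 false, .edge 89 [5,6,7,5,7], .coin 90, .lett 2, .lett 1, .lett 2, .lett 2, .lett 1, .lett 2, .lett 4, .lett 2, .lett 0, .lett 3, .lett 6, .lett 4, .lett 2, .lett 0, .lett 3, .lett 6, .lett 4, .lett 0, .stab 46 false, .stab 50 false, .stab 46 false, .stab 44 false, .edge 47 [5,7,0,5,6,5,7,6],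 .lett 6, .edge 213 [2,5,5,7,2,5,6,7,5,6], .coin 215] [] []⟩,
   ⟨0, 0, 0, 0, [4,4,4,1,4,4,4,4,0,3,4,4,4,4,2,2,4,4,3,5,1,5,0,4,1,4,0,5,1,5,0,4,1,4,0,5,1,5,0,4,1,4,0,5,1,5,0,4,1,4,0,0,0,0,0,0,0,0,2,0,2,0,3,3,0,2,0,6,4,0,4,2,1,2], [4,4,4,1,4,4,4,4,0,3,4,4,4,4,2,2,4,4,3,5,1,5,0,4,1,4,0,5,1,5,0,4,1,4,0,5,1,5,0,4,1,4,0,5,1,5,0,4,1,4,0,0,0,0,0,0,0,0,2,0,2,0,3,3,0,2,0,6,4,0,4,2,1,2], [], .loop 0 [4,1,4,4,4,0,3,4,4,4,4,2,2,4,4,4,4,3,0,0,0,0,0,2,0,3,0,4,4,4,1,4,0,3,4,2,2,4,0,2,0,3,3,0,2,6,4,1,3,5,2,5] 133 58 95 false [.lett 3, .lett 4, .lett 3, .lett 5, .lett 0, .lett 2, .lett 2, .lett 1, .stab 1 false, .stab 2 false, .stab 0 false, .stab 2 false, .stab 1 false, .stab 1 false, .stab 1 false, .stab 0 false, .stab 2 false, .stab 2 false, .stab 3 false, .edge 12 [5,5,6,7,2,5,5,0,7], .lett 5, .lett 3, .lett 5, .lett 7, .lett 2, .lett 2,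 .lett 5, .lett 7, .lett 3, .lett 5, .lett 3, .lett 3, .lett 5, .lett 2, .lett 0, .lett 2, .lett 2, .lett 0, .lett 2, .lett 1, .lett 3, .stab 10 false, .stab 11 false, .stab 15 false, .stab 11 false, .stab 15 false, .stab 10 false, .stab 11 false, .stab 15 false, .edge 38 [1,7,3,3,5,2,0], .lett 3, .lett 6, .lett 7, .lett 6, .lett 0, .stab 36 false, .stab 36 false, .stab 37 false, .stab 36 false, .stab 35 false, .edge 187 [4,7,0,3,5,2,7], .coin 188, .stab 35 false, .stab 34 false, .edge 41 [3,6,7,3,5,7], .lett 1, .lett 7, .lett 6, .lett 7, .lett 2, .lett 0, .lett 3, .lett 0, .lett 2, .lett 2, .lett 0, .lett 5, .lett 0, .lett 2, .lett 1, .lett 6, .lett 4, .lett 0, .lett 5, .lett 3, .lett 5, .lett 1, .lett 6, .stab 36 false, .stab 35 false, .stab 37 false, .edge 205 [5,0,7,6,2,2,6], .coin 206, .lett 2, .lett 0, .lett 3, .lett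 1, .lett 3, .lett 3, .lett 1, .lett 3, .lett 4, .lett 2, .lett 2, .lett 4, .lett 2, .lett 6, .lett 4, .lett 3, .lett 3, .lett 6, .lett 4, .lett 2, .lett 4, .edge 213 [7,0,3,5,3,7,6,5], .coin 215, .lett 6, .lett 2, .lett 5, .lett 0, .lett 5, .lett 1, .lett 5, .lett 7, .lett 4, .lett 4, .lett 0] [] []⟩,
   ⟨0, 0, 0, 0, [4,3,4,4,4,2,2,4,4,4,3,0,0,2,0,3,4,4,0,3,4,4,2,2,4,2,0,3,0,3,0,2,2,6,5,1,5,2], [4,3,4,4,4,2,2,4,4,4,3,0,0,2,0,3,4,4,0,3,4,4,2,2,4,2,0,3,0,3,0,2,2,6,5,1,5,2], [], .loop 0 [1,4,4,0,2,4,4,3,5,1,5,0,4,1,4,0,0,0,0,0,2,0,3,0,4,4,3,4,4,4,2,2,2,0,3,3,0,2,0,3,0,6,4,7,5,3,4,4] 82 43 83 false [.lett 5, .lett 0, .lett 5, .lett 1, .lett 5, .lett 7, .lett 4, .lett 4, .lett 0, .lett 3, .lett 4, .lett 3, .lett 5, .lett 0, .lett 2, .lett 2, .lett 1, .stab 1 false, .stab 0 false, .stab 1 false, .stab 0 false, .stab 1 false, .stab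 2 false, .stab 0 false, .stab 2 false, .stab 3 false, .stab 1 false, .edge 12 [7,2,5,6,2,2,6], .lett 5, .lett 3, .lett 5, .lett 7, .lett 2, .lett 2, .lett 5, .lett 7, .lett 3, .lett 5, .lett 3, .lett 3, .lett 5, .lett 2, .lett 0, .lett 2, .lett 2, .lett 0, .lett 2, .lett 1, .lett 3, .stab 11 false, .stab 11 false, .stab 15 false, .stab 10 false, .stab 11 false, .stab 11 false, .stab 15 false, .edge 38 [0,5,3,7,5,2,5], .lett 0, .lett 3, .lett 0, .lett 2, .lett 2, .lett 0, .lett 5, .lett 0, .lett 2, .lett 1, .lett 6, .lett 4, .lett 0, .lett 5, .lett 3, .lett 5, .lett 1, .lett 6, .stab 37 false, .stab 36 false, .stab 35 false, .stab 36 false, .edge 205 [5,5,3,5,7,6,1,7,5], .coin 206, .lett 2, .lett 0, .lett 3, .lett 1, .lett 3, .lett 3, .lett 1, .lett 3, .lett 4, .lett 2, .lett 2, .lett 4, .lett 2, .lett 6, .lett 4, .lett 3,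 .lett 3, .lett 6, .lett 4, .lett 2, .lett 4, .edge 213 [5,5,6,0,5,6,7,2,7], .coin 215, .lett 6, .lett 2] [] []⟩,
   ⟨0, 0, 0, 0, [4,4,4,4,1,4,4,4,4,0,3,4,4,2,2,4,0,3,0,3,4,4,2,2,4,4,0,2,0,3,3,0,6,4,1,2,2,4,3,6], [4,4,4,4,1,4,4,4,4,0,3,4,4,2,2,4,0,3,0,3,4,4,2,2,4,4,0,2,0,3,3,0,6,4,1,2,2,4,3,6], [], .loop 0 [1,4,4,4,0,3,4,4,2,2,4,4,4,4,3,5,1,5,0,4,1,4,0,5,1,5,0,4,1,4,0,0,2,0,2,0,3,3,0,2,2,0,3,3,4,4,4,0,2,2,0,3,0,3,0,6,4,2,6,4,1,4,4] 66 12 51 false [.lett 1, .lett 2, .lett 2, .lett 5, .lett 0, .lett 4, .lett 1, .lett 5, .lett 6, .lett 5, .lett 2, .lett 2, .lett 1, .lett 4, .lett 2, .stab 3 false, .stab 0 false, .stab 3 false, .stab 2 false, .stab 1 false, .stab 1 false, .stab 2 false, .stab 3 false, .stab 1 false, .stab 1 false, .edge 12 [2,1,6,7,0], .lett 7, .lett 3, .stab 11 false, .stab 15 false, .stab 15 false, .stab 15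 false, .stab 10 false, .stab 10 false, .stab 15 false, .stab 15 false, .stab 11 false, .stab 15 false, .stab 11 false, .stab 11 false, .edge 19 [5,5,5,5,7,6], .lett 5, .lett 1, .lett 4, .lett 2, .lett 5, .lett 7, .lett 4, .lett 1, .lett 4, .lett 0, .lett 4, .lett 3, .lett 1, .lett 3, .lett 1, .lett 2, .lett 5, .lett 5, .lett 0, .stab 18 false, .stab 17 false, .stab 20 false, .edge 201 [1,1,1,7,6,5], .coin 202, .stab 15 false, .stab 10 false, .stab 15 false, .stab 15 false, .stab 15 false, .stab 11 false, .stab 11 false, .stab 11 false, .stab 10 false, .stab 15 false, .stab 11 false, .edge 16 [6,5,7,3,5,0,6,5], .lett 1, .lett 4, .lett 4, .edge 199 [5,7,5,6,7], .coin 200, .lett 2, .lett 6, .edge 213 [3,5,5,6,2,1,6,7], .coin 215, .lett 2, .lett 2, .lett 1, .lett 3] [] []⟩,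
   ⟨0, 0, 0, 0, [4,1,4,4,0,3,4,2,5,1,5,0,4,1,4,0,5,1,5,0,4,1,4,0,5,1,5,0,4,1,4,0,0,0,0,2,0,3,4,3,4,2,0,0,0,2,0,3,0,2,2,0,3,0,3,0,2,6,4,0,3,7,5,3,5], [4,1,4,4,0,3,4,2,5,1,5,0,4,1,4,0,5,1,5,0,4,1,4,0,5,1,5,0,4,1,4,0,0,0,0,2,0,3,4,3,4,2,0,0,0,2,0,3,0,2,2,0,3,0,3,0,2,6,4,0,3,7,5,3,5], [], .loop 0 [4,3,4,4,4,2,2,4,4,4,3,0,0,2,0,3,0,4,4,3,4,4,4,2,2,4,4,3,0,2,0,3,0,2,2,0,3,0,3,0,6,5,0,2,1,5,2,2] 135 59 113 false [.lett 0, .lett 5, .lett 1, .lett 5, .lett 7, .lett 4, .lett 4, .lett 0, .lett 3, .lett 4, .lett 3, .lett 5, .lett 0, .lett 2, .lett 2, .lett 1, .stab 3 false, .stab 0 false, .stab 2 false, .stab 0 false, .stab 3 false, .stab 1 false, .stab 2 false, .stab 3 false, .edge 12 [3,5,0,6,4,5,7,5], .lett 5, .lett 3, .lett 5, .lett 7, .lett 2, .lett 2, .lett 5, .lett 7, .lett 3, .lett 5, .lett 3, .lett 3, .lett 5, .lett 2, .lett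 0, .lett 2, .lett 2, .lett 0, .lett 2, .lett 1, .lett 3, .stab 15 false, .stab 15 false, .stab 15 false, .stab 10 false, .stab 15 false, .edge 38 [7,5,0,0], .lett 1, .lett 5, .lett 1, .lett 1, .edge 207 [1,5,5,7,1,4,5,5], .coin 208, .lett 2, .lett 1, .lett 7, .lett 3, .lett 5, .lett 7, .lett 1, .lett 0, .lett 4, .stab 11 false, .stab 15 false, .stab 15 false, .stab 10 false, .stab 10 false, .stab 10 false, .stab 15 false, .stab 10 false, .stab 11 false, .stab 10 false, .stab 15 false, .edge 19 [7,6,1,5,2,5,6], .edge 199 [1,2,3,5,7,5,0], .coin 200, .lett 5, .lett 1, .lett 0, .lett 6, .lett 4, .lett 2, .lett 6, .lett 0, .lett 3, .stab 15 false, .stab 11 false, .stab 10 false, .stab 11 false, .stab 15 false, .stab 11 false, .stab 10 false, .stab 10 false, .edge 33 [7,0,0,2,0,5,6,7], .lett 0, .lett 0, .lett 4, .lett 0, .lett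 0, .lett 3, .lett 0, .lett 2, .lett 2, .lett 0, .lett 5, .lett 0, .lett 2, .lett 1, .lett 6, .lett 4, .lett 0, .lett 5, .lett 3, .lett 5, .lett 1, .lett 6, .stab 35 false, .stab 36 false, .stab 35 false, .stab 36 false, .edge 205 [0,7,5,0,6,7,5,2], .coin 206, .lett 2, .lett 0, .lett 3, .lett 1, .lett 3, .lett 3, .lett 1, .lett 3, .lett 4, .lett 2, .lett 2, .lett 4, .lett 2, .lett 6, .lett 4, .lett 3, .lett 3, .lett 6, .lett 4, .lett 2, .lett 4, .edge 213 [5,5,5,2,1,1,7], .coin 215, .lett 6, .lett 2, .lett 5] [] []⟩]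

/-- facts -/
def cf14 : List Fact :=
  [⟨1, 1, 64, 1, [], [], [], .defEdge⟩,
   ⟨2, 64, 0, 0, [4,1,4,4,0,3,4,4,4,2,2,4,3,5,1,5,0,4,1,4,0,0,4,4,4,1,4,4,4,0,3,4,4,2,2,4,0,3,6,4,1,5,2,0,5,3], [1,4,4,4,0,3,4,4,2,2,4,4,4,4,3,5,1,5,0,4,1,4,0,5,1,5,0,4,1,4,0,0,2,0,2,0,3,3,0,2,2,0,3,3,4,1,4,0,3,4,4,4,2,2,4,2,0,3,0,3,0,3,6,4,0,5,2,2,0,5], [], .loop 0 [1,4,4,4,0,3,4,4,2,2,4,4,4,4,3,5,1,5,0,4,1,4,0,5,1,5,0,4,1,4,0,0,2,0,2,0,3,3,0,2,2,0,3,3,1,4,0,3,4,4,2,2,4,0,2,0,3,3,0,3,6,4,1,7,5,1] 29 1 40 false [.lett 5, .lett 4, .lett 3, .lett 0, .lett 3, .lett 0, .lett 7, .lett 4, .lett 3, .stab 3 false, .stab 0 false, .stab 1 false, .stab 2 false, .stab 2 false, .stab 1 false, .stab 1 false, .stab 2 false, .stab 3 false, .edge 9 [5,4,6,7,5,7,3], .lett 4, .lett 4, .lett 0, .lett 6, .stab 10 false, .stab 15 false, .stab 15 false, .stab 11 false,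 .stab 11 false, .stab 15 false, .stab 11 false, .stab 10 false, .stab 10 false, .stab 15 false, .edge 89 [5,6,7,6], .coin 90, .lett 2, .lett 4, .lett 3, .stab 50 false, .stab 46 false, .edge 47 [6,0,5,5,7,5,6,3], .lett 3, .lett 1, .lett 2, .lett 5, .lett 3, .lett 0, .lett 2, .lett 7, .lett 1, .lett 5, .lett 5, .edge 224 [1,5,5,5,6,7,6,5,0,6], .lett 2, .lett 5, .lett 6, .lett 1, .lett 2, .lett 1, .lett 2, .lett 5, .lett 4] [.stab 3 false, .stab 3 false, .stab 1 false, .stab 0 false, .stab 2 false, .stab 3 false, .stab 1 false, .stab 2 false, .stab 3 false, .edge 12 [1,7,5,7,2,0,7,6], .edge 213 [1,5,7,6,2,2], .coin 215] []⟩]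

/-- all facts -/
def cFacts : List Fact := cf0 ++ cf1 ++ cf2 ++ cf3 ++ cf4 ++ cf5 ++ cf6 ++ cf7 ++ cf8 ++ cf9 ++ cf10 ++ cf11 ++ cf12 ++ cf13 ++ cf14

end CfsgLib.KnownB.LyMult
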