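import Cfsg.Agent.Lib.DCE.Check

/-!
Setup of a double coset enumeration of the Lyons group over a subgroup G2(5) (generated data).
-/

namespace CfsgLib.KnownB.LyMult

open CfsgLib.PresCert CfsgLib.DCE

/-- inverse letters -/
def linvL : List Nat := [1,0,3,2,5,4,7,6,9,8]

/-- inverse of a word -/
def invL (w : List Nat) : List Nat := w.reverse.map fun x => linvL.getD x 0

/-- word of a generator -/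
def w_c1 : List Nat := [4]

/-- word of a generator -/
def w_c2 : List Nat := [1,4,0]

/-- word of a generator -/
def w_c3 : List Nat := [3,4,2]

/-- word of a generator -/
def w_c4 : List Nat := [2,4,3]

/-- word of a generator -/
def w_c5 : List Nat := [5,1,5,0,4,1,4,0]

/-- word of a generator -/
def w_a1 : List Nat := [0]

/-- word of a generator -/
def w_a2 : List Nat := [2,0,3]

/-- word of a generator -/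
def w_a3 : List Nat := [2,2,0,3,3]

/-- word of a generator -/
def w_a4 : List Nat := [3,3,0,2,2]

/-- word of a generator -/
def w_u : List Nat := [0,0]

/-- word of a generator -/
def w_x23 : List Nat := [6]

/-- word of a generator -/
def w_x24 : List Nat := [7]

/-- word of a generator -/
def w_x25 : List Nat := [2,2,1,3,1,2,2,5,0,4,1,5,6,5,2,2,1,4,2]

/-- word of a generator -/
def w_x29 : List Nat := [0,2,1,2,2,1,2,2,5,0,4,2,4,3,6,4,3,3,6,4,2,4]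

/-- word of a generator -/
def w_x47 : List Nat := [5,7,1,5,1,2,5,7]

/-- word of a generator -/
def w_x96 : List Nat := [2,6]

/-- word of a generator -/
def w_x129 : List Nat := [7,3]

/-- word of a generator -/
def w_x162 : List Nat := [1,3,1,2,5,3,0,5,2,0]

/-- word of a generator -/
def w_x163 : List Nat := [3,3,0,4,1,2,4,2]

/-- word of a generator -/
def w_x164 : List Nat := [1,3,1,4,0,2,0]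

/-- word of a generator -/
def w_x165 : List Nat := [3,1,2,4,3,0,2]

/-- word of a generator -/
def w_x166 : List Nat := [2,2,1,3,4,2,0,4,3,3,5]

/-- word of a generator -/
def w_x167 : List Nat := [1,1,1]

/-- word of a generator -/
def w_x168 : List Nat := [2,1,3,1,1]

/-- word of a generator -/
def w_x169 : List Nat := [0,2,2,0,3,3,1]

/-- word of a generator -/
def w_x364 : List Nat := [1,6,3,5,1,2,5,7,2,5,3,1,5,0,3,0,2,0,3]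

/-- word of a generator -/
def w_x365 : List Nat := [0,3,3,1,4,2,5,2,1,5,5,6,4,0,4,1,4,3,7]

/-- word of a generator -/
def w_x366 : List Nat := [2,0,3,1,3,3,1,3,4,2,2,4,2,6,4,3,3,6,4,2,4]

/-- word of a generator -/
def w_x367 : List Nat := [5,3,5,7,2,2,5,7,3,5,3,3,5,2,0,2,2,0,2,1,3]

/-- word of a generator -/
def w_x368 : List Nat := [1,5,7,0,5,3,0,5,7,1,5,0,4,3,3,5,3,1,3,3]

/-- word of a generator -/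
def w_x369 : List Nat := [1,5,7,2,1,3,5,7,2,1,3,5,3,0,3,3,0,3]

/-- word of a generator -/
def w_x370 : List Nat := [7,0,4,2,4,1,5,7,0,3,1,4,1,3,3,1,2,1]

/-- word of a generator -/
def w_x371 : List Nat := [5,1,4,2,5,7,4,1,4,0,4,3,1,3,1,2]

/-- reduced relators involving the last generator (`8`) -/
def body : List (List Nat) :=
  [[9,4,8,1,3,4,1,2,4,3,0,2,0],
   [9,1,4,0,8,3,5,3,0,5,1,2,2],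
   [9,3,4,2,8,1,3,1,5,0,2,0],
   [9,2,4,3,8,3,1,2,5,3,0,2],
   [9,5,1,5,0,4,1,4,0,8,4,2,2,5,1,3,5,2,0,3,3],
   [9,0,8,0,0,0],
   [9,2,0,3,8,0,0,2,0,3],
   [9,2,2,0,3,3,8,0,2,2,1,3,3,1],
   [8,8,1,1],
   [3,3,0,2,2,8,3,3,0,2,2,8,3,3,0,2,2,8,0,0],
   [5,7,1,5,1,2,5,7,8,1,6,3,5,1,2,5,7,2,5,3,1,5,0,3,0,2,0,3,8,1,5,7,0,5,3,0,5,7,1,5,0,4,3,3,5,3,1,3,3,8],
   [9,7,9,1,5,7,2,1,3,5,7,2,1,3,5,3,0,3,3,0,3,8,6,8,0,2,1,2,2,1,2,2,5,0,4,2,4,3,6,4,3,3,6,4,2,4],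
   [8,2,0,3,1,3,3,1,3,4,2,2,4,2,6,4,3,3,6,4,2,4,8,0,3,3,1,4,2,5,2,1,5,5,6,4,0,4,1,4,3,7,9,5,3,5,7,2,2,5,7,3,5,3,3,5,2,0,2,2,0,2,1,3,9,7,0,4,2,4,1,5,7,0,3,1,4,1,3,3,1,2,1],
   [8,2,6,8,2,2,1,3,1,2,2,5,0,4,1,5,6,5,2,2,1,4,2,9,7,3,9,5,1,4,2,5,7,4,1,4,0,4,3,1,3,1,2]]

/-- their conjugators -/
def cjw : List (List Nat) :=
  [[],
   [],
   [],
   [],
   [],
   [],
   [],
   [],
   [],
   [],
   [],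
   [],
   [],
   []]

/-- prefixes of the conjugated relators -/
def pres : List (Nat × List Nat) :=
  [(0, [8,6,1,2]),
   (0, [8,5,7,4,2,2]),
   (0, [8,0,5,1,0,6,3,1]),
   (0, [8,4,2,1,6,0,1,1,6,4,8,4,4,4,0]),
   (1, [8,3,5,6]),
   (1, [8,4,6,7,1,2]),
   (1, [8,1,0,1,1,6,5,5]),
   (1, [8,1,5,7,4,6,1,1,0,2,8,0,6,4,6]),
   (2, [8,3,4,6]),
   (2, [8,2,5,6,7,1]),
   (2, [8,4,3,5,3,6,3,2]),
   (2, [8,0,6,1,6,2,3,4,1,7,8,0,0,4,0]),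
   (3, [8,1,3,0]),
   (3, [8,3,1,3,4,5]),
   (3, [8,2,1,6,7,1,4,1]),
   (3, [8,5,4,3,0,3,0,7,4,3,8,4,4,0,6]),
   (4, [8,6,5,6]),
   (4, [8,2,0,0,0,4]),
   (4, [8,4,0,7,6,3,0,2]),
   (4, [8,1,5,6,7,6,6,7,5,7,8,0,2,6,6]),
   (5, [8,6,5,6]),
   (5, [8,7,6,0,0,1]),
   (5, [8,1,6,6,6,5,1,4]),
   (5, [8,3,0,3,2,5,0,7,5,2,8,6,2,2,4]),
   (6, [8,1,7,3]),
   (6, [8,5,6,1,3,5]),
   (6, [8,7,2,1,6,0,5,4]),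
   (6, [8,1,0,4,7,7,5,5,6,0,8,2,2,0,4]),
   (7, [8,2,5,5]),
   (7, [8,6,0,6,4,3]),
   (7, [8,7,7,0,2,0,2,7]),
   (7, [8,1,4,0,3,2,0,1,3,2,8,0,6,6,2]),
   (8, [8,1,5,6]),
   (8, [8,7,5,2,2,2]),
   (8, [8,3,5,5,7,2,6,1]),
   (8, [8,7,5,2,4,3,4,4,4,3,8,6,4,4,0]),
   (9, [8,4,0,1]),
   (9, [8,2,2,7,7,2]),
   (9, [8,6,5,1,3,6,4,0]),
   (9, [8,0,3,7,1,7,7,5,4,1,8,4,4,2,6]),
   (10, [8,2,4,4]),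
   (10, [8,1,3,6,3,2]),
   (10, [8,2,5,4,3,3,3,4]),
   (10, [8,1,0,0,2,3,2,4,4,7,8,0,0,2,6]),
   (11, [8,6,1,5]),
   (11, [8,6,7,6,1,3]),
   (11, [8,6,3,7,5,5,3,1]),
   (11, [8,7,5,0,1,4,7,3,5,5,8,0,2,0,6]),
   (12, [8,3,1,2]),
   (12, [8,1,7,6,7,2]),
   (12, [8,4,6,2,1,4,0,4]),
   (12, [8,5,1,0,6,4,2,6,0,3,8,0,0,4,0]),
   (13, [8,1,4,4]),
   (13, [8,5,4,2,3,0]),
   (13, [8,4,5,4,6,1,7,2]),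
   (13, [8,5,4,4,1,5,1,5,3,4,8,6,0,6,0])]

/-- relators and conjugates -/
def rel70 : List (List Nat) :=
  body ++ pres.map fun q => q.2 ++ body.getD q.1 [] ++ invL q.2

/-- all the relators -/
def rels143 : List (List Nat) := rel70 ++ rel70.map invL ++ [[8, 9], [9, 8], []]

/-- edge stabiliser words -/
def src0 : List (List Nat) :=
  [[4],
   [1,4,0],
   [3,4,2],
   [2,4,3],
   [5,1,5,0,4,1,4,0],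
   [0],
   [2,0,3],
   [2,2,0,3,3]]

/-- edge stabiliser words -/
def img0 : List (List Nat) :=
  [[1,3,1,2,5,3,0,5,2,0],
   [3,3,0,4,1,2,4,2],
   [1,3,1,4,0,2,0],
   [3,1,2,4,3,0,2],
   [2,2,1,3,4,2,0,4,3,3,5],
   [1,1,1],
   [2,1,3,1,1],
   [0,2,2,0,3,3,1]]

/-- edge stabiliser words -/
def src1 : List (List Nat) :=
  [[4],
   [1,4,0],
   [3,4,2],
   [2,4,3],
   [5,1,5,0,4,1,4,0],
   [0],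
   [2,0,3],
   [2,2,0,3,3]]

/-- edge stabiliser words -/
def img1 : List (List Nat) :=
  [[0,3,1,2,5,3,0,5,2,1],
   [0,0,3,3,0,4,1,2,4,2,1,1],
   [0,3,1,4,0,2,1],
   [0,0,3,1,2,4,3,0,2,1,1],
   [0,0,2,2,1,3,4,2,0,4,3,3,5,1,1],
   [1,1,1],
   [0,0,2,1,3,1,1,1,1],
   [0,0,0,2,2,0,3,3,1,1,1]]

/-- the setup over a permutation representation of `⟨a, b, c, d⟩` on 3906 + 19530 points -/
def mkSetup (P : PermData) (base : List Nat) : Setup where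
  P := P
  base := base
  edges := [⟨3906, src0, img0⟩, ⟨3906, src1, img1⟩]
  lets := [(0, []), (1, [])]
  linv := linvL
  rels := rels143
  defs := [(0, 0, []),
    (1, 0, [0,0,0,0,3,6]),
    (1, 0, [6,4,6]),
    (1, 0, [0,0,0,0,6]),
    (4, 0, [3,4,4,4,4,2,0,0,0,0,3,6]),
    (4, 0, [4,1,4,4,0,3,4,4,4,2,2,4,3,5,1,5,0,4,1,4,0,0,4,1,4,0,3,4,4,2,0,0,6]),
    (1, 1, [0,0,0,0,6]),
    (3, 0, [1,4,0,3,4,2,2,4,3,0,0,0,0,0,2,0,3,4,4,1,5,0,4,1,4,0,0,0,0,2,0,3,0,2,6]),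
    (3, 1, [4,4,4,4,0,0,0,0,6]),
    (3, 1, [4,3,4,4,4,4,2,0,0,0,0,3,6]),
    (4, 0, [4,4,4,1,4,4,4,4,0,3,4,4,4,4,2,2,4,4,3,5,1,5,0,4,1,4,0,5,1,5,0,4,1,4,0,5,1,5,0,4,1,4,0,5,1,5,0,4,1,4,0,0,0,0,0,0,4,2,4,4,4,3,3,6]),
    (4, 1, [4,1,4,4,0,3,4,4,4,2,2,4,3,5,1,5,0,4,1,4,0,0,4,1,4,4,4,4,0,3,4,4,2,0,0,6]),
    (3, 0, [4,1,4,4,0,3,4,4,4,2,2,4,3,5,1,5,0,4,1,4,0,0,4,1,4,4,4,4,0,3,4,4,2,0,0,6]),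
    (3, 1, [3,6,4,6]),
    (2, 0, [4,4,4,4,0,0,0,0,6]),
    (2, 0, [4,4,4,4,1,4,4,4,0,0,0,0,0,0,6]),
    (2, 0, [4,6,4,6]),
    (2, 0, [1,4,0,2,4,4,4,3,5,1,5,0,4,1,4,0,0,0,0,4,4,4,1,4,0,2,4,4,3,0,2,2,6]),
    (2, 0, [6,4,1,4,6]),
    (2, 1, [2,4,4,4,4,3,0,0,0,0,6]),
    (2, 1, [6,4,3,6]),
    (2, 1, [4,1,4,4,0,3,4,4,4,2,2,4,3,5,1,5,0,4,1,4,0,0,4,1,4,0,3,4,4,2,0,0,6]),
    (2, 1, [1,4,0,2,4,4,4,3,5,1,5,0,4,1,4,0,0,0,0,4,4,3,4,4,2,2,4,3,0,2,6]),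
    (2, 1, [1,4,0,2,4,4,4,3,5,1,5,0,4,1,4,0,0,0,0,4,4,3,4,4,2,2,4,3,0,6]),
    (2, 1, [1,4,0,2,4,4,4,3,5,1,5,0,4,1,4,0,0,0,0,4,4,3,4,4,2,2,4,3,0,2,2,6]),
    (2, 1, [4,4,4,3,4,4,2,2,4,4,3,5,1,5,0,4,1,4,0,0,0,0,0,0,0,2,0,3,4,4,4,3,4,4,2,2,4,4,3,0,0,2,0,3,3,0,6]),
    (4, 0, [4,1,4,0,2,4,3,5,1,5,0,4,1,4,0,5,1,5,0,4,1,4,0,0,0,2,0,3,4,1,4,4,0,3,4,4,4,4,2,2,4,4,0,3,3,0,6]),
    (3, 1, [4,1,4,4,0,3,4,4,4,2,2,4,3,5,1,5,0,4,1,4,0,0,4,3,4,4,2,0,0,6]),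
    (3, 0, [4,0,0,0,0,2,2,0,3,0,3,0,3,0,6]),
    (3, 1, [4,0,0,0,0,2,2,0,3,0,3,0,3,0,6]),
    (3, 1, [1,4,0,0,0,0,2,6]),
    (3, 1, [4,4,4,4,3,4,4,2,5,1,5,0,4,1,4,0,5,1,5,0,4,1,4,0,2,2,0,3,3,0,2,2,0,3,3,4,1,4,4,0,3,4,4,2,2,4,3,0,0,0,0,3,6]),
    (2, 0, [3,4,4,4,4,2,0,0,0,0,3,6]),
    (2, 0, [3,4,4,4,4,2,0,0,0,0,6]),
    (2, 0, [4,1,4,0,2,4,3,5,1,5,0,4,1,4,0,5,1,5,0,4,1,4,0,0,0,2,0,3,4,1,4,4,0,3,4,4,4,2,2,0,3,6]),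
    (2, 1, [4,4,4,1,4,4,4,4,0,3,4,4,4,4,2,2,4,4,3,5,1,5,0,4,1,4,0,5,1,5,0,4,1,4,0,5,1,5,0,4,1,4,0,5,1,5,0,4,1,4,0,0,0,0,0,0,4,2,4,4,4,3,6]),
    (2, 1, [4,4,4,4,1,4,4,4,0,2,4,4,4,4,3,5,1,5,0,4,1,4,0,5,1,5,0,4,1,4,0,5,1,5,0,4,1,4,0,0,0,0,2,0,3,0,4,4,4,0,2,0,2,0,3,3,0,2,0,3,0,3,0,6]),
    (2, 1, [4,1,4,0,2,4,3,5,1,5,0,4,1,4,0,5,1,5,0,4,1,4,0,0,0,2,0,3,4,1,4,4,0,3,4,4,4,2,2,0,3,6]),
    (3, 0, [1,4,0,0,0,0,6]),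
    (3, 0, [1,4,4,0,0,0,0,0,0,3,6]),
    (3, 1, [1,4,4,0,0,0,0,0,0,6]),
    (3, 1, [2,4,4,4,4,6,4,6]),
    (2, 0, [3,4,4,4,4,2,0,0,0,2,0,2,0,3,3,3,6]),
    (2, 0, [4,4,4,4,1,4,0,3,4,4,2,2,4,4,4,3,5,1,5,0,4,1,4,0,5,1,5,0,4,1,4,0,5,1,5,0,4,1,4,0,0,0,0,4,0,3,4,4,2,2,4,4,4,4,2,6]),
    (2, 1, [4,4,4,1,4,4,4,4,0,3,4,4,4,4,2,2,4,4,3,5,1,5,0,4,1,4,0,5,1,5,0,4,1,4,0,5,1,5,0,4,1,4,0,5,1,5,0,4,1,4,0,0,0,0,0,0,4,2,4,4,4,3,3,6]),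
    (4, 1, [3]),
    (4, 1, [1,4,0,2,4,4,4,3,5,1,5,0,4,1,4,0,0,0,0,3,4,4,2,2,4,4,3,0,2,0,3,6]),
    (2, 0, [4,4,4,4,1,4,0,3,4,4,2,2,4,4,4,3,5,1,5,0,4,1,4,0,5,1,5,0,4,1,4,0,5,1,5,0,4,1,4,0,0,0,0,4,0,3,4,4,2,2,4,4,4,4,6]),
    (1, 1, [6,4,3,0,4,6]),
    (3, 1, [3]),
    (2, 1, [3]),
    (4, 0, [0,0,0,0,6]),
    (52, 0, [4,4,4,4,0,0,0,0,3,6]),
    (52, 0, [3,4,4,4,4,2,0,0,0,0,3,6]),
    (4, 1, []),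
    (2, 0, []),
    (2, 1, []),
    (2, 1, [2]),
    (3, 0, []),
    (3, 1, []),
    (3, 0, [1,4,4,4,4,0,3,4,4,4,4,2,2,4,4,4,3,5,1,5,0,4,1,4,0,0,0,0,0,2,0,3,4,1,4,0,3,4,2,6,4,6]),
    (1, 1, [3]),
    (1, 0, []),
    (1, 1, [])]

end CfsgLib.KnownB.LyMult
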