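import Cfsg.Agent.Lib.DCE.Check

/-!
Exponents of five central values along the enumeration (generated data).
-/

namespace CfsgLib.KnownB.LyMult

open CfsgLib.PresCert CfsgLib.DCE

/-- weights of the facts -/
def cWts : List (List Int) :=
  [[0,0,0,0,0],
   [0,0,0,0,0],
   [0,0,0,0,0],
   [0,0,0,0,0],
   [0,0,0,0,0],
   [0,0,0,0,0],
   [0,0,0,0,0],
   [0,0,0,0,0],
   [0,0,0,0,0],
   [0,0,0,0,0],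
   [0,0,0,0,0],
   [0,0,0,0,0],
   [-1,0,0,0,0],
   [-1,1,0,0,0],
   [2,-1,0,0,0],
   [2,-1,0,0,0],
   [0,0,0,0,0],
   [0,0,0,0,0],
   [0,0,0,0,0],
   [-1,0,0,0,0],
   [0,0,0,0,1],
   [3,-2,0,0,2],
   [6,-3,0,0,0],
   [1,0,0,0,4],
   [0,0,0,0,0],
   [3,-1,0,0,2],
   [0,0,0,0,2],
   [-2,1,0,0,2],
   [1,-1,0,0,3],
   [-1,1,0,0,1],
   [8,-4,0,0,9],
   [0,-1,0,0,3],
   [-5,3,0,0,0],
   [0,0,0,0,0],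
   [-4,2,0,0,0],
   [0,0,0,0,0],
   [-2,1,0,1,0],
   [2,-1,0,1,0],
   [-1,0,0,0,0],
   [3,-2,0,0,0],
   [8,-4,0,-1,2],
   [2,-1,0,0,0],
   [8,-4,1,0,0],
   [0,0,0,0,0],
   [-4,2,0,0,0],
   [0,0,0,0,0],
   [0,0,0,0,0],
   [7,-3,0,1,0],
   [-4,2,0,0,0],
   [3,-1,0,0,2],
   [-4,2,1,0,0],
   [8,-4,0,1,5],
   [-5,2,0,0,0],
   [-11,6,0,4,0],
   [-2,1,0,0,-5],
   [1,-1,0,1,2],
   [-8,4,0,1,-6],
   [-5,2,0,5,-1],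
   [5,-2,0,7,9],
   [3,-2,0,0,2],
   [-12,7,-1,7,2],
   [5,-3,0,0,2],
   [-15,8,3,0,0],
   [-22,11,2,0,3],
   [-25,12,3,-1,-1],
   [16,-8,-1,1,4],
   [4,-2,0,0,1],
   [-2,1,0,-2,-5],
   [-6,3,0,8,1],
   [-18,9,1,0,-6],
   [-7,4,0,2,-7],
   [-20,10,1,1,-10],
   [4,-2,2,5,12],
   [1,0,1,3,0],
   [5,-2,0,3,8],
   [-1,1,2,4,11],
   [-16,8,0,0,-10],
   [9,-5,-1,3,8],
   [-9,4,0,2,-8],
   [-5,2,0,5,0],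
   [-20,10,2,0,-1],
   [0,0,0,0,0],
   [8,-3,-1,5,9],
   [-15,8,1,0,-1],
   [-5,2,3,0,-4],
   [-27,14,3,-2,-15],
   [0,0,0,0,0],
   [-24,12,3,-1,0],
   [-42,22,5,-4,-16],
   [0,0,0,0,0],
   [-16,8,3,0,0],
   [0,0,0,0,0],
   [1,0,0,9,1],
   [-4,2,0,-2,-1],
   [3,-1,0,6,0],
   [-4,2,1,0,5],
   [2,-2,-1,7,16],
   [0,0,0,0,0],
   [-9,4,0,-4,-2],
   [0,0,0,0,0],
   [-4,2,-1,5,-2],
   [0,0,0,0,0],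
   [1,0,0,1,3],
   [10,-5,-2,0,0],
   [-1,1,0,0,0],
   [0,0,0,0,0],
   [-3,0,0,1,-8],
   [0,0,0,0,0],
   [-1,0,0,0,0],
   [-33,18,5,4,12],
   [0,0,0,0,0],
   [-5,2,-1,5,0],
   [0,0,0,0,0],
   [-5,3,1,0,0],
   [0,0,0,0,0],
   [0,0,0,3,-2],
   [-8,4,0,-4,-1],
   [0,0,0,0,0],
   [1,-1,0,0,1],
   [0,0,0,0,0],
   [5,-1,0,0,2],
   [0,0,0,0,0],
   [-18,9,0,-9,-8],
   [0,0,0,0,0],
   [-72,38,11,-1,32],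
   [0,0,0,0,0],
   [-10,5,0,1,-8],
   [90,-48,-9,12,-10],
   [0,0,0,0,0],
   [22,-12,-5,1,-13],
   [4,0,7,11,32],
   [0,0,0,0,0],
   [51,-27,-11,9,-14],
   [0,0,0,0,0],
   [28,-14,-1,1,7],
   [0,0,0,0,0],
   [5,-3,0,1,4],
   [0,0,0,0,0],
   [-5,3,0,7,5],
   [0,0,0,0,0],
   [1,1,4,0,-10],
   [0,0,0,0,0],
   [23,-12,-4,10,16],
   [0,0,0,0,0],
   [9,-4,-1,4,5],
   [0,0,0,0,0],
   [-23,11,1,-2,-7],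
   [1,-1,2,4,6],
   [0,0,0,0,0],
   [16,-7,0,7,4],
   [0,0,0,0,0],
   [-6,4,1,8,0],
   [0,0,0,0,0],
   [-50,25,11,-9,22],
   [55,-28,-11,3,-21],
   [0,0,0,0,0],
   [17,-9,0,-2,14],
   [0,0,0,0,0],
   [-46,24,8,3,-11],
   [0,0,0,0,0],
   [-2,1,0,-5,4],
   [0,0,0,0,0],
   [0,0,0,0,1],
   [0,0,0,0,0],
   [24,-14,-5,2,-12],
   [0,0,0,0,0],
   [2,0,-5,2,4],
   [0,0,0,0,0],
   [6,-2,0,-3,11],
   [0,0,0,0,0],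
   [45,-24,-12,6,-24],
   [0,0,0,0,0],
   [37,-17,2,4,6],
   [0,0,0,0,0],
   [6,-3,0,8,8],
   [0,0,0,0,0],
   [5,-2,0,0,3],
   [0,0,0,0,0],
   [37,-19,-5,-9,5],
   [0,0,0,0,0],
   [26,-14,-1,0,2],
   [0,0,0,0,0],
   [-9,4,3,2,7],
   [0,0,0,0,0],
   [-9,5,0,0,-1],
   [0,0,0,0,0],
   [3,-2,0,0,0],
   [0,0,0,0,0],
   [-16,9,1,1,-1],
   [0,0,0,0,0],
   [12,-8,0,-10,-8],
   [0,0,0,0,0],
   [0,0,0,0,0],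
   [0,0,0,0,0],
   [85,-44,-7,11,-16],
   [98,-50,-8,11,-11],
   [76,-39,-7,12,-16],
   [0,0,0,0,0],
   [-25,13,2,-1,1],
   [0,0,0,0,0],
   [9,-4,0,0,0],
   [0,0,0,0,0],
   [30,-16,-3,0,-1],
   [0,0,0,0,0],
   [-22,13,-2,-4,-11],
   [0,0,0,0,0],
   [56,-29,-7,3,-15],
   [0,0,0,0,0],
   [6,-4,-1,2,-1],
   [0,0,0,0,0],
   [-9,5,1,3,4],
   [0,0,0,0,0],
   [0,0,0,0,0],
   [0,0,0,0,0],
   [-2,1,0,0,0],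
   [1,0,0,0,0],
   [2,-1,0,0,0],
   [-43,22,6,-3,16],
   [1,-1,-1,-1,0],
   [11,-6,-3,-1,0],
   [-43,22,6,1,16],
   [-53,28,7,-1,15],
   [-16,9,3,0,3],
   [-53,29,8,-4,16],
   [0,0,0,0,0],
   [13,-7,-2,-1,0]]

/-- exponents of the relators involving the last generator -/
def err14 : List (List Int) :=
  [[0,0,0,0,0], [0,0,0,0,0], [0,0,0,0,0], [0,0,0,0,0], [0,0,0,0,0], [0,0,0,0,0], [0,0,0,0,0], [0,0,0,0,0], [1,0,0,0,0], [1,0,0,0,0], [0,1,0,0,0], [0,0,1,0,0], [0,0,0,1,0], [0,0,0,0,1]]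

/-- the facts giving equations -/
def killF : List Nat := [216,217,218,219,220,221,222,223]

/-- combinations giving the units -/
def combo : List (List Int) :=
  [[198,0,117,45,6,0,176,-39], [395,0,234,90,12,0,352,-78], [-160,0,-96,-37,-5,0,-144,32], [-37,0,-22,-8,-1,0,-32,7], [31,0,18,7,1,0,27,-6]]

end CfsgLib.KnownB.LyMult
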